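import Mathlib.AlgebraicGeometry.Morphisms.FlatDescent
import Mathlib.AlgebraicGeometry.Morphisms.LocalFlatDescent
import Mathlib.AlgebraicGeometry.Fiber
import Mathlib.FieldTheory.IsAlgClosed.AlgebraicClosure
import Mathlib.CategoryTheory.Monoidal.Cartesian.Over
import Groth.Agent.S2759

/-!
# Geometric fibres of morphisms of `S`-schemes
-/

set_option autoImplicit false

universe u

open CategoryTheory CategoryTheory.Limits MonoidalCategory CartesianMonoidalCategory AlgebraicGeometry

namespace K448.FibreBC

variable {S : Scheme.{u}}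

/-- Base change of a morphism over `S`. -/
theorem isPullback_map_left {S' : Scheme.{u}} (t : S' ⟶ S) {A B : Over S} (f : A ⟶ B) :
    IsPullback (pullback.fst A.hom t) ((Over.pullback t).map f).left f.left
      (pullback.fst B.hom t) := by
  have h1 : IsPullback (pullback.fst B.hom t) (pullback.snd B.hom t) B.hom t :=
    IsPullback.of_hasPullback _ _
  refine IsPullback.of_bot (v₂₁ := pullback.snd B.hom t) (v₂₂ := B.hom) (h₃₁ := t) ?_ ?_ h1
  · have h2 : IsPullback (pullback.fst A.hom t) (pullback.snd A.hom t) A.hom t :=
      IsPullback.of_hasPullback _ _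
    have e1 : ((Over.pullback t).map f).left ≫ pullback.snd B.hom t = pullback.snd A.hom t :=
      Over.w ((Over.pullback t).map f)
    rw [e1, Over.w f]
    exact h2
  · change pullback.fst A.hom t ≫ f.left = pullback.lift (pullback.fst A.hom t ≫ f.left)
      (pullback.snd A.hom t) _ ≫ pullback.fst B.hom t
    exact (pullback.lift_fst _ _ _).symm

/-- The comparison of a geometric fibre with the fibre. -/
theorem exists_fibre_cover (B : Over S) (s : S) {K : Type u} [Field K]
    (φ : S.residueField s ⟶ CommRingCat.of K) :
    ∃ q : pullback B.hom (Spec.map φ ≫ S.fromSpecResidueField s) ⟶ B.hom.fiber s,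
      Flat q ∧ Surjective q ∧ QuasiCompact q ∧
      q ≫ B.hom.fiberι s = pullback.fst B.hom (Spec.map φ ≫ S.fromSpecResidueField s) := by
  have h1 : IsPullback (pullback.fst B.hom (S.fromSpecResidueField s))
    (pullback.snd B.hom (S.fromSpecResidueField s)) B.hom (S.fromSpecResidueField s) :=
    IsPullback.of_hasPullback _ _
  have h2 : IsPullback (pullback.fst B.hom (Spec.map φ ≫ S.fromSpecResidueField s))
    (pullback.snd B.hom (Spec.map φ ≫ S.fromSpecResidueField s)) B.hom
      (Spec.map φ ≫ S.fromSpecResidueField s) :=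
    IsPullback.of_hasPullback _ _
  have e : pullback.fst B.hom (Spec.map φ ≫ S.fromSpecResidueField s) ≫ B.hom =
      (pullback.snd B.hom (Spec.map φ ≫ S.fromSpecResidueField s) ≫ Spec.map φ) ≫
        S.fromSpecResidueField s := by
    rw [Category.assoc, pullback.condition]
  let q : pullback B.hom (Spec.map φ ≫ S.fromSpecResidueField s) ⟶
    pullback B.hom (S.fromSpecResidueField s) := h1.lift _ _ e
  have hq1 : q ≫ pullback.fst B.hom (S.fromSpecResidueField s) = _ := h1.lift_fst _ _ e
  have hq2 : q ≫ pullback.snd B.hom (S.fromSpecResidueField s) = _ := h1.lift_snd _ _ e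
  have h3 : IsPullback q (pullback.snd B.hom (Spec.map φ ≫ S.fromSpecResidueField s))
      (pullback.snd B.hom (S.fromSpecResidueField s)) (Spec.map φ) := by
    refine IsPullback.of_right (h₁₂ := pullback.fst B.hom (S.fromSpecResidueField s))
      (v₁₃ := B.hom) (h₂₂ := S.fromSpecResidueField s) ?_ hq2 h1
    rw [hq1]
    exact h2
  let : Field (S.residueField s) := inferInstance
  have hflat : Flat (Spec.map φ) := by
    algebraize [φ.hom]
    exact Flat.SpecMap_iff.mpr (show φ.hom.Flat from
      inferInstanceAs (Module.Flat (S.residueField s) K))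
  have hsurj : Surjective (Spec.map φ) := by
    refine ⟨fun x => ?_⟩
    exact ⟨IsLocalRing.closedPoint K, Subsingleton.elim (α := PrimeSpectrum (S.residueField s)) _ _⟩
  have hqc : QuasiCompact (Spec.map φ) := inferInstance
  exact ⟨q, MorphismProperty.of_isPullback h3.flip hflat, MorphismProperty.of_isPullback h3.flip hsurj,
    MorphismProperty.of_isPullback h3.flip hqc, hq1⟩

/-- A property descending along fpqc covers passes from a geometric fibre to the fibre. -/
theorem fibre_of_geomFibre (P : MorphismProperty Scheme.{u}) [P.IsStableUnderBaseChange]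
    [P.DescendsAlong (@Surjective ⊓ @Flat ⊓ @QuasiCompact)] {A B : Over S} (f : A ⟶ B) (s : S)
    {K : Type u} [Field K] (φ : S.residueField s ⟶ CommRingCat.of K)
    (h : P ((Over.pullback (Spec.map φ ≫ S.fromSpecResidueField s)).map f).left) :
    P (pullback.snd f.left (B.hom.fiberι s)) := by
  obtain ⟨q, h1, h2, h3, h4⟩ := exists_fibre_cover B s φ
  have h5 := isPullback_map_left (Spec.map φ ≫ S.fromSpecResidueField s) f
  have h6 : IsPullback (pullback.fst f.left (B.hom.fiberι s)) (pullback.snd f.left (B.hom.fiberι s))
    f.left (B.hom.fiberι s) := IsPullback.of_hasPullback _ _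
  have e : pullback.fst A.hom (Spec.map φ ≫ S.fromSpecResidueField s) ≫ f.left =
      (((Over.pullback (Spec.map φ ≫ S.fromSpecResidueField s)).map f).left ≫ q) ≫
        B.hom.fiberι s := by
    rw [Category.assoc, h4]
    exact h5.w
  have h7 : IsPullback (h6.lift _ _ e) ((Over.pullback (Spec.map φ ≫ S.fromSpecResidueField s)).map f).left
      (pullback.snd f.left (B.hom.fiberι s)) q := by
    refine IsPullback.of_right (h₁₂ := pullback.fst f.left (B.hom.fiberι s))
      (v₁₃ := f.left) (h₂₂ := B.hom.fiberι s) ?_ (h6.lift_snd _ _ e) h6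
    rw [h6.lift_fst _ _ e, h4]
    exact h5
  exact MorphismProperty.of_isPullback_of_descendsAlong (P := P)
    (Q := @Surjective ⊓ @Flat ⊓ @QuasiCompact) h7.flip ⟨⟨h2, h1⟩, h3⟩ h

/-- A morphism of finitely presented `S`-schemes with flat source is an isomorphism if its geometric
fibres are. -/
theorem isIso_of_geomFibres {A B : Over S} (f : A ⟶ B) [LocallyOfFinitePresentation A.hom]
    [LocallyOfFinitePresentation B.hom] [Flat A.hom]
    (h : ∀ (K : Type u) [Field K] [IsAlgClosed K] (t : Spec (CommRingCat.of K) ⟶ S),
      IsIso ((Over.pullback t).map f)) : IsIso f := by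
  have h1 : IsIso f.left := by
    refine (Groth.Agent.S2759.result B.hom A.hom f.left (Over.w f)).2.mpr fun s => ?_
    let φ : S.residueField s ⟶ CommRingCat.of (AlgebraicClosure (S.residueField s)) :=
      CommRingCat.ofHom (algebraMap (S.residueField s) (AlgebraicClosure (S.residueField s)))
    have h2 := h (AlgebraicClosure (S.residueField s)) (Spec.map φ ≫ S.fromSpecResidueField s)
    refine fibre_of_geomFibre (MorphismProperty.isomorphisms Scheme) f s φ ?_
    exact inferInstanceAs (IsIso ((Over.forget _).map
      ((Over.pullback (Spec.map φ ≫ S.fromSpecResidueField s)).map f)))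
  have h3 : IsIso ((Over.forget S).map f) := h1
  exact isIso_of_reflects_iso f (Over.forget S)

end K448.FibreBC
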