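import Groth.Agent.AbSch.K448.RigidOver

/-!
# Pointed morphisms from an abelian scheme to a separated group scheme are homomorphisms
-/

set_option autoImplicit false

universe u

open CategoryTheory CategoryTheory.Limits MonoidalCategory CartesianMonoidalCategory MonObj GrpObj
  AlgebraicGeometry

namespace K448.PointedHom

open K448.RigidOver

variable {S : Scheme.{u}}

lemma geomConn_hom_surj {T : Over S} [GeometricallyConnected T.hom] : Surjective T.hom := inferInstance

/-- A morphism `φ : X ⊗ T ⟶ G` into a separated group scheme which is trivial on `X × e` and on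
`x × T` is trivial. -/
theorem eq_one_of_section {X T G : Over S} [GrpObj G] [IsProper X.hom] [Flat X.hom]
    [LocallyOfFinitePresentation X.hom] [GeometricallyConnected X.hom] [GeometricallyReduced X.hom]
    [GeometricallyConnected T.hom] [IsSeparated G.hom] (φ : X ⊗ T ⟶ G) (e : 𝟙_ (Over S) ⟶ T)
    (x : 𝟙_ (Over S) ⟶ X) (h : X ◁ e ≫ φ = 1) (h' : x ▷ T ≫ φ = 1) : φ = 1 := by
  have h1 := eq_of_section φ e x η[G] (by rw [h, Hom.one_def])
  have h2 : lift (toUnit T ≫ x) (𝟙 T) ≫ φ = 1 := by
    have h3 : lift (toUnit T ≫ x) (𝟙 T) = lift (toUnit T) (𝟙 T) ≫ x ▷ T := by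
      simp
    rw [h3, Category.assoc, h', MonObj.comp_one]
  rw [h1, h2, MonObj.comp_one]

/-- Pointed morphisms from `X` (a group scheme, proper, flat, finitely presented with geometrically
connected and reduced fibres) into a separated group scheme are homomorphisms. -/
theorem isMonHom_of_pointed {X G : Over S} [GrpObj X] [GrpObj G] [IsProper X.hom] [Flat X.hom]
    [LocallyOfFinitePresentation X.hom] [GeometricallyConnected X.hom] [GeometricallyReduced X.hom]
    [IsSeparated G.hom] (f : X ⟶ G) (hf : η[X] ≫ f = η[G]) : IsMonHom f := by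
  have h1 : (μ[X] ≫ f) * (snd X X ≫ f)⁻¹ * (fst X X ≫ f)⁻¹ = 1 := by
    refine eq_one_of_section _ η[X] η[X] ?_ ?_
    · have e1 : X ◁ η[X] ≫ μ[X] ≫ f = fst _ _ ≫ f := by
        rw [← Category.assoc, MonObj.mul_one, rightUnitor_hom]
      have e2 : X ◁ η[X] ≫ snd X X ≫ f = 1 := by
        rw [whiskerLeft_snd_assoc, hf, Hom.one_def, toUnit_unique (toUnit _) (snd X (𝟙_ (Over S)))]
      have e3 : X ◁ η[X] ≫ fst X X ≫ f = fst _ _ ≫ f := by
        rw [whiskerLeft_fst_assoc]
      rw [MonObj.comp_mul, MonObj.comp_mul, GrpObj.comp_inv, GrpObj.comp_inv, e1, e2, e3]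
      simp
    · have e1 : η[X] ▷ X ≫ μ[X] ≫ f = snd _ _ ≫ f := by
        rw [← Category.assoc, MonObj.one_mul, leftUnitor_hom]
      have e2 : η[X] ▷ X ≫ snd X X ≫ f = snd _ _ ≫ f := by
        rw [whiskerRight_snd_assoc]
      have e3 : η[X] ▷ X ≫ fst X X ≫ f = 1 := by
        rw [whiskerRight_fst_assoc, hf, Hom.one_def, toUnit_unique (toUnit _) (fst (𝟙_ (Over S)) X)]
      rw [MonObj.comp_mul, MonObj.comp_mul, GrpObj.comp_inv, GrpObj.comp_inv, e1, e2, e3]
      simp
  refine ⟨hf, ?_⟩
  have h2 : μ[X] ≫ f = (fst X X ≫ f) * (snd X X ≫ f) := by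
    have := eq_inv_of_mul_eq_one_left h1
    rw [_root_.inv_inv] at this
    rw [← this]
    group
  rw [h2, Hom.mul_def]
  simp

/-- Abelian schemes are commutative. -/
theorem isCommMonObj (X : Over S) [GrpObj X] [IsProper X.hom] [Flat X.hom]
    [LocallyOfFinitePresentation X.hom] [GeometricallyReduced X.hom] [GeometricallyConnected X.hom] :
    IsCommMonObj X := by
  have h : IsMonHom (ι : X ⟶ X) := isMonHom_of_pointed (ι : X ⟶ X) GrpObj.one_inv
  rw [isCommMonObj_iff_isMulCommutative]
  intro T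
  refine ⟨⟨fun f g => ?_⟩⟩
  have key : ∀ a : T ⟶ X, a ≫ (ι : X ⟶ X) = a⁻¹ := fun a => (Hom.inv_def a).symm
  have h1 : (f * g)⁻¹ = f⁻¹ * g⁻¹ := by
    rw [← key, ← key, ← key, MonObj.mul_comp]
  rw [← inv_inj, h1, _root_.mul_inv_rev]

/-- Two group structures with the same unit on a proper, flat, finitely presented scheme with
geometrically connected and reduced fibres coincide. -/
theorem grpObj_ext {X : Over S} [IsProper X.hom] [Flat X.hom]
    [LocallyOfFinitePresentation X.hom] [GeometricallyReduced X.hom] [GeometricallyConnected X.hom]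
    (h₁ h₂ : GrpObj X) (he : h₁.one = h₂.one) : h₁ = h₂ := by
  apply GrpObj.ext
  apply MonObj.ext
  have h := @isMonHom_of_pointed S X X h₁ h₂ _ _ _ _ _ _ (𝟙 X) (by
    rw [Category.comp_id]
    exact he)
  have h2 := h.mul_hom
  simpa using h2

end K448.PointedHom
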