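import Groth.Agent.AbSch.K448.MulFibre
import Groth.Agent.UnramA.LfpOfComp
import Mathlib.AlgebraicGeometry.Morphisms.FlatRank
import Mathlib.Topology.KrullDimension

/-!
# Multiplication by `n ≠ 0` on an abelian scheme is an isogeny of degree `n ^ (2 g)`

The statement over fields is taken as a hypothesis `FieldZPow`, to be filled in by `S1842`.
-/

set_option autoImplicit false

universe u

open CategoryTheory CategoryTheory.Limits MonoidalCategory CartesianMonoidalCategory MonObj
  AlgebraicGeometry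

namespace K448.MulFibre

open K448.FibreBC

/-- The statement over fields. -/
def FieldZPow : Prop :=
  ∀ (K : Type u) [Field K] (A : Over (Spec (CommRingCat.of K))) [GrpObj A] [IsProper A.hom]
    [GeometricallyIntegral A.hom] (g : ℕ) (_ : topologicalKrullDim A.left = g) (d : ℤ)
    (_ : d ≠ 0), IsFinite (𝟙 A ^ d).left ∧ Flat (𝟙 A ^ d).left ∧
      ∀ a : A.left, Scheme.Hom.finrank (𝟙 A ^ d).left a = d.natAbs ^ (2 * g)

variable {S : Scheme.{u}}

section

attribute [local instance] Functor.grpObjObj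

variable (X : Over S) [GrpObj X] [IsProper X.hom] [Flat X.hom]
  [LocallyOfFinitePresentation X.hom] [GeometricallyReduced X.hom] [GeometricallyConnected X.hom]

omit [Flat X.hom] [LocallyOfFinitePresentation X.hom] in
/-- The case of the fibres. -/
theorem fibre_zpow (hF : FieldZPow.{u}) (s : S) (g : ℕ)
    (hg : topologicalKrullDim ↥(X.hom.fiber s) = g) (n : ℤ) (hn : n ≠ 0) :
    IsFinite ((Over.pullback (S.fromSpecResidueField s)).map (𝟙 X ^ n)).left ∧
    Flat ((Over.pullback (S.fromSpecResidueField s)).map (𝟙 X ^ n)).left ∧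
    ∀ a, Scheme.Hom.finrank ((Over.pullback (S.fromSpecResidueField s)).map (𝟙 X ^ n)).left a =
      n.natAbs ^ (2 * g) := by
  have hgi : GeometricallyIntegral X.hom := K449.Basic.geometricallyIntegral X
  have h1 : IsProper ((Over.pullback (S.fromSpecResidueField s)).obj X).hom :=
    inferInstanceAs (IsProper (pullback.snd X.hom (S.fromSpecResidueField s)))
  have h2 : GeometricallyIntegral ((Over.pullback (S.fromSpecResidueField s)).obj X).hom :=
    inferInstanceAs (GeometricallyIntegral (pullback.snd X.hom (S.fromSpecResidueField s)))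
  rw [Groth.Agent.Grpsch.AbBC.map_zpow_one]
  exact hF (S.residueField s) ((Over.pullback (S.fromSpecResidueField s)).obj X) g hg n hn

/-- **S7788**. -/
theorem isogeny_zpow (hF : FieldZPow.{u}) (g : S → ℕ)
    (hg : ∀ s : S, topologicalKrullDim ↥(X.hom.fiber s) = g s) (n : ℤ) (hn : n ≠ 0) :
    IsFinite (𝟙 X ^ n).left ∧ Flat (𝟙 X ^ n).left ∧ Surjective (𝟙 X ^ n).left ∧
      ∀ x : X.left, Scheme.Hom.finrank (𝟙 X ^ n).left x = n.natAbs ^ (2 * g (X.hom x)) := by
  have hflat : Flat (𝟙 X ^ n).left := flat_of_fibres (𝟙 X ^ n) fun s =>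
    fibre_of_map @Flat (𝟙 X ^ n) s (fibre_zpow X hF s (g s) (hg s) n hn).2.1
  have hfin : IsFinite (𝟙 X ^ n).left := by
    refine isFinite_of_fibres (𝟙 X ^ n) fun s => fibre_of_map @LocallyQuasiFinite (𝟙 X ^ n) s ?_
    have := (fibre_zpow X hF s (g s) (hg s) n hn).1
    infer_instance
  have hrk : ∀ x : X.left, Scheme.Hom.finrank (𝟙 X ^ n).left x =
      n.natAbs ^ (2 * g (X.hom x)) := by
    intro x
    obtain ⟨x', hx'⟩ : x ∈ Set.range (X.hom.fiberι (X.hom x)) := by
      rw [X.hom.range_fiberι]; rfl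
    have h1 := isPullback_map_left (S.fromSpecResidueField (X.hom x)) (𝟙 X ^ n)
    have h2 := Scheme.Hom.finrank_of_isPullback _ _ _ _ h1
    have h3 := h2 x'
    rw [← (fibre_zpow X hF _ (g _) (hg _) n hn).2.2 x']
    refine Eq.trans ?_ h3.symm
    exact congrArg _ hx'.symm
  refine ⟨hfin, hflat, ?_, hrk⟩
  have hlfp : LocallyOfFinitePresentation (𝟙 X ^ n).left := by
    have h1 : LocallyOfFinitePresentation ((𝟙 X ^ n).left ≫ X.hom) := by
      rw [Over.w]; infer_instance
    exact Groth.Agent.UnramA.LfpOfComp.lfp_of_comp (𝟙 X ^ n).left X.hom h1 inferInstance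
  rw [← Scheme.Hom.one_le_finrank_iff_surjective]
  intro x
  rw [hrk x]
  exact Nat.one_le_iff_ne_zero.mpr (pow_ne_zero _ (Int.natAbs_ne_zero.mpr hn))

/-- **S7788**, in the form of the frozen statement. -/
theorem isogeny_zpow_unit (hF : FieldZPow.{u}) (g : S → ℕ)
    (hg : ∀ s : S, topologicalKrullDim ↥(X.hom.fiber s) = g s) (n : ℤ) (hn : n ≠ 0) :
    IsFinite (𝟙 X ^ n).left ∧ Flat (𝟙 X ^ n).left ∧ Surjective (𝟙 X ^ n).left ∧
      ∀ s : S, Scheme.Hom.finrank (𝟙 X ^ n).left (η[X].left s) = n.natAbs ^ (2 * g s) := by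
  obtain ⟨h1, h2, h3, h4⟩ := isogeny_zpow X hF g hg n hn
  refine ⟨h1, h2, h3, fun s => ?_⟩
  have h5 : η[X].left ≫ X.hom = 𝟙 S := Over.w η[X]
  have h6 : X.hom (η[X].left s) = s := by
    rw [← Scheme.Hom.comp_apply, h5]; rfl
  have h7 := h4 (η[X].left s)
  rw [h6] at h7
  exact h7

end

end K448.MulFibre
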