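import Groth.Agent.Pi1.H381.SpecConn
import Groth.Agent.Pi1.H382.Trait
import Groth.Agent.S1628
import Mathlib.AlgebraicGeometry.Geometrically.Integral

/-!
# Smooth morphisms with geometrically connected fibres; sections and Stein factorization
-/

set_option autoImplicit false

universe u

open CategoryTheory CategoryTheory.Limits AlgebraicGeometry

namespace K448.SmoothConn

/-- Smooth morphisms have geometrically reduced fibres. -/
theorem geometricallyReduced {X S : Scheme.{u}} (f : X ⟶ S) [Smooth f] :
    GeometricallyReduced f := by
  refine ⟨fun K _ y Z fst snd h => ?_⟩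
  have h1 : Smooth snd := MorphismProperty.of_isPullback h ‹_›
  have := Groth.Agent.S1628.isReduced_stalk_of_smooth snd
  exact isReduced_of_isReduced_stalk Z

/-- Smooth morphisms with geometrically connected fibres have geometrically integral fibres. -/
theorem geometricallyIntegral {X S : Scheme.{u}} (f : X ⟶ S) [Smooth f] [GeometricallyConnected f] :
    GeometricallyIntegral f := by
  refine ⟨fun K _ y Z fst snd h => ?_⟩
  have h1 : Smooth snd := MorphismProperty.of_isPullback h ‹_›
  have h2 : ConnectedSpace Z := GeometricallyConnected.geometrically_connectedSpace (f := f) y fst snd h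
  exact Groth.Agent.Pi1.H382.Trait.isIntegral_of_smooth snd

/-- A proper, flat, finitely presented morphism with geometrically reduced fibres and a section, with
connected source and target, has geometrically connected fibres. -/
theorem geometricallyConnected_of_section {X S : Scheme.{u}} (f : X ⟶ S) [IsProper f] [Flat f]
    [LocallyOfFinitePresentation f] [GeometricallyReduced f]
    [ConnectedSpace X] [ConnectedSpace S] (σ : S ⟶ X) (hσ : σ ≫ f = 𝟙 S) :
    GeometricallyConnected f := by
  obtain ⟨hp1, hp2, hh1, hh2, hh3, hh4⟩ := Groth.Agent.Pi1.H381.SpecConn.stein f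
  have w : f.toNormalization ≫ f.fromNormalization = f := f.toNormalization_fromNormalization
  have hτ : (σ ≫ f.toNormalization) ≫ f.fromNormalization = 𝟙 S := by
    rw [Category.assoc, w, hσ]
  have hN : ConnectedSpace f.normalization := by
    have h1 := isConnected_univ (α := X) |>.image f.toNormalization
      f.toNormalization.continuous.continuousOn
    rw [Set.image_univ, f.toNormalization.surjective.range_eq] at h1
    exact connectedSpace_iff_univ.mpr h1
  have hcl := Groth.Agent.Pi1.H381.SpecConn.isClopen_range_section f.fromNormalization
    ⟨hp1, hp2⟩ (σ ≫ f.toNormalization) hτ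
  have hr : Set.range (σ ≫ f.toNormalization) = Set.univ :=
    hcl.eq_univ (Set.range_nonempty _)
  have h0 : FEt.prop (σ ≫ f.toNormalization) :=
    Groth.Agent.Pi1A.SteinCover.prop_of_comp (σ ≫ f.toNormalization) f.fromNormalization
      (by rw [hτ]; exact FEt.prop.id_mem _) ⟨hp1, hp2⟩
  have h1 : IsFinite (σ ≫ f.toNormalization) := h0.1
  have h2 : Etale (σ ≫ f.toNormalization) := h0.2
  have h3 : Mono (σ ≫ f.toNormalization) := mono_of_mono_fac hτ
  have h4 : IsOpenImmersion (σ ≫ f.toNormalization) := IsOpenImmersion.of_flat_of_mono _
  have h5 : Surjective (σ ≫ f.toNormalization) := ⟨Set.range_eq_univ.mp hr⟩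
  have h6 : IsIso (σ ≫ f.toNormalization) := IsOpenImmersion.isIso _
  have h7 : IsIso f.fromNormalization := IsIso.of_isIso_fac_left hτ
  rw [← w]
  have h8 : GeometricallyConnected (f.toNormalization ≫ f.fromNormalization) := by
    have h9 := hh4
    rw [GeometricallyConnected.eq_geometrically] at h9 ⊢
    exact (MorphismProperty.cancel_right_of_respectsIso _ _ _).mpr h9
  exact h8

end K448.SmoothConn
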