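import Groth.Agent.AbSch.K448.DatUniq
import Groth.Agent.AbSch.K472.Res
import Groth.Agent.AbSch.K297.Stage

/-!
# Comparison of an extension with the restriction of a model

* `pe_cmp`: compatibility of cocycles with models at two stages;
* `exists_iso_of_cmp`: if the cocycle of `D` comes from the cocycle of `D₀` over `S'`, then `D` is the restriction of `D₀`.
-/

set_option autoImplicit false
set_option backward.isDefEq.respectTransparency false
universe u
open CategoryTheory CategoryTheory.Limits MonoidalCategory CartesianMonoidalCategory MonObj GrpObj AlgebraicGeometry Opposite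

noncomputable section

namespace K448.DatCmp

open K297.Rel K297.BcCoc K297.Stage K630.AbExt Groth.Agent.Sga3.H515.ParGrp Groth.Agent.Sga3.H515.BcRaw
  Groth.Agent.Sga3B.BcPts

section Pe

variable {S S' S'' : Scheme.{u}} {f : S' ⟶ S} (g : S'' ⟶ S') (f' : S'' ⟶ S) (hgf : g ≫ f = f')

/-- the tautological point -/
def tt (W : Over S'') : (Over.map f).obj ((Over.map g).obj W) ⟶ Over.mk f' :=
  Over.homMk W.hom (by
    change W.hom ≫ f' = (W.hom ≫ g) ≫ f
    rw [Category.assoc, hgf])

/-- the projection -/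
def prr : Over.mk f' ⟶ Over.mk f := Over.homMk g hgf

lemma tt_prr (W : Over S'') : tt g f' hgf W ≫ prr g f' hgf = tPt f ((Over.map g).obj W) := by
  apply Over.OverMorphism.ext
  rfl

lemma pe_left {T : Over S'} {G : Over S} {X : Over S'} (ε : Red.bc f G ≅ X) (x : T ⟶ X) :
    (pe ε T x).left = x.left ≫ ε.inv.left ≫ pullback.fst G.hom f := by
  change ((bcEquiv f T G).symm (x ≫ ε.inv)).left = _
  rw [bcEquiv_symm_left, Over.comp_left, Category.assoc]

lemma theta_inv_fst (G : Over S) : (theta g f' hgf G).inv.left ≫ pullback.fst (Red.bc f G).hom g ≫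
    pullback.fst G.hom f = pullback.fst G.hom f' := by
  have h := theta_fst g f' hgf G
  have h1 : (theta g f' hgf G).inv.left ≫ (theta g f' hgf G).hom.left = 𝟙 _ := by
    rw [← Over.comp_left, Iso.inv_hom_id]
    rfl
  rw [← h, ← Category.assoc, h1, Category.id_comp]

lemma pt'_tt {G : Over S} {X : Over S''} (ε : Red.bc f' G ≅ X) {W : Over S''} (x : W ⟶ X) :
    pt' ε (tt g f' hgf W) (pe (Iso.refl (Red.bc f G)) ((Over.map g).obj W) (pe (theta g f' hgf G ≪≫ ε) W x)) = x := by
  apply (pe ε _).injective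
  change pe ε _ ((pe ε _).symm _) = _
  rw [Equiv.apply_symm_apply]
  apply Over.OverMorphism.ext
  rw [Over.comp_left, pe_left, pe_left, pe_left]
  change 𝟙 _ ≫ (x.left ≫ (ε.inv ≫ (theta g f' hgf G).inv).left ≫ _) ≫ 𝟙 _ ≫ _ = _
  rw [Category.id_comp, Category.id_comp, Over.comp_left]
  simp only [Category.assoc]
  have h := theta_inv_fst g f' hgf G
  change _ = x.left ≫ ε.inv.left ≫ pullback.fst G.hom f'
  rw [← h]

variable {T₀ X₀ A₀ : Over S} [GrpObj T₀] [GrpObj A₀] {p₀ : X₀ ⟶ T₀} {T X A : Over S''} [GrpObj T] [GrpObj A]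
  {p : X ⟶ T}

/-- Compatibility of cocycles with a model at a later stage. -/
theorem pe_cmp (m : Cmp f' A₀ p₀ A p) (c : Coc A p) (cc : PCoc A₀ (Over.mk f) p₀)
    (hcc : ∀ {W : Over S} (t : W ⟶ Over.mk f') (x y z : W ⟶ X₀) (h : (x ≫ p₀) * (y ≫ p₀) = z ≫ p₀),
      cc.b (t ≫ prr g f' hgf) x y z h = (m.toP c).b t x y z h) {W : Over S''} (x y z : W ⟶ X)
    (h : (x ≫ p) * (y ≫ p) = z ≫ p) :
    pe (down g f' hgf m).eA W (c.b x y z h) = ((K297.Stage.refl f p₀).toC cc).b (pe (down g f' hgf m).eX W x)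
      (pe (down g f' hgf m).eX W y) (pe (down g f' hgf m).eX W z) ((down g f' hgf m).rel_pe h) := by
  apply (pe (K297.Stage.refl f (A₀ := A₀) p₀).eA ((Over.map g).obj W)).injective
  refine Eq.trans ?_ (Equiv.apply_symm_apply _ _).symm
  have hrel := (K297.Stage.refl f (A₀ := A₀) p₀).rel_pe ((down g f' hgf m).rel_pe h)
  refine Eq.trans ?_ (Eq.trans (hcc (tt g f' hgf W) _ _ _ hrel).symm
    (cc.b_congr hrel hrel (tt_prr g f' hgf W) rfl rfl rfl))
  apply (pt' m.eA (tt g f' hgf W)).injective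
  refine Eq.trans (pt'_tt g f' hgf m.eA (c.b x y z h)) (Eq.trans ?_ (Equiv.apply_symm_apply _ _).symm)
  exact coc_congr c _ _ (pt'_tt g f' hgf m.eX x).symm (pt'_tt g f' hgf m.eX y).symm (pt'_tt g f' hgf m.eX z).symm

end Pe

end K448.DatCmp
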