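import Groth.Agent.AbSch.K448.DatRes
import Groth.Agent.AbSch.K297.Noeth
import Groth.Agent.AbSch.K595.Chart

/-!
# Extensions of abelian schemes by abelian schemes over an affine base come from finite type `ℤ`-algebras
-/

set_option autoImplicit false
set_option backward.isDefEq.respectTransparency false
universe u
open CategoryTheory CategoryTheory.Limits MonoidalCategory CartesianMonoidalCategory MonObj GrpObj AlgebraicGeometry Opposite

noncomputable section

namespace K448.DatModel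

open Groth.Agent Groth.Agent.Sga3.H515 K297.Rel K297.BcCoc K630.AbExt ParGrp BcRaw StageExt GrpStage GrpModel Sga3B.BcPts
  Ega43.LimitDescend Ega43.LimitDescendIso K297.Stage Flat2D.SpecFGLimit K448.DatCmp

section Stage

variable {I : Type u} [SmallCategory I] {D : I ⥤ Scheme.{u}} {c : Cone D} {i : I}

variable [IsCofiltered I] [∀ (i j : I) (f : i ⟶ j), IsAffineHom (D.map f)]
    [∀ i, CompactSpace (D.obj i)] [∀ i, QuasiSeparatedSpace (D.obj i)]

/-- **Descent of a cocycle together with properties**, with the comparison of the cocycles. -/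
theorem exists_main2 (hc : IsLimit c) {T X A : Over c.pt} [GrpObj T] [GrpObj A] {p : X ⟶ T} (cc : Coc A p)
    {A₀ X₀ T₀ : Over (D.obj i)} [GrpObj A₀] [GrpObj T₀] [IsCommMonObj T₀] {p₀ : X₀ ⟶ T₀}
    (m : Cmp (c.π.app i) A₀ p₀ A p)
    [LocallyOfFinitePresentation X₀.hom] [QuasiCompact X₀.hom] [QuasiSeparated X₀.hom]
    [LocallyOfFinitePresentation T₀.hom] [QuasiCompact T₀.hom] [QuasiSeparated T₀.hom]
    [LocallyOfFinitePresentation A₀.hom]
    {ιp ιX : Type} [Finite ιp] [Finite ιX] (Pp : ιp → MorphismProperty Scheme.{u})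
    (PX : ιX → MorphismProperty Scheme.{u})
    (hPp : ∀ a, DescendsLim (Pp a)) (hPp' : ∀ a, (Pp a).IsStableUnderBaseChange)
    (hPX : ∀ a, DescendsLim (PX a)) (hPX' : ∀ a, (PX a).IsStableUnderBaseChange)
    (hp : ∀ a, Pp a p.left) (hX : ∀ a, PX a X.hom) :
    ∃ (k : Over i) (cc' : PCoc A₀ (Over.mk (D.map k.hom)) p₀),
      (∀ a, Pp a ((Over.pullback (D.map k.hom)).map p₀).left) ∧ (∀ a, PX a (Red.bc (D.map k.hom) X₀).hom) ∧
      ∀ {W : Over (D.obj i)} (t : W ⟶ Over.mk (c.π.app i)) (x y z : W ⟶ X₀) (h : (x ≫ p₀) * (y ≫ p₀) = z ≫ p₀),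
        cc'.b (t ≫ pr c k) x y z h = (m.toP cc).b t x y z h := by
  classical
  -- the cocycle
  have i1 : ∀ {i' j : Over i} (φ : i' ⟶ j), IsAffineHom ((stF D i).map φ).left := fun φ =>
    inferInstanceAs (IsAffineHom (D.map φ.left))
  have i2 : ∀ j, CompactSpace ((stF D i).obj j).left := fun j =>
    inferInstanceAs (CompactSpace (D.obj j.left))
  have i3 : ∀ j, QuasiSeparatedSpace ((stF D i).obj j).left := fun j =>
    inferInstanceAs (QuasiSeparatedSpace (D.obj j.left))
  have hX₀ : qcqs (D.obj i) X₀ := ⟨inferInstance, inferInstance⟩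
  obtain ⟨k1, cc1, h1⟩ := K297.Rel.exists_stage (T := T₀) (X := X₀) (A := A₀) (p := p₀) (J := Over i)
    hX₀ inferInstance (stF D i) (stC i c) (isLimitOverCone c hc i) (m.toP cc)
  -- properties of `p`
  have h2 : ∀ a, ∃ k : Over i, Pp a ((Over.pullback (D.map k.hom)).map p₀).left := by
    intro a
    have := hPp' a
    have := MorphismProperty.IsStableUnderBaseChange.respectsIso (P := Pp a)
    exact exists_map_prop hc (hPp a) p₀ ((prop_iff_of_iso m.eX m.eT _ _ m.w).mpr (hp a))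
  have h3 : ∀ a, ∃ k : Over i, PX a (Red.bc (D.map k.hom) X₀).hom := by
    intro a
    exact exists_stage_prop hc (hPX a) m.eX (hX a)
  choose k2 hk2 using h2
  choose k3 hk3 using h3
  have := Fintype.ofFinite ιp
  have := Fintype.ofFinite ιX
  let O : Finset (Over i) := Finset.univ.image k2 ∪ Finset.univ.image k3 ∪ {k1}
  obtain ⟨k, hk⟩ := IsCofiltered.inf_objs_exists O
  have hw : ∀ {k' : Over i} (b : k ⟶ k'), D.map b.left ≫ D.map k'.hom = D.map k.hom := by
    intro k' b
    rw [← D.map_comp, Over.w b]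
  obtain ⟨b1⟩ : Nonempty (k ⟶ k1) := hk (by simp [O])
  refine ⟨k, res cc1 (tr b1), fun a => ?_, fun a => ?_, fun {W} t x y z h => ?_⟩
  · obtain ⟨b⟩ : Nonempty (k ⟶ k2 a) := hk (by simp [O])
    have := hPp' a
    exact prop_map (D.map b.left) (D.map k.hom) (hw b) p₀ (hk2 a)
  · obtain ⟨b⟩ : Nonempty (k ⟶ k3 a) := hk (by simp [O])
    have := hPX' a
    exact prop_bc (D.map b.left) (D.map k.hom) (hw b) (hk3 a)
  · refine Eq.trans ?_ (h1 t x y z h)
    refine cc1.b_congr _ _ ?_ rfl rfl rfl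
    rw [Category.assoc]
    congr 1
    exact pr_tr c b1

end Stage

/-- Models of abelian schemes over finitely generated subrings. -/
theorem exists_ab {Λ : Type u} [CommRing Λ] (A : Over (Spec (CommRingCat.of Λ))) [GrpObj A]
    [Smooth A.hom] [IsProper A.hom] [GeometricallyConnected A.hom] :
    ∃ (i : (FGSub Λ)ᵒᵖ) (A₀ : Over ((specDiagram Λ).obj i)) (_ : GrpObj A₀) (εA : Red.bc ((cone Λ).π.app i) A₀ ≅ A),
      IsMonHom εA.hom ∧ Smooth A₀.hom ∧ IsProper A₀.hom ∧ GeometricallyConnected A₀.hom := by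
  have i1 : ∀ (i j : (FGSub Λ)ᵒᵖ) (φ : i ⟶ j), IsAffineHom ((specDiagram Λ).map φ) :=
    fun i j φ => inferInstance
  have i2 : ∀ i, CompactSpace ((specDiagram Λ).obj i) := fun i => inferInstance
  have i3 : ∀ i, QuasiSeparatedSpace ((specDiagram Λ).obj i) := fun i => inferInstance
  obtain ⟨i, A₀, X₀, _, εA, εX, hA1, hA2, hA3, hX3, hX4, hX5⟩ := K297.Noeth.exists_init A A
  have a3 : GeometricallyReduced A₀.hom := K448.SmoothConn.geometricallyReduced _
  obtain ⟨k, hk⟩ := exists_geomConn (isLimitCone Λ) εA ‹_›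
  have h1 := isMonHom_theta ((cone Λ).π.app k.left) ((cone Λ).π.app i) ((cone Λ).w k.hom) A₀
  refine ⟨k.left, Red.bc ((specDiagram Λ).map k.hom) A₀, inferInstance,
    theta ((cone Λ).π.app k.left) ((cone Λ).π.app i) ((cone Λ).w k.hom) A₀ ≪≫ εA, ?_, ?_, ?_, hk⟩
  · rw [Iso.trans_hom]
    infer_instance
  · exact inferInstanceAs (Smooth (pullback.snd A₀.hom _))
  · exact inferInstanceAs (IsProper (pullback.snd A₀.hom _))

/-- Going to a later stage. -/
theorem exists_up {Λ : Type u} [CommRing Λ] {i j : (FGSub Λ)ᵒᵖ} (a : j ⟶ i) {A : Over (Spec (CommRingCat.of Λ))} [GrpObj A]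
    {A₀ : Over ((specDiagram Λ).obj i)} [GrpObj A₀] (εA : Red.bc ((cone Λ).π.app i) A₀ ≅ A) [IsMonHom εA.hom]
    [Smooth A₀.hom] [IsProper A₀.hom] [GeometricallyConnected A₀.hom] :
    ∃ (A₁ : Over ((specDiagram Λ).obj j)) (_ : GrpObj A₁) (ε₁ : Red.bc ((cone Λ).π.app j) A₁ ≅ A),
      IsMonHom ε₁.hom ∧ Smooth A₁.hom ∧ IsProper A₁.hom ∧ GeometricallyConnected A₁.hom := by
  have h1 := isMonHom_theta ((cone Λ).π.app j) ((cone Λ).π.app i) ((cone Λ).w a) A₀
  refine ⟨Red.bc ((specDiagram Λ).map a) A₀, inferInstance,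
    theta ((cone Λ).π.app j) ((cone Λ).π.app i) ((cone Λ).w a) A₀ ≪≫ εA, ?_, ?_, ?_, ?_⟩
  · rw [Iso.trans_hom]
    infer_instance
  · exact inferInstanceAs (Smooth (pullback.snd A₀.hom _))
  · exact inferInstanceAs (IsProper (pullback.snd A₀.hom _))
  · exact inferInstanceAs (GeometricallyConnected (pullback.snd A₀.hom _))

open Groth.Agent.Etdl.H432.Sec K452.HomPts in
/-- **Models over finite type `ℤ`-algebras**: an extension of abelian schemes over an affine scheme is the restriction of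
an extension of abelian schemes over a scheme of finite type over `ℤ`. -/
theorem exists_model {Λ : Type u} [CommRing Λ] {T A : Over (Spec (CommRingCat.of Λ))} [GrpObj T] [IsCommMonObj T]
    [Smooth T.hom] [IsProper T.hom] [GeometricallyConnected T.hom] [GrpObj A] [IsCommMonObj A]
    [Smooth A.hom] [IsProper A.hom] [GeometricallyConnected A.hom] (D : Dat T A) :
    ∃ (Λ₀ : Type u) (_ : CommRing Λ₀) (_ : Algebra.FiniteType ℤ Λ₀) (T₀ A₀ : Over (Spec (CommRingCat.of Λ₀)))
      (_ : GrpObj T₀) (_ : IsCommMonObj T₀) (_ : GrpObj A₀) (_ : IsCommMonObj A₀)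
      (_ : Smooth T₀.hom) (_ : IsProper T₀.hom) (_ : GeometricallyConnected T₀.hom)
      (_ : Smooth A₀.hom) (_ : IsProper A₀.hom) (_ : GeometricallyConnected A₀.hom)
      (g : Spec (CommRingCat.of Λ) ⟶ Spec (CommRingCat.of Λ₀)) (D₀ : Dat T₀ A₀),
      Nonempty (K452.Restr.resE (Over.mk g) D₀.E ≅ D.E) := by
  have i1 : ∀ (i j : (FGSub Λ)ᵒᵖ) (φ : i ⟶ j), IsAffineHom ((specDiagram Λ).map φ) :=
    fun i j φ => inferInstance
  have i2 : ∀ i, CompactSpace ((specDiagram Λ).obj i) := fun i => inferInstance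
  have i3 : ∀ i, QuasiSeparatedSpace ((specDiagram Λ).obj i) := fun i => inferInstance
  have hT : CompactSpace T.left := by
    have : QuasiCompact T.hom := inferInstance
    exact QuasiCompact.compactSpace_of_compactSpace T.hom
  obtain ⟨X, p, e, hX, hp1, hp2, he⟩ := K595.Chart.exists_chart D
  have hcov : Dat.Cov p := Dat.cov_of p
  have hX1 : LocallyOfFinitePresentation X.hom := by
    rw [← Over.w p]
    infer_instance
  have hX2 : IsAffineHom X.hom := isAffineHom_of_isAffine _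
  -- initial models
  obtain ⟨iA, A₀, gA, εA, a1, a2, a3, a4⟩ := exists_ab A
  obtain ⟨iT, T₀, gT, εT, t1, t2, t3, t4⟩ := exists_ab T
  obtain ⟨iX, ⟨N⟩⟩ := CalgA.LimFP.Mdl.exists_model (isLimitCone Λ) X.hom
  obtain ⟨i', b1, b2, -⟩ := IsCofilteredOrEmpty.cone_objs iA iT
  obtain ⟨i, b3, b4, -⟩ := IsCofilteredOrEmpty.cone_objs i' iX
  obtain ⟨A₁, gA1, εA1, a1', a2', a3', a4'⟩ := exists_up (b3 ≫ b1) εA
  obtain ⟨T₁, gT1, εT1, t1', t2', t3', t4'⟩ := exists_up (b3 ≫ b2) εT
  let X₁ : Over ((specDiagram Λ).obj i) := Over.mk (N.bc b4).f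
  let εX : Red.bc ((cone Λ).π.app i) X₁ ≅ X := mdlIso (N.bc b4)
  have x1 : LocallyOfFinitePresentation X₁.hom := (N.bc b4).lfp
  have x2 : QuasiCompact X₁.hom := (N.bc b4).qc
  have x3 : QuasiSeparated X₁.hom := (N.bc b4).qs
  obtain ⟨j, p₁, ⟨m₁⟩⟩ := K297.Noeth.exists_p (isLimitCone Λ) p εA1 εX εT1
  let A₂ := Red.bc ((specDiagram Λ).map j.hom) A₁
  let X₂ := Red.bc ((specDiagram Λ).map j.hom) X₁
  let T₂ := Red.bc ((specDiagram Λ).map j.hom) T₁
  have y1 : LocallyOfFinitePresentation X₂.hom := bc_lfp _ _ x1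
  have y2 : QuasiCompact X₂.hom := bc_qc _ _ x2
  have y3 : QuasiSeparated X₂.hom := bc_qs _ _ x3
  have c1 : Smooth A₂.hom := inferInstanceAs (Smooth (pullback.snd A₁.hom _))
  have c2 : IsProper A₂.hom := inferInstanceAs (IsProper (pullback.snd A₁.hom _))
  have c4 : GeometricallyConnected A₂.hom := inferInstanceAs (GeometricallyConnected (pullback.snd A₁.hom _))
  have d1 : Smooth T₂.hom := inferInstanceAs (Smooth (pullback.snd T₁.hom _))
  have d2 : IsProper T₂.hom := inferInstanceAs (IsProper (pullback.snd T₁.hom _))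
  have d4 : GeometricallyConnected T₂.hom := inferInstanceAs (GeometricallyConnected (pullback.snd T₁.hom _))
  have c3 : GeometricallyReduced A₂.hom := K448.SmoothConn.geometricallyReduced _
  have d3 : GeometricallyReduced T₂.hom := K448.SmoothConn.geometricallyReduced _
  have c5 : IsCommMonObj A₂ := K448.PointedHom.isCommMonObj A₂
  have d5 : IsCommMonObj T₂ := K448.PointedHom.isCommMonObj T₂
  let P2 : Fin 2 → MorphismProperty Scheme.{u} := ![@Smooth, @Surjective]
  have hP2 : ∀ a, DescendsLim (P2 a) := by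
    intro a
    fin_cases a
    · exact LimSmooth.descendsLim_smooth
    · exact K286.Desc.descendsLim_surjective
  have hP2' : ∀ a, (P2 a).IsStableUnderBaseChange := by
    intro a
    fin_cases a
    · exact inferInstanceAs (MorphismProperty.IsStableUnderBaseChange @Smooth)
    · exact inferInstanceAs (MorphismProperty.IsStableUnderBaseChange @Surjective)
  let c : Coc A p := D.coc p e he
  obtain ⟨k, cc', h1, h2, h3⟩ := exists_main2 (isLimitCone Λ) c m₁ P2 (fun _ : Unit => @IsAffineHom)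
    hP2 hP2' (fun _ => K286.Desc.descendsLim_isAffineHom)
    (fun _ => inferInstanceAs (MorphismProperty.IsStableUnderBaseChange @IsAffineHom)) (by
      intro a
      fin_cases a
      · exact ‹Smooth p.left›
      · exact ‹Surjective p.left›) (fun _ => hX2)
  let f := (specDiagram Λ).map k.hom
  let g := (cone Λ).π.app k.left
  have hgf : g ≫ f = (cone Λ).π.app j.left := (cone Λ).w k.hom
  let A₃ := Red.bc f A₂
  let T₃ := Red.bc f T₂
  let X₃ := Red.bc f X₂
  have e1 : Smooth A₃.hom := inferInstanceAs (Smooth (pullback.snd A₂.hom _))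
  have e2 : IsProper A₃.hom := inferInstanceAs (IsProper (pullback.snd A₂.hom _))
  have e4 : GeometricallyConnected A₃.hom := inferInstanceAs (GeometricallyConnected (pullback.snd A₂.hom _))
  have f1 : Smooth T₃.hom := inferInstanceAs (Smooth (pullback.snd T₂.hom _))
  have f2 : IsProper T₃.hom := inferInstanceAs (IsProper (pullback.snd T₂.hom _))
  have f4 : GeometricallyConnected T₃.hom := inferInstanceAs (GeometricallyConnected (pullback.snd T₂.hom _))
  have e3 : GeometricallyReduced A₃.hom := K448.SmoothConn.geometricallyReduced _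
  have f3 : GeometricallyReduced T₃.hom := K448.SmoothConn.geometricallyReduced _
  have e5 : IsCommMonObj A₃ := K448.PointedHom.isCommMonObj A₃
  have f5 : IsCommMonObj T₃ := K448.PointedHom.isCommMonObj T₃
  let p₃ : X₃ ⟶ T₃ := (Over.pullback f).map p₁
  have s1 : Smooth p₃.left := h1 0
  have s2 : Surjective p₃.left := h1 1
  have hcov3 : Dat.Cov p₃ := Dat.cov_of p₃
  let c₀ : Coc A₃ p₃ := (K297.Stage.refl f p₁).toC cc'
  obtain ⟨D₀, e₀, he₀, hc₀⟩ := K544.CocExt.exists_dat_of_coc p₃ hcov3 c₀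
  let m₃ : Cmp g A₃ p₃ A p := down g _ hgf m₁
  obtain ⟨φ, -, -⟩ := K448.DatRes.exists_iso_of_cmp g D₀ e₀ m₃ he₀ c₀ hc₀ hcov D e he c (D.i_coc p e he)
    (fun {W} x y z h => pe_cmp g _ hgf m₁ c cc' (fun {W} t x y z h => h3 t x y z h) x y z h)
  have hN : Algebra.FiniteType ℤ k.left.unop.1 := (Subalgebra.fg_iff_finiteType _).1 k.left.unop.2
  exact ⟨k.left.unop.1, inferInstance, hN, T₃, A₃, inferInstance, f5, inferInstance, e5, f1, f2, f4, e1, e2, e4, g, D₀,
    ⟨φ⟩⟩

end K448.DatModel
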