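import Groth.Agent.AbSch.K448.DatCmp

/-!
# Restriction of extensions and comparison with a model

* `resDat`: the restriction of `D₀` along `g : S' ⟶ S`;
* `exists_iso_of_cmp`: if the cocycle of `D` comes from the cocycle of `D₀` over `S'`, then `D` is the restriction of `D₀`.
-/

set_option autoImplicit false
universe u
open CategoryTheory CategoryTheory.Limits MonoidalCategory CartesianMonoidalCategory MonObj GrpObj AlgebraicGeometry Opposite

noncomputable section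

namespace K448.DatRes

open K297.Rel K297.BcCoc K297.Stage K630.AbExt Groth.Agent.Sga3.H515.ParGrp Groth.Agent.Sga3.H515.BcRaw
  Groth.Agent.Sga3B.BcPts

open Groth.Agent.Etdl.H432.Sec K452.HomPts K472.AbRes

variable {S S' : Scheme.{u}} (g : S' ⟶ S) {T₀ A₀ X₀ : Over S} [GrpObj T₀] [IsCommMonObj T₀] [GrpObj A₀] [IsCommMonObj A₀]
  {p₀ : X₀ ⟶ T₀} (D₀ : Dat T₀ A₀) (e₀ : Γs D₀.E X₀)

/-- The restriction of an extension. -/
def resDat : Dat (Red.bc g T₀) (Red.bc g A₀) where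
  E := K452.Restr.resE (Over.mk g) D₀.E
  i := K452.Restr.resI (Over.mk g) D₀.i
  q := K452.Restr.resQ (Over.mk g) D₀.q
  w := K452.Restr.resI_resQ (Over.mk g) D₀.i D₀.q D₀.w
  ex := K452.Restr.shortExact_res (Over.mk g) D₀.i D₀.q D₀.w D₀.ex

theorem r_res {W W' : Over S'} (k : W' ⟶ W) (s : Γs D₀.E ((Over.map g).obj W)) :
    r (resDat g D₀).E k s = r D₀.E ((Over.map g).map k) s := rfl

theorem q_res {W : Over S'} (s : Γs D₀.E ((Over.map g).obj W)) {y : (Over.map g).obj W ⟶ T₀}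
    (h : m D₀.q _ s = sec y) : m (resDat g D₀).q W s = sec (bcEquiv g W T₀ y) :=
  K452.Restr.resQ_app (Over.mk g) D₀.q s y h

theorem i_res {W : Over S'} (a : W ⟶ Red.bc g A₀) :
    m (resDat g D₀).i W (sec a) = m D₀.i ((Over.map g).obj W) (sec ((bcEquiv g W A₀).symm a)) := rfl

section

variable {T A X : Over S'} [GrpObj T] [IsCommMonObj T] [GrpObj A] [IsCommMonObj A] {p : X ⟶ T}
  (M : Cmp g A₀ p₀ A p)

/-- The restriction of an extension, transported to given base changes. -/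
def resDat' : Dat T A :=
  have : IsMonHom M.eT.symm.hom := inferInstanceAs (IsMonHom M.eT.inv)
  congrDat M.eT.symm M.eA (resDat g D₀)

/-- The section of the restriction. -/
def resSec : Γs (resDat' g D₀ M).E X := r D₀.E (pe M.eX X (𝟙 X)) e₀

theorem r_resSec {W : Over S'} (x : W ⟶ X) :
    r (resDat' g D₀ M).E x (resSec g D₀ e₀ M) = r D₀.E (pe M.eX W x) e₀ := by
  have h1 : r (resDat' g D₀ M).E x (resSec g D₀ e₀ M) = r D₀.E ((Over.map g).map x) (r D₀.E (pe M.eX X (𝟙 X)) e₀) := rfl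
  rw [h1, r_r, ← pe_comp, Category.comp_id]

theorem q_resDat' {W : Over S'} (s : Γs D₀.E ((Over.map g).obj W)) {y : (Over.map g).obj W ⟶ T₀}
    (h : m D₀.q _ s = sec y) : m (resDat' g D₀ M).q W s = sec ((pe M.eT W).symm y) := by
  have h1 : m (resDat' g D₀ M).q W s = m (CGrpSh.ptsMap Scheme.fppfPrecoverage M.eT.hom) W (m (resDat g D₀).q W s) := rfl
  rw [h1, q_res g D₀ s h]
  rfl

theorem i_resDat' {W : Over S'} (a : W ⟶ A) :
    m (resDat' g D₀ M).i W (sec a) = m D₀.i ((Over.map g).obj W) (sec (pe M.eA W a)) := rfl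

theorem q_resSec (he₀ : m D₀.q X₀ e₀ = sec p₀) : m (resDat' g D₀ M).q X (resSec g D₀ e₀ M) = sec p := by
  have h1 : m D₀.q _ (r D₀.E (pe M.eX X (𝟙 X)) e₀) = sec (pe M.eX X (𝟙 X) ≫ p₀) := by
    rw [m_r, he₀, r_sec]
  rw [resSec, q_resDat' g D₀ M _ h1]
  congr 1
  have h2 := M.pe_p (𝟙 X)
  rw [Category.id_comp] at h2
  rw [← h2]
  exact Equiv.symm_apply_apply (pe M.eT X) p

theorem exists_iso_of_cmp (he₀ : m D₀.q X₀ e₀ = sec p₀) (c₀ : Coc A₀ p₀)
    (hc₀ : ∀ {W : Over S} (x y z : W ⟶ X₀) (h : (x ≫ p₀) * (y ≫ p₀) = z ≫ p₀),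
      m D₀.i W (sec (c₀.b x y z h)) = r D₀.E x e₀ + r D₀.E y e₀ - r D₀.E z e₀)
    (hp : Dat.Cov p) (D : Dat T A) (e : Γs D.E X) (he : m D.q X e = sec p) (c : Coc A p)
    (hc : ∀ {W : Over S'} (x y z : W ⟶ X) (h : (x ≫ p) * (y ≫ p) = z ≫ p),
      m D.i W (sec (c.b x y z h)) = r D.E x e + r D.E y e - r D.E z e)
    (hcmp : ∀ {W : Over S'} (x y z : W ⟶ X) (h : (x ≫ p) * (y ≫ p) = z ≫ p),
      pe M.eA W (c.b x y z h) = c₀.b (pe M.eX W x) (pe M.eX W y) (pe M.eX W z) (M.rel_pe h)) :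
    ∃ φ : (resDat' g D₀ M).E ≅ D.E, (resDat' g D₀ M).i ≫ φ.hom = D.i ∧ φ.hom ≫ D.q = (resDat' g D₀ M).q := by
  obtain ⟨φ, h1, h2, -⟩ := K448.DatUniq.exists_iso (D := resDat' g D₀ M) (D' := D) (p := p) (e := resSec g D₀ e₀ M)
    (e' := e) (fun {W} => c.b (W := W)) hp (q_resSec g D₀ e₀ M he₀) he (fun {W} x y z h => by
      rw [i_resDat', hcmp, hc₀, r_resSec, r_resSec, r_resSec]
      rfl) (fun {W} x y z h => hc x y z h)
  exact ⟨φ, h1, h2⟩

end

end K448.DatRes
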