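import Groth.Agent.AbSch.K544.CocExt

/-!
# Two extensions with the same cocycle are isomorphic

`D D' : Dat T A`, `p : X ⟶ T` a covering, `e`, `e'` sections of `D.E`, `D'.E` over `X` lifting `p`, with the same cocycle.
Then `D.E ≅ D'.E` compatibly with `i`, `q`, `e`.
-/

set_option autoImplicit false
universe u
open CategoryTheory CategoryTheory.Limits MonoidalCategory CartesianMonoidalCategory MonObj AlgebraicGeometry Opposite

noncomputable section

namespace K448.DatUniq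

open Groth.Agent.Etdl.H432.Sec K452.HomPts K630.AbExt K544.CocExt

variable {S : Scheme.{u}} {T A X : Over S} [GrpObj T] [IsCommMonObj T] [GrpObj A] [IsCommMonObj A]

/-- The relation between sections of two extensions. -/
def Rel (D D' : Dat T A) (e : Γs D.E X) (e' : Γs D'.E X) {W : Over S} (s : Γs D.E W) (V : Over S) (k : V ⟶ W)
    (s' : Γs D'.E V) : Prop :=
  ∃ (x : V ⟶ X) (a : Γs (P A) V), r D.E k s = r D.E x e + m D.i V a ∧ s' = r D'.E x e' + m D'.i V a

section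

variable {D D' : Dat T A} {p : X ⟶ T} {e : Γs D.E X} {e' : Γs D'.E X}
  (b : ∀ {W : Over S} (x y z : W ⟶ X), (x ≫ p) * (y ≫ p) = z ≫ p → (W ⟶ A))

theorem Rel.res {W : Over S} {s : Γs D.E W} {V V' : Over S} (g : V' ⟶ V) {k : V ⟶ W} {s' : Γs D'.E V}
    (h : Rel D D' e e' s V k s') : Rel D D' e e' s V' (g ≫ k) (r D'.E g s') := by
  obtain ⟨x, a, h1, h2⟩ := h
  refine ⟨g ≫ x, r (P A) g a, ?_, ?_⟩
  · rw [← r_r, h1, map_add, r_r, m_r]
  · rw [h2, map_add, r_r, m_r]

theorem Rel.res' {W W' : Over S} {s : Γs D.E W} {V : Over S} {g : W' ⟶ W} {k : V ⟶ W'} {s' : Γs D'.E V}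
    (h : Rel D D' e e' s V (k ≫ g) s') : Rel D D' e e' (r D.E g s) V k s' := by
  obtain ⟨x, a, h1, h2⟩ := h
  exact ⟨x, a, by rw [r_r, h1], h2⟩

variable (hp : Dat.Cov p) (he : m D.q X e = sec p) (he' : m D'.q X e' = sec p)
  (hb : ∀ {W : Over S} (x y z : W ⟶ X) (h : (x ≫ p) * (y ≫ p) = z ≫ p),
      m D.i W (sec (b x y z h)) = r D.E x e + r D.E y e - r D.E z e)
  (hb' : ∀ {W : Over S} (x y z : W ⟶ X) (h : (x ≫ p) * (y ≫ p) = z ≫ p),
      m D'.i W (sec (b x y z h)) = r D'.E x e' + r D'.E y e' - r D'.E z e')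

include he in
theorem q_rel {V : Over S} {x : V ⟶ X} {a : Γs (P A) V} {s : Γs D.E V} (h : s = r D.E x e + m D.i V a) :
    m D.q V s = sec (x ≫ p) := by
  rw [h, map_add, D.q_i, add_zero, m_r, he, r_sec]

include hp he hb hb' in
theorem rel_fun {W : Over S} {s : Γs D.E W} {V : Over S} (k : V ⟶ W) (s₁ s₂ : Γs D'.E V)
    (h₁ : Rel D D' e e' s V k s₁) (h₂ : Rel D D' e e' s V k s₂) : s₁ = s₂ := by
  obtain ⟨x, a, h1, rfl⟩ := h₁
  obtain ⟨y, c, h2, rfl⟩ := h₂
  have hxy : x ≫ p = y ≫ p := sec_inj ((q_rel he h1).symm.trans (q_rel he h2))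
  refine ext_local D'.E _ _ fun v => ?_
  obtain ⟨V', l, z, f1, f2, f3, f4⟩ := hp.exists_lift (1 : V ⟶ T) v
  refine ⟨V', l, f1, f2, f3, ?_⟩
  have hz : z ≫ p = 1 := by rw [f4, MonObj.comp_one]
  have g1 : ((l ≫ x) ≫ p) * (z ≫ p) = (l ≫ y) ≫ p := by
    rw [hz, _root_.mul_one, Category.assoc, Category.assoc, hxy]
  have g2 : ((l ≫ y) ≫ p) * (z ≫ p) = (l ≫ y) ≫ p := by
    rw [hz, _root_.mul_one]
  have b1 := hb _ _ _ g1
  have b2 := hb _ _ _ g2
  have b1' := hb' _ _ _ g1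
  have b2' := hb' _ _ _ g2
  have h3 : r D.E l (r D.E x e + m D.i V a) = r D.E l (r D.E y e + m D.i V c) := by rw [← h1, h2]
  rw [map_add, map_add, r_r, r_r, ← m_r, ← m_r] at h3
  have h4 : r (P A) l c - r (P A) l a = sec (b _ _ _ g1) - sec (b _ _ _ g2) := by
    apply D.i_inj
    rw [map_sub, map_sub, b1, b2]
    rw [← sub_eq_zero] at h3 ⊢
    rw [← neg_eq_zero, ← h3]
    abel
  have h5 := congrArg (fun z => m D'.i V' z) h4
  simp only [map_sub] at h5
  rw [b1', b2'] at h5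
  rw [map_add, map_add, r_r, r_r, ← m_r, ← m_r]
  rw [← sub_eq_zero] at h5 ⊢
  rw [← neg_eq_zero, ← h5]
  abel

include hp he in
theorem rel_total {W : Over S} (s : Γs D.E W) : Loc W (fun V k => ∃ s', Rel D D' e e' s V k s') := by
  intro w
  obtain ⟨V, k, x, h1, h2, h3, h4⟩ := hp.exists_lift (pt (m D.q W s)) w
  obtain ⟨a, ha⟩ := D.exists_i (r D.E k s - r D.E x e) (by
    rw [map_sub, m_r, m_r, he, r_sec, h4, ← pt_r, sec_pt, sub_self])
  exact ⟨V, k, h1, h2, h3, _, x, a, by rw [ha]; abel, rfl⟩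

include hp he hb hb' in
theorem exists_map {W : Over S} (s : Γs D.E W) : ∃ t : Γs D'.E W, ∀ (V : Over S) (k : V ⟶ W) (s' : Γs D'.E V),
    Rel D D' e e' s V k s' → r D'.E k t = s' :=
  glue_loc D'.E (Rel D D' e e' s) (fun g _ _ h => h.res g)
    (fun k s₁ s₂ h₁ h₂ => rel_fun b hp he hb hb' k s₁ s₂ h₁ h₂) (rel_total hp he s)

include hp hb hb' in
theorem rel_add {W : Over S} {s₁ s₂ : Γs D.E W} {V : Over S} {k : V ⟶ W} {s₁' s₂' : Γs D'.E V}
    (h₁ : Rel D D' e e' s₁ V k s₁') (h₂ : Rel D D' e e' s₂ V k s₂') :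
    Loc V (fun V' l => Rel D D' e e' (s₁ + s₂) V' (l ≫ k) (r D'.E l (s₁' + s₂'))) := by
  obtain ⟨x, a, h1, rfl⟩ := h₁
  obtain ⟨y, c, h2, rfl⟩ := h₂
  intro v
  obtain ⟨V', l, z, f1, f2, f3, f4⟩ := hp.exists_lift ((x ≫ p) * (y ≫ p)) v
  refine ⟨V', l, f1, f2, f3, z, ?_⟩
  have g : ((l ≫ x) ≫ p) * ((l ≫ y) ≫ p) = z ≫ p := by
    rw [f4, MonObj.comp_mul, Category.assoc, Category.assoc]
  refine ⟨sec (b _ _ _ g) + r (P A) l a + r (P A) l c, ?_, ?_⟩
  · rw [map_add, map_add, map_add, hb, ← r_r, ← r_r, h1, h2, map_add, map_add, r_r, r_r, ← m_r, ← m_r]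
    abel
  · rw [map_add, map_add, map_add, map_add, map_add, hb', r_r, r_r, ← m_r, ← m_r]
    abel

include hp he he' hb hb' in
/-- **Two extensions with the same cocycle are isomorphic.** -/
theorem exists_iso : ∃ φ : D.E ≅ D'.E, D.i ≫ φ.hom = D'.i ∧ φ.hom ≫ D'.q = D.q ∧ m φ.hom X e = e' := by
  choose F hF using fun (W : Over S) (s : Γs D.E W) => exists_map b hp he hb hb' s
  -- local characterization
  have hchar : ∀ {W : Over S} (s : Γs D.E W) (t : Γs D'.E W),
      Loc W (fun V k => Rel D D' e e' s V k (r D'.E k t)) → F W s = t := by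
    intro W s t h
    exact ext_loc D'.E (h.mono fun V k hk => hF W s V k _ hk)
  have hloc : ∀ {W : Over S} (s : Γs D.E W), Loc W (fun V k => Rel D D' e e' s V k (r D'.E k (F W s))) := by
    intro W s
    refine (rel_total (e' := e') hp he s).mono ?_
    rintro V k ⟨s', hs'⟩
    rw [hF W s V k s' hs']
    exact hs'
  have hadd : ∀ {W : Over S} (s₁ s₂ : Γs D.E W), F W (s₁ + s₂) = F W s₁ + F W s₂ := by
    intro W s₁ s₂
    refine hchar _ _ ((hloc s₁).bind ?_)
    intro V k hk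
    refine ((hloc s₂).pull k).bind ?_
    rintro V' l ⟨W', c, n, hcn, hn⟩
    have h2 := hn.res c
    rw [hcn] at h2
    have h1 := hk.res l
    refine (rel_add b hp hb hb' h1 h2).mono ?_
    intro V'' l' h3
    have h4 : r D'.E l' (r D'.E l (r D'.E k (F W s₁)) + r D'.E c (r D'.E n (F W s₂))) =
        r D'.E ((l' ≫ l) ≫ k) (F W s₁ + F W s₂) := by
      rw [map_add, map_add, r_r, r_r, r_r, r_r]
      simp only [Category.assoc, hcn]
    rw [h4] at h3
    rw [Category.assoc]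
    rw [Category.assoc] at h3
    exact h3
  have hzero : ∀ W : Over S, F W 0 = 0 := by
    intro W
    have h1 := hadd (W := W) 0 0
    rw [add_zero] at h1
    exact left_eq_add.mp h1
  have hnat : ∀ {W W' : Over S} (g : W' ⟶ W) (s : Γs D.E W), r D'.E g (F W s) = F W' (r D.E g s) := by
    intro W W' g s
    refine (hchar _ _ (((hloc s).pull g).mono ?_)).symm
    rintro V k ⟨W₁, c, n, hcn, hn⟩
    have h1 := hn.res c
    rw [hcn, r_r, hcn] at h1
    rw [r_r]
    exact h1.res'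
  let φ : D.E ⟶ D'.E := ⟨{
    app := fun W => AddCommGrpCat.ofHom
      { toFun := fun s => (F W.unop (show Γs D.E W.unop from s) : Γs D'.E W.unop)
        map_zero' := hzero W.unop
        map_add' := hadd }
    naturality := fun W _ k => AddCommGrpCat.ext fun s => (hnat k.unop (show Γs D.E W.unop from s)).symm }⟩
  have hφ : ∀ {W : Over S} (s : Γs D.E W), m φ W s = F W s := fun s => rfl
  have hi : D.i ≫ φ = D'.i := by
    refine Sheaf.hom_ext (NatTrans.ext (funext fun W => AddCommGrpCat.ext fun s => ?_))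
    change F W.unop (m D.i W.unop (show Γs (P A) W.unop from s)) = m D'.i W.unop (show Γs (P A) W.unop from s)
    generalize (show Γs (P A) W.unop from s) = a
    apply hchar
    intro w
    obtain ⟨V, k, z, h1, h2, h3, h4⟩ := hp.exists_lift (1 : W.unop ⟶ T) w
    have hz : z ≫ p = 1 := by rw [h4, MonObj.comp_one]
    have g1 : (z ≫ p) * (z ≫ p) = z ≫ p := by rw [hz, _root_.mul_one]
    have b1 := hb _ _ _ g1
    have b1' := hb' _ _ _ g1
    rw [add_sub_cancel_right] at b1 b1'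
    refine ⟨V, k, h1, h2, h3, z, r (P A) k a - sec (b _ _ _ g1), ?_, ?_⟩
    · rw [map_sub, b1, m_r]
      abel
    · rw [map_sub, b1', m_r]
      abel
  have hq : φ ≫ D'.q = D.q := by
    refine Sheaf.hom_ext (NatTrans.ext (funext fun W => AddCommGrpCat.ext fun s => ?_))
    change m D'.q W.unop (F W.unop (show Γs D.E W.unop from s)) = m D.q W.unop (show Γs D.E W.unop from s)
    generalize (show Γs D.E W.unop from s) = s
    refine ext_loc (P T) ((hloc s).mono ?_)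
    rintro V k ⟨x, a, h1, h2⟩
    rw [← m_r, ← m_r, q_rel he h1, q_rel he' h2]
  have hiso : IsIso φ := by
    let Φ : ShortComplex.mk D.i D.q D.w ⟶ ShortComplex.mk D'.i D'.q D'.w :=
      { τ₁ := 𝟙 _
        τ₂ := φ
        τ₃ := 𝟙 _
        comm₁₂ := by
          change 𝟙 _ ≫ D'.i = D.i ≫ φ
          rw [hi, Category.id_comp]
        comm₂₃ := by
          change φ ≫ D'.q = D.q ≫ 𝟙 _
          rw [hq, Category.comp_id] }
    have h1 : IsIso Φ.τ₁ := inferInstanceAs (IsIso (𝟙 _))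
    have h3 : IsIso Φ.τ₃ := inferInstanceAs (IsIso (𝟙 _))
    exact ShortComplex.isIso₂_of_shortExact_of_isIso₁₃ Φ D.ex D'.ex
  refine ⟨asIso φ, hi, hq, ?_⟩
  change F X e = e'
  apply hchar
  intro w
  exact ⟨X, 𝟙 X, inferInstanceAs (Flat (𝟙 X.left)), inferInstanceAs (LocallyOfFinitePresentation (𝟙 X.left)),
    ⟨w, rfl⟩, 𝟙 X, 0, by rw [map_zero, add_zero], by rw [map_zero, add_zero]⟩

end

end K448.DatUniq
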