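import Groth.Agent.AbSch.K452.TorsRep

/-!
# Sections of abelian fppf sheaves, elementwise

* `r E f`: restriction along `f`, `ap φ X`: the map on sections;
* `ext_of_fam`, `ext_of_cov`, `glue`: fppf gluing;
* `pt x`: a point of a commutative group scheme as a section of its sheaf of points;
* `q_i`, `i_inj`, `exists_ker`: a short exact sequence `0 → pts A → E → pts T → 0`;
* `eq_zero_of_dominant`: density;
* `homOf`: additive sections `τ ∈ E(T)` as morphisms `pts T ⟶ E`.
-/

set_option autoImplicit false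
universe u
open CategoryTheory CategoryTheory.Limits MonoidalCategory CartesianMonoidalCategory MonObj AlgebraicGeometry
open CGrpSh Opposite

namespace K448.ESec

open K594.Cover

variable {S : Scheme.{u}}

/-- the sheaf of points on the fppf site -/
noncomputable abbrev P (G : Over S) [GrpObj G] [IsCommMonObj G] : BigSite.Ab Scheme.fppfPrecoverage S :=
  pts Scheme.fppfPrecoverage G

section Res

variable (E : BigSite.Ab Scheme.fppfPrecoverage S)

/-- restriction -/
noncomputable def r {X Y : Over S} (f : X ⟶ Y) : E.obj.obj (op Y) →+ E.obj.obj (op X) := (E.obj.map f.op).hom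

theorem r_comp {X Y Z : Over S} (f : X ⟶ Y) (g : Y ⟶ Z) (x : E.obj.obj (op Z)) :
    r E (f ≫ g) x = r E f (r E g x) := by
  change E.obj.map (f ≫ g).op x = E.obj.map f.op (E.obj.map g.op x)
  rw [op_comp, E.obj.map_comp]
  rfl

theorem r_id {X : Over S} (x : E.obj.obj (op X)) : r E (𝟙 X) x = x := by
  change E.obj.map (𝟙 X).op x = x
  rw [op_id, E.obj.map_id]
  rfl

theorem ext_of_fam {T : Over S} {J : Type u} {V : J → Over S} {g : ∀ i, V i ⟶ T} (h : Fam g)
    {a b : E.obj.obj (op T)} (hab : ∀ i, r E (g i) a = r E (g i) b) : a = b :=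
  h.ext (K452.TorsRep.sets.obj E) hab

theorem ext_of_cov {T T' : Over S} {g : T' ⟶ T} (h : Cov g) {a b : E.obj.obj (op T)}
    (hab : r E g a = r E g b) : a = b :=
  h.ext (K452.TorsRep.sets.obj E) hab

theorem glue {T T' : Over S} {g : T' ⟶ T} (h : Cov g) (x : E.obj.obj (op T'))
    (hx : ∀ (Z : Over S) (a b : Z ⟶ T'), a ≫ g = b ≫ g → r E a x = r E b x) :
    ∃ t : E.obj.obj (op T), r E g t = x :=
  h.glue (K452.TorsRep.sets.obj E) x hx

end Res

section Ap

variable {E F : BigSite.Ab Scheme.fppfPrecoverage S}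

/-- the map on sections -/
noncomputable def ap (φ : E ⟶ F) {X : Over S} : E.obj.obj (op X) →+ F.obj.obj (op X) := (φ.hom.app (op X)).hom

theorem ap_r (φ : E ⟶ F) {X Y : Over S} (f : X ⟶ Y) (x : E.obj.obj (op Y)) :
    ap φ (r E f x) = r F f (ap φ x) :=
  ConcreteCategory.congr_hom (φ.hom.naturality f.op) x

theorem ap_comp {G : BigSite.Ab Scheme.fppfPrecoverage S} (φ : E ⟶ F) (ψ : F ⟶ G) {X : Over S}
    (x : E.obj.obj (op X)) : ap (φ ≫ ψ) x = ap ψ (ap φ x) := rfl

theorem ap_inj (φ : E ⟶ F) [Mono φ] {X : Over S} {x y : E.obj.obj (op X)} (h : ap φ x = ap φ y) : x = y :=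
  K731.Basic.injective_of_mono φ (op X) h

theorem hom_ext {φ ψ : E ⟶ F} (h : ∀ (X : Over S) (x : E.obj.obj (op X)), ap φ x = ap ψ x) : φ = ψ :=
  Sheaf.hom_ext (NatTrans.ext (funext fun X => AddCommGrpCat.ext fun x => h X.unop x))

end Ap

section Pt

variable {G : Over S} [GrpObj G] [IsCommMonObj G]

/-- a point as a section -/
def pt {X : Over S} (x : X ⟶ G) : (P G).obj.obj (op X) := ULift.up (Additive.ofMul x)

theorem pt_inj {X : Over S} {x y : X ⟶ G} (h : pt x = pt y) : x = y :=
  congrArg (fun z : (P G).obj.obj (op X) => z.down.toMul) h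

theorem exists_pt {X : Over S} (x : (P G).obj.obj (op X)) : ∃ a : X ⟶ G, pt a = x := ⟨x.down.toMul, rfl⟩

theorem pt_mul {X : Over S} (x y : X ⟶ G) : pt (x * y) = pt x + pt y := rfl

theorem pt_one {X : Over S} : pt (1 : X ⟶ G) = 0 := rfl

theorem pt_inv {X : Over S} (x : X ⟶ G) : pt x⁻¹ = - pt x := by
  rw [eq_neg_iff_add_eq_zero, ← pt_mul, inv_mul_cancel, pt_one]

theorem pt_pow {X : Over S} (x : X ⟶ G) (n : ℕ) : pt (x ^ n) = n • pt x := by
  induction n with
  | zero => rw [pow_zero, zero_smul, pt_one]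
  | succ n ih => rw [pow_succ, pt_mul, ih, add_smul, one_smul]

theorem r_pt {X Y : Over S} (f : X ⟶ Y) (x : Y ⟶ G) : r (P G) f (pt x) = pt (f ≫ x) := rfl

end Pt

section Seq

variable {A T : Over S} [GrpObj A] [IsCommMonObj A] [GrpObj T] [IsCommMonObj T]
variable {E : BigSite.Ab Scheme.fppfPrecoverage S} {i : P A ⟶ E} {q : E ⟶ P T} {w : i ≫ q = 0}

include w in
theorem q_i {X : Over S} (x : (P A).obj.obj (op X)) : ap q (ap i x) = 0 := by
  rw [← ap_comp, w]
  rfl

variable (hex : (ShortComplex.mk i q w).ShortExact)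

include hex in
theorem i_inj {X : Over S} {a b : X ⟶ A} (h : ap i (pt a) = ap i (pt b)) : a = b := by
  have : Mono i := hex.mono_f
  exact pt_inj (ap_inj i h)

include hex in
theorem exists_ker {X : Over S} (x : E.obj.obj (op X)) (hx : ap q x = 0) : ∃ a : X ⟶ A, ap i (pt a) = x := by
  have : Mono i := hex.mono_f
  obtain ⟨n, hn⟩ := K731.Basic.exists_of_exact_of_mono (ShortComplex.mk i q w) hex.exact (T := op X) x hx
  obtain ⟨a, rfl⟩ := exists_pt n
  exact ⟨a, hn⟩

include hex in
/-- density -/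
theorem eq_zero_of_dominant [IsSeparated A.hom] {X U : Over S} [IsReduced X.left] (j : U ⟶ X)
    [IsDominant j.left] (x : E.obj.obj (op X)) (hx : ap q x = 0) (hj : r E j x = 0) : x = 0 := by
  obtain ⟨a, rfl⟩ := exists_ker hex x hx
  have h1 : j ≫ a = j ≫ 1 := by
    apply i_inj hex
    rw [← r_pt, ap_r, hj, MonObj.comp_one, pt_one, map_zero]
  have h2 : a = 1 := by
    apply Over.OverMorphism.ext
    have h3 : j.left ≫ a.left = j.left ≫ (1 : X ⟶ A).left := congrArg (fun z => z.left) h1
    exact ext_of_isDominant_of_isSeparated A.hom ((Over.w a).trans (Over.w (1 : X ⟶ A)).symm) j.left h3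
  rw [h2, pt_one, map_zero]

end Seq

section HomOf

variable {T : Over S} [GrpObj T] [IsCommMonObj T] (E : BigSite.Ab Scheme.fppfPrecoverage S)

/-- additive sections give morphisms of sheaves -/
theorem exists_hom (τ : E.obj.obj (op T))
    (hτ : r E (fst T T * snd T T) τ = r E (fst T T) τ + r E (snd T T) τ) :
    ∃ φ : P T ⟶ E, ∀ (X : Over S) (x : X ⟶ T), ap φ (pt x) = r E x τ := by
  have hadd : ∀ {X : Over S} (x y : X ⟶ T), r E (x * y) τ = r E x τ + r E y τ := by
    intro X x y
    have h1 : x * y = lift x y ≫ (fst T T * snd T T) := by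
      rw [MonObj.comp_mul, lift_fst, lift_snd]
    rw [h1, r_comp, hτ, map_add, ← r_comp, ← r_comp, lift_fst, lift_snd]
  have hzero : ∀ {X : Over S}, r E (1 : X ⟶ T) τ = 0 := by
    intro X
    have h := hadd (1 : X ⟶ T) 1
    rw [_root_.mul_one] at h
    exact left_eq_add.mp h
  let φ : (P T).obj ⟶ E.obj :=
    { app := fun X => AddCommGrpCat.ofHom
        { toFun := fun x => r E (X := X.unop) (x.down.toMul) τ
          map_zero' := hzero
          map_add' := fun x y => hadd _ _ }
      naturality := fun X Y f => AddCommGrpCat.ext fun x => r_comp E f.unop _ τ }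
  exact ⟨⟨φ⟩, fun X x => rfl⟩

end HomOf

end K448.ESec
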