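import Groth.Agent.AbSch.K452.TorsRep
import Groth.Agent.AbSch.K452.ExSeq
import Groth.Agent.AlgSp.K594.Local
import Groth.Agent.Books.AlgPts

/-!
# Properties of an extension of group schemes

`0 → pts N → pts E → pts H → 0` exact on the big fppf site.
* `prop_v`: properties of `N → S` fppf local on the base are inherited by `E → H`.
* `connectedSpace`: over an algebraically closed field, `E` is connected if `N` and `H` are.
-/

set_option autoImplicit false
universe u
open CategoryTheory CategoryTheory.Limits MonoidalCategory CartesianMonoidalCategory MonObj AlgebraicGeometry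
open CGrpSh Opposite

namespace K448.ExtProps

open K594.Elem K594.Cover K594.FamRep K594.FppfRep AlgSp K452.TorsRep

section

variable {S : Scheme.{u}} {N E H : Over S} [GrpObj N] [IsCommMonObj N] [GrpObj E] [IsCommMonObj E] [GrpObj H]
  [IsCommMonObj H] (u : N ⟶ E) (v : E ⟶ H) [IsMonHom u] [IsMonHom v] (w : u ≫ v = 1)
  (hex : (seq Scheme.fppfPrecoverage u v w).ShortExact)

include hex in
/-- `E → H` has the properties of `N → S` which are local on the base for the fppf topology. -/
theorem prop_v (P : MorphismProperty Scheme.{u}) [P.IsStableUnderBaseChange]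
    [P.IsLocalAtTarget Scheme.fppfPrecoverage] (hN : P N.hom) : P v.left := by
  have he : Epi (ptsMap Scheme.fppfPrecoverage v) := hex.epi_g
  obtain ⟨J, U, r, hr, hg⟩ := exists_fam (ptsMap Scheme.fppfPrecoverage v) (𝟙 H)
  choose g hg using hg
  have hg' : ∀ j, (ptsMap Scheme.fppfPrecoverage v).hom.app _ (g j) = up (r j) := fun j => by
    rw [hg, Category.comp_id]
  have hw : ptsMap Scheme.fppfPrecoverage u ≫ ptsMap Scheme.fppfPrecoverage v = 0 :=
    (seq Scheme.fppfPrecoverage u v w).zero
  have hloc : ∀ j, IsRep (sets.map (ptsMap Scheme.fppfPrecoverage v))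
      ((sets.obj (pts Scheme.fppfPrecoverage H)).obj.map (r j).op (up (𝟙 H)))
      (snd N (U j)) ((ptsMap Scheme.fppfPrecoverage u).hom.app (op (N ⊗ U j)) (up (fst N (U j))) +
        (pts Scheme.fppfPrecoverage E).obj.map (snd N (U j)).op (g j)) := by
    intro j
    rw [map_up_sets]
    exact locRep (ptsMap Scheme.fppfPrecoverage u) (ptsMap Scheme.fppfPrecoverage v) hw hex (r j) (g j) (hg' j)
  have hS : ∀ j, P (snd N (U j)).left := fun j => P.pullback_snd N.hom (U j).hom hN
  have hξ : IsRep (sets.map (ptsMap Scheme.fppfPrecoverage v)) (U := H)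
      (up (𝟙 H) : (sets.obj (pts Scheme.fppfPrecoverage H)).obj.obj (op H)) v
      (up (𝟙 E) : (sets.obj (pts Scheme.fppfPrecoverage E)).obj.obj (op E)) := by
    refine ⟨?_, fun {T} a b h1 h2 => ?_, fun {T} t x hx => ?_⟩
    · refine Eq.trans ?_ (map_up_id v).symm
      change up (𝟙 E ≫ v) = up v
      rw [Category.id_comp]
    · have h3 : (up (a ≫ 𝟙 E) : (pts Scheme.fppfPrecoverage E).obj.obj (op T)) = up (b ≫ 𝟙 E) := h2
      have h4 := up_inj h3
      rwa [Category.comp_id, Category.comp_id] at h4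
    · obtain ⟨y, rfl⟩ : ∃ y : T ⟶ E, up y = x := ⟨x.down.toMul, rfl⟩
      have h3 : (up (y ≫ v) : (pts Scheme.fppfPrecoverage H).obj.obj (op T)) = up t := hx.trans (map_up_id t)
      exact ⟨y, up_inj h3, map_up_id y⟩
  exact prop_of_isRep_fam P hr hloc hS hξ

include hex in
theorem surjective_v : Surjective v.left := by
  have := K594.Local.surjective.{u}
  refine prop_v u v w hex @Surjective ⟨fun s => ⟨(η[N] : 𝟙_ (Over S) ⟶ N).left s, ?_⟩⟩
  rw [← Scheme.Hom.comp_apply, Over.w]
  rfl

include hex in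
theorem smooth_v [Smooth N.hom] : Smooth v.left := by
  have := K594.Local.smooth.{u}
  exact prop_v u v w hex @Smooth inferInstance

include hex in
theorem isProper_v [IsProper N.hom] : IsProper v.left := by
  have := K594.Local.isProper.{u}
  exact prop_v u v w hex @IsProper inferInstance

include hex in
theorem exists_ker {T : Over S} (x : T ⟶ E) (h : x ≫ v = 1) : ∃ n : T ⟶ N, n ≫ u = x :=
  K452.ExSeq.exists_ker (K := Scheme.fppfPrecoverage) u v (seq Scheme.fppfPrecoverage u v w).zero hex x h

include hex in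
theorem mono_u : Mono u := by
  have hm : Mono (ptsMap Scheme.fppfPrecoverage u) := hex.mono_f
  exact ⟨fun a b h => K452.ExSeq.u_inj (K := Scheme.fppfPrecoverage) u h⟩

include hex in
/-- `N` is the kernel of `E → H`. -/
theorem isPullback_ker : IsPullback u (toUnit N) v η[H] := by
  have hm := mono_u u v w hex
  have key : ∀ s : PullbackCone v η[H], s.fst ≫ v = 1 := by
    intro s
    rw [s.condition, Hom.one_def]
    exact congrArg (· ≫ η[H]) (toUnit_unique _ _)
  refine ⟨⟨by rw [w]; exact Hom.one_def⟩, ⟨PullbackCone.IsLimit.mk _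
    (fun s => (exists_ker u v w hex s.fst (key s)).choose) (fun s => ?_) (fun s => ?_) (fun s m h1 h2 => ?_)⟩⟩
  · exact (exists_ker u v w hex s.fst (key s)).choose_spec
  · exact toUnit_unique _ _
  · rw [← cancel_mono u, h1]
    exact (exists_ker u v w hex s.fst (key s)).choose_spec.symm

omit [IsCommMonObj H] in
theorem isClosedImmersion_one [IsSeparated H.hom] : IsClosedImmersion (η[H] : 𝟙_ (Over S) ⟶ H).left := by
  have h1 : IsClosedImmersion ((η[H] : 𝟙_ (Over S) ⟶ H).left ≫ H.hom) := by
    rw [Over.w]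
    change IsClosedImmersion (𝟙 S)
    infer_instance
  exact IsClosedImmersion.of_comp _ H.hom

include hex in
theorem isClosedImmersion_u [IsSeparated H.hom] : IsClosedImmersion u.left :=
  MorphismProperty.of_isPullback (P := @IsClosedImmersion) ((isPullback_ker u v w hex).map (Over.forget S)).flip
    isClosedImmersion_one

end

section

variable {k : Type u} [Field k] [IsAlgClosed k] {N E H : Over (Spec (CommRingCat.of k))} [GrpObj N] [IsCommMonObj N]
  [GrpObj E] [IsCommMonObj E] [GrpObj H] [IsCommMonObj H] (u : N ⟶ E) (v : E ⟶ H) [IsMonHom u] [IsMonHom v]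
  (w : u ≫ v = 1) (hex : (seq Scheme.fppfPrecoverage u v w).ShortExact)

open Groth.Agent.Books.AlgPts

include hex in
/-- An extension of a smooth connected group by a smooth connected group is connected. -/
theorem connectedSpace [Smooth N.hom] [ConnectedSpace N.left] [LocallyOfFiniteType H.hom] [IrreducibleSpace H.left] :
    ConnectedSpace E.left := by
  have hs := surjective_v u v w hex
  have hsm := smooth_v u v w hex
  have hop : IsOpenMap v.left := v.left.isOpenMap
  have hft : LocallyOfFiniteType E.hom := by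
    rw [← Over.w v]
    infer_instance
  have hne : Nonempty E.left := by
    obtain ⟨x⟩ := (inferInstance : Nonempty H.left)
    obtain ⟨y, -⟩ := hs.surj x
    exact ⟨y⟩
  refine { toPreconnectedSpace := ?_, toNonempty := hne }
  rw [preconnectedSpace_iff_clopen]
  by_contra hcon
  push Not at hcon
  obtain ⟨U, hU, hU1, hU2⟩ := hcon
  have hV2 : (Uᶜ).Nonempty := by
    rw [Set.nonempty_compl]
    exact hU2
  obtain ⟨t, ht, ht'⟩ := nonempty_preirreducible_inter (hop U hU.isOpen) (hop Uᶜ hU.compl.isOpen)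
    (hU1.image _) (hV2.image _)
  obtain ⟨a, haU, hat⟩ := ht
  obtain ⟨x, hxU, hxW⟩ := exists_pt_mem (X := E) (U := U ∩ v.left ⁻¹' (v.left '' U ∩ v.left '' Uᶜ))
    ⟨a, haU, ⟨⟨a, haU, rfl⟩, by rw [hat]; exact ht'⟩⟩
    (hU.isOpen.inter (((hop U hU.isOpen).inter (hop Uᶜ hU.compl.isOpen)).preimage v.left.continuous)).isLocallyClosed
  obtain ⟨z, hz, hz'⟩ := hxW.2
  obtain ⟨y, hyU, hy⟩ := exists_pt_mem (X := E) (U := Uᶜ ∩ v.left ⁻¹' {pt (x ≫ v)})
    ⟨z, hz, by rw [Set.mem_preimage, Set.mem_singleton_iff, hz', pt_comp]⟩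
    (hU.compl.isClosed.isLocallyClosed.inter ((isClosed_pt (x ≫ v)).preimage v.left.continuous).isLocallyClosed)
  have hxy : y ≫ v = x ≫ v := by
    apply pt_injective
    rw [pt_comp]
    exact hy
  obtain ⟨n, hn⟩ := exists_ker u v w hex (x * y⁻¹) (by
    rw [MonObj.mul_comp, GrpObj.inv_comp, hxy, mul_inv_cancel])
  let φ : N ⟶ E := u * (toUnit N ≫ y)
  have h1 : (1 : 𝟙_ (Over (Spec (CommRingCat.of k))) ⟶ N) ≫ φ = y := by
    rw [MonObj.comp_mul, MonObj.one_comp, _root_.one_mul, ← Category.assoc, toUnit_unique (_ ≫ toUnit N) (𝟙 _),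
      Category.id_comp]
  have h2 : n ≫ φ = x := by
    rw [MonObj.comp_mul, hn, ← Category.assoc, toUnit_unique (_ ≫ toUnit N) (𝟙 _), Category.id_comp,
      inv_mul_cancel_right]
  rcases isClopen_iff.mp (hU.preimage φ.left.continuous) with h3 | h3
  · have h4 : pt n ∈ φ.left ⁻¹' U := by
      rw [Set.mem_preimage, ← pt_comp, h2]
      exact hxU
    rw [h3] at h4
    exact h4
  · have h4 : pt (1 : 𝟙_ (Over (Spec (CommRingCat.of k))) ⟶ N) ∈ φ.left ⁻¹' U := by
      rw [h3]
      trivial
    rw [Set.mem_preimage, ← pt_comp, h1] at h4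
    exact hyU h4

end

end K448.ExtProps
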