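import Groth.Agent.AbSch.K448.SmoothChart
import Groth.Agent.AbSch.K630.Basic

/-!
# `n`-splittings over an algebraically closed field, in the language of `K630.AbExt.Dat`
-/

set_option autoImplicit false
universe u
open CategoryTheory CategoryTheory.Limits MonoidalCategory CartesianMonoidalCategory MonObj AlgebraicGeometry Opposite

namespace K448.FieldNS

open Groth.Agent.Etdl.H432.Sec K452.HomPts K771.HomEv K630.AbExt

theorem m_nsmul {S : Scheme.{u}} {H H' : EtFppf.AbF S} (n : ℕ) (φ : H ⟶ H') (U : Over S) (s : Γs H U) :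
    m (n • φ) U s = n • m φ U s := by
  induction n with
  | zero => rw [zero_smul, zero_smul]; rfl
  | succ k ih =>
    rw [succ_nsmul, succ_nsmul, ← ih]
    rfl

/-- A morphism of sheaves `τ` with `τ ≫ q = n` is an `n`-splitting over every `V`. -/
theorem ns_of_hom {S : Scheme.{u}} {T A : Over S} [GrpObj T] [IsCommMonObj T] [GrpObj A] [IsCommMonObj A] (D : Dat T A)
    {n : ℕ} (τ : P T ⟶ D.E) (hτ : τ ≫ D.q = n • 𝟙 (P T)) (V : Over S) : D.NS n V := by
  obtain ⟨σ, hσ, -⟩ := Dat.exists_of_sec (D := D) (n := n) (V := V) (m τ _ (sec (fst T V))) (by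
    rw [← m_comp, hτ, m_nsmul, m_id]) (fun W t t' v => by
    rw [← m_r, ← m_r, ← m_r, r_sec, r_sec, r_sec, lift_fst, lift_fst, lift_fst, ← map_add, ← sec_mul])
  exact ⟨σ, hσ⟩

/-- **Torsion over an algebraically closed field.** -/
theorem exists_ns {k : Type u} [Field k] [IsAlgClosed k] {T A : Over (Spec (CommRingCat.of k))}
    [GrpObj T] [IsCommMonObj T] [GrpObj A] [IsCommMonObj A]
    [Smooth T.hom] [QuasiCompact T.hom] [IsSeparated T.hom] [ConnectedSpace T.left]
    [IsProper A.hom] [Smooth A.hom] [ConnectedSpace A.left] (D : Dat T A) :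
    ∃ n : ℕ, 0 < n ∧ ∀ V : Over (Spec (CommRingCat.of k)), D.NS n V := by
  obtain ⟨n, hn, τ, hτ⟩ := K448.FieldSplit.exists_nsplitting D.ex
  exact ⟨n, hn, ns_of_hom D τ hτ⟩

end K448.FieldNS
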