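import Mathlib.RingTheory.Invariant.Galois
import Mathlib.RingTheory.Localization.AsSubring
import Mathlib.RingTheory.Etale.Field
import Mathlib.RingTheory.Flat.Basic
import Mathlib.RingTheory.Flat.Localization
import Mathlib.RingTheory.Smooth.Flat
import Mathlib.FieldTheory.IsSepClosed
import Mathlib.FieldTheory.PrimitiveElement
import Mathlib.FieldTheory.Normal.Closure
import Mathlib.RingTheory.DedekindDomain.IntegralClosure

/-!
# Etale algebras over a normal domain are dominated by free Galois actions after inverting an element

`exists_galois`: `R` an integrally closed domain, `C` a nonzero etale `R`-algebra. There are `f ≠ 0` in `R` and a ring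
`B` with a free action of a finite group `G` over `R_f = B^G` and an `R`-algebra map `C → B`.
-/

set_option autoImplicit false
universe u
open TensorProduct

namespace K448.GalGen

section Field

variable {R : Type u} [CommRing R] [IsDomain R] [IsIntegrallyClosed R]
variable {K : Type u} [Field K] [Algebra R K] [IsFractionRing R K]
variable {L : Type u} [Field L] [Algebra K L] [Algebra R L] [IsScalarTower R K L] [FiniteDimensional K L]

omit [IsIntegrallyClosed R] in
/-- a common denominator making finitely many elements integral. -/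
theorem exists_denom (K : Type u) [Field K] [Algebra R K] [IsFractionRing R K] {L : Type u} [Field L] [Algebra K L]
    [Algebra R L] [IsScalarTower R K L] [FiniteDimensional K L] (s : Finset L) : ∃ f : R, f ≠ 0 ∧ ∀ x ∈ s, IsIntegral R (f • x) :=
  exists_integral_multiples R K s

theorem exists_of_field [IsGalois K L] {C : Type u} [CommRing C] [Algebra R C] [Algebra.FiniteType R C]
    (ψ : C →ₐ[R] L) :
    ∃ (f : R), f ≠ 0 ∧ ∃ (A B G : Type u) (_ : CommRing A) (_ : Algebra R A) (_ : IsLocalization.Away f A)
      (_ : CommRing B) (_ : Algebra A B) (_ : Algebra R B) (_ : IsScalarTower R A B) (_ : Group G) (_ : Finite G)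
      (_ : MulSemiringAction G B) (_ : SMulCommClass G A B) (_ : Algebra.IsInvariant A B G),
      Function.Injective (algebraMap A B) ∧
      (∀ g : G, g ≠ 1 → ∀ M : Ideal B, M.IsMaximal → ∃ b : B, g • b - b ∉ M) ∧ Nonempty (C →ₐ[R] B) := by
  classical
  obtain ⟨s, hs⟩ := (Algebra.FiniteType.out : (⊤ : Subalgebra R C).FG)
  obtain ⟨θ, hθ⟩ := Field.exists_primitive_element K L
  have hfin : Finite (L ≃ₐ[K] L) := inferInstance
  cases nonempty_fintype (L ≃ₐ[K] L)
  let t : Finset L := s.image ψ ∪ {θ} ∪ Finset.univ.image (fun g : L ≃ₐ[K] L => (g θ - θ)⁻¹)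
  obtain ⟨f, hf, hft⟩ := exists_denom (R := R) K t
  have hle : Submonoid.powers f ≤ nonZeroDivisors R := powers_le_nonZeroDivisors_of_noZeroDivisors hf
  let A : Subalgebra R K := Localization.subalgebra K (Submonoid.powers f) hle
  have hA1 : IsLocalization.Away f A := Localization.subalgebra.isLocalization_subalgebra K _ hle
  have hA2 : IsFractionRing A K := Localization.subalgebra.isFractionRing K _ hle
  have hA3 : IsIntegrallyClosed A := isIntegrallyClosed_of_isLocalization A (Submonoid.powers f) hle
  have : IsScalarTower A K L := inferInstance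
  have : IsScalarTower R A L := IsScalarTower.of_algebraMap_eq fun x => by
    rw [IsScalarTower.algebraMap_apply R K L, IsScalarTower.algebraMap_apply A K L,
      ← IsScalarTower.algebraMap_apply R A K]
  have hint : ∀ x ∈ t, IsIntegral A x := by
    intro x hx
    have h1 : IsIntegral A (f • x) := (hft x hx).tower_top
    have hu : IsUnit (algebraMap R A f) := IsLocalization.Away.algebraMap_isUnit f
    obtain ⟨v, hv⟩ := hu.exists_left_inv
    have h2 : x = v • (f • x) := by
      rw [← algebraMap_smul A f x, smul_smul, hv, one_smul]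
    rw [h2]
    exact h1.smul v
  let B := integralClosure A L
  have hBL : IsFractionRing B L := integralClosure.isFractionRing_of_finite_extension K L
  have hinv : Algebra.IsInvariant A B (B ≃ₐ[A] B) := Algebra.isInvariant_of_isGalois' A K L B
  have hinjAL : Function.Injective (algebraMap A L) := by
    rw [IsScalarTower.algebraMap_eq A K L]
    exact (algebraMap K L).injective.comp (IsFractionRing.injective A K)
  have hinj : Function.Injective (algebraMap A B) := by
    intro x y h
    exact hinjAL (congrArg (algebraMap B L) h)
  have hψ : ∀ c : C, ψ c ∈ B := by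
    intro c
    have hc : c ∈ Algebra.adjoin R (s : Set C) := by rw [hs]; trivial
    induction hc using Algebra.adjoin_induction with
    | mem x hx =>
      exact hint _ (Finset.mem_union_left _ (Finset.mem_union_left _ (Finset.mem_image_of_mem ψ hx)))
    | algebraMap r =>
      rw [AlgHom.commutes, IsScalarTower.algebraMap_apply R A L]
      exact isIntegral_algebraMap
    | add x y _ _ hx hy => rw [map_add]; exact B.add_mem hx hy
    | mul x y _ _ hx hy => rw [map_mul]; exact B.mul_mem hx hy
  refine ⟨f, hf, A, B, (B ≃ₐ[A] B), inferInstance, inferInstance, hA1, inferInstance, inferInstance,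
    inferInstance, inferInstance, inferInstance, ?_, inferInstance, inferInstance, hinv, hinj, ?_, ?_⟩
  · exact Finite.of_equiv _ (galRestrict A K L B).toEquiv
  · intro σ hσ M hM
    let g : L ≃ₐ[K] L := (galRestrict A K L B).symm σ
    have hgσ : ∀ b : B, ((σ b : B) : L) = g (b : L) := by
      intro b
      have := algebraMap_galRestrict_apply A g b
      rw [show galRestrict A K L B g = σ from (galRestrict A K L B).apply_symm_apply σ] at this
      exact this
    have hg : g ≠ 1 := by
      intro h
      apply hσ
      rw [← (galRestrict A K L B).apply_symm_apply σ]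
      change galRestrict A K L B g = 1
      rw [h, map_one]
    have hgθ : g θ - θ ≠ 0 := by
      intro h
      apply hg
      have h1 : g θ = θ := sub_eq_zero.1 h
      ext x
      have hx : x ∈ IntermediateField.adjoin K {θ} := by rw [hθ]; trivial
      induction hx using IntermediateField.adjoin_induction with
      | mem x hx => rw [Set.mem_singleton_iff.1 hx]; exact h1
      | algebraMap x => simp
      | add x y _ _ hx hy => rw [map_add, hx, hy]; rfl
      | inv x _ hx => rw [map_inv₀, hx]; rfl
      | mul x y _ _ hx hy => rw [map_mul, hx, hy]; rfl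
    have hθB : IsIntegral A θ := hint _ (Finset.mem_union_left _ (Finset.mem_union_right _ (Finset.mem_singleton_self _)))
    have hdB : IsIntegral A (g θ - θ)⁻¹ := hint _ (Finset.mem_union_right _
      (Finset.mem_image_of_mem (fun g : L ≃ₐ[K] L => (g θ - θ)⁻¹) (Finset.mem_univ g)))
    refine ⟨⟨θ, hθB⟩, fun hmem => hM.ne_top ?_⟩
    rw [Ideal.eq_top_iff_one]
    have h2 : (⟨(g θ - θ)⁻¹, hdB⟩ : B) * (σ • (⟨θ, hθB⟩ : B) - ⟨θ, hθB⟩) = 1 := by
      apply Subtype.ext
      change (g θ - θ)⁻¹ * (((σ (⟨θ, hθB⟩ : B) : B) : L) - θ) = 1
      rw [hgσ]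
      exact inv_mul_cancel₀ hgθ
    rw [← h2]
    exact M.mul_mem_left _ hmem
  · exact ⟨ψ.codRestrict (B.restrictScalars R) hψ⟩

end Field

/-- Galois closure at the generic point. -/
theorem exists_galois (R : Type u) [CommRing R] [IsDomain R] [IsIntegrallyClosed R] (C : Type u) [CommRing C]
    [Algebra R C] [Algebra.Etale R C] [Nontrivial C] :
    ∃ (f : R), f ≠ 0 ∧ ∃ (A B G : Type u) (_ : CommRing A) (_ : Algebra R A) (_ : IsLocalization.Away f A)
      (_ : CommRing B) (_ : Algebra A B) (_ : Algebra R B) (_ : IsScalarTower R A B) (_ : Group G) (_ : Finite G)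
      (_ : MulSemiringAction G B) (_ : SMulCommClass G A B) (_ : Algebra.IsInvariant A B G),
      Function.Injective (algebraMap A B) ∧
      (∀ g : G, g ≠ 1 → ∀ M : Ideal B, M.IsMaximal → ∃ b : B, g • b - b ∉ M) ∧ Nonempty (C →ₐ[R] B) := by
  let K := FractionRing R
  have hflat : Module.Flat R C := Algebra.Smooth.flat R C
  have hnt : Nontrivial (K ⊗[R] C) := by
    have h1 : Function.Injective (TensorProduct.map (Algebra.linearMap R K) (LinearMap.id : C →ₗ[R] C)) :=
      Module.Flat.rTensor_preserves_injective_linearMap (M := C) (Algebra.linearMap R K)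
        (IsFractionRing.injective R K)
    have h2 : Nontrivial (R ⊗[R] C) := (TensorProduct.lid R C).toEquiv.nontrivial
    exact h1.nontrivial
  obtain ⟨I, _, Ai, _, _, e, hAi⟩ := (Algebra.Etale.iff_exists_algEquiv_prod K (K ⊗[R] C)).1 inferInstance
  have hI : Nonempty I := by
    by_contra h
    rw [not_nonempty_iff] at h
    have : Subsingleton (K ⊗[R] C) := e.toEquiv.subsingleton
    exact not_subsingleton _ this
  obtain ⟨i⟩ := hI
  obtain ⟨hf, hs⟩ := hAi i
  let φ : Ai i →ₐ[K] SeparableClosure K := IsSepClosed.lift
  let L := IntermediateField.normalClosure K (Ai i) (SeparableClosure K)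
  have hL1 : FiniteDimensional K L := inferInstance
  have hL2 : IsGalois K L := inferInstance
  let φ' : Ai i →ₐ[K] L := φ.codRestrict L.toSubalgebra (fun x => φ.fieldRange_le_normalClosure ⟨x, rfl⟩)
  let _ : Algebra R L := ((algebraMap K L).comp (algebraMap R K)).toAlgebra
  have : IsScalarTower R K L := IsScalarTower.of_algebraMap_eq fun _ => rfl
  let ψ : C →ₐ[R] L := ((φ'.comp ((Pi.evalAlgHom K Ai i).comp e.toAlgHom)).restrictScalars R).comp
    (Algebra.TensorProduct.includeRight : C →ₐ[R] K ⊗[R] C)
  exact exists_of_field (K := K) (L := L) ψ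

end K448.GalGen
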