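import Groth.Agent.Sga3.H812.Gal
import Mathlib.AlgebraicGeometry.AffineScheme

/-!
# Morphisms to the spectrum of a ring with a free finite group action

`exists_open`: two morphisms `a b : Z ⟶ Spec B` which agree over `Spec B^G` differ, locally on `Z`, by an element of
`G` (the action on `B` being free).
-/

set_option autoImplicit false
universe u
open CategoryTheory AlgebraicGeometry

namespace K448.GalLoc

variable {A B G : Type u} [CommRing A] [CommRing B] [Algebra A B] [Group G] [MulSemiringAction G B]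

variable (B) in
/-- the action on the spectrum -/
noncomputable def sg (g : G) : Spec (CommRingCat.of B) ⟶ Spec (CommRingCat.of B) :=
  Spec.map (CommRingCat.ofHom (MulSemiringAction.toRingHom G B g))

theorem sg_comp (h g : G) : sg B h ≫ sg B g = sg B (h * g) := by
  rw [sg, sg, ← Spec.map_comp, sg]
  congr 1
  ext b
  change h • (g • b) = (h * g) • b
  rw [mul_smul]

variable (A) in
theorem sg_p [SMulCommClass G A B] (g : G) :
    sg B g ≫ Spec.map (CommRingCat.ofHom (algebraMap A B)) = Spec.map (CommRingCat.ofHom (algebraMap A B)) := by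
  rw [sg, ← Spec.map_comp]
  congr 1
  ext a
  exact smul_algebraMap g a

theorem exists_open [Finite G] [SMulCommClass G A B] [Algebra.IsInvariant A B G]
    (hinj : Function.Injective (algebraMap A B))
    (hfree : ∀ g : G, g ≠ 1 → ∀ M : Ideal B, M.IsMaximal → ∃ b : B, g • b - b ∉ M)
    {Z : Scheme.{u}} (a b : Z ⟶ Spec (CommRingCat.of B))
    (h : a ≫ Spec.map (CommRingCat.ofHom (algebraMap A B)) = b ≫ Spec.map (CommRingCat.ofHom (algebraMap A B)))
    (z : Z) : ∃ (V : Z.Opens) (g : G), z ∈ V ∧ V.ι ≫ a = V.ι ≫ b ≫ sg B g := by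
  classical
  cases nonempty_fintype G
  obtain ⟨W, hW, hz, -⟩ := exists_isAffineOpen_mem_and_subset (x := z) (U := (⊤ : Z.Opens)) trivial
  obtain ⟨x, hx⟩ : ∃ x, Spec.map x = hW.fromSpec ≫ a := ⟨Spec.preimage _, Spec.map_preimage _⟩
  obtain ⟨y, hy⟩ : ∃ y, Spec.map y = hW.fromSpec ≫ b := ⟨Spec.preimage _, Spec.map_preimage _⟩
  have hxy : x.hom.comp (algebraMap A B) = y.hom.comp (algebraMap A B) := by
    have h1 : CommRingCat.ofHom (algebraMap A B) ≫ x = CommRingCat.ofHom (algebraMap A B) ≫ y := by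
      apply Spec.map_injective
      rw [Spec.map_comp, Spec.map_comp, hx, hy, Category.assoc, Category.assoc, h]
    exact congrArg CommRingCat.Hom.hom h1
  obtain ⟨c, hc1, hc2⟩ := Groth.Agent.Sga3.H812.Gal.exists_idem hinj hfree x.hom y.hom hxy
  let P : Ideal Γ(Z, W) := (hW.primeIdealOf ⟨z, hz⟩).asIdeal
  obtain ⟨g, hg⟩ := Groth.Agent.Sga3.H812.Gal.exists_notMem hc1 P
  have hzV : z ∈ Z.basicOpen (c g) := by
    have h1 := hW.fromSpec_primeIdealOf ⟨z, hz⟩
    have h2 : hW.primeIdealOf ⟨z, hz⟩ ∈ hW.fromSpec ⁻¹ᵁ Z.basicOpen (c g) := by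
      rw [hW.fromSpec_preimage_basicOpen]
      exact hg
    have h3 : hW.fromSpec (hW.primeIdealOf ⟨z, hz⟩) ∈ Z.basicOpen (c g) := h2
    rw [h1] at h3
    exact h3
  have hV : IsAffineOpen (Z.basicOpen (c g)) := hW.basicOpen (c g)
  have hle : Z.basicOpen (c g) ≤ W := Z.basicOpen_le (c g)
  let ρ : Γ(Z, W) ⟶ Γ(Z, Z.basicOpen (c g)) := Z.presheaf.map (homOfLE hle).op
  have hu : IsUnit (ρ.hom (c g)) := RingedSpace.isUnit_res_basicOpen _ (c g)
  have hfs : Spec.map ρ ≫ hW.fromSpec = hV.fromSpec := hW.map_fromSpec hV (homOfLE hle).op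
  have key : hV.fromSpec ≫ a = hV.fromSpec ≫ b ≫ sg B g := by
    rw [← hfs, Category.assoc, ← hx, Category.assoc, ← Category.assoc hW.fromSpec, ← hy, sg, ← Spec.map_comp,
      ← Spec.map_comp, ← Spec.map_comp]
    congr 1
    ext t
    change ρ.hom (x.hom t) = ρ.hom (y.hom (g • t))
    apply hu.mul_left_cancel
    rw [← map_mul, ← map_mul, hc2]
  refine ⟨Z.basicOpen (c g), g, hzV, ?_⟩
  rw [← cancel_epi hV.isoSpec.inv, ← Category.assoc, ← Category.assoc, hV.isoSpec_inv_ι]
  exact key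

end K448.GalLoc
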