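import Groth.Agent.AbSch.K448.ESec
import Groth.Agent.AbSch.K448.GalLoc
import Groth.Agent.AbSch.K448.GalGen
import Mathlib.AlgebraicGeometry.Morphisms.Etale

/-!
# Norms of sections of abelian fppf sheaves along Galois covers

`exists_norm`: `Spec B → Spec A` with `G` acting freely on `B`, `A = B^G`; for `e ∈ E(Spec B)` there is
`e' ∈ E(Spec A)` with `p^* e' = ∑ g^* e`.

`exists_norm_of_etale`: a section of an extension `E` of `T` over a nonempty etale `T`-scheme `V → T` gives a section
of `E` over a nonempty open subscheme `W` of `T`, lifting `n` times the inclusion.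
-/

set_option autoImplicit false
universe u
open CategoryTheory CategoryTheory.Limits MonoidalCategory CartesianMonoidalCategory MonObj AlgebraicGeometry
open CGrpSh Opposite

namespace K448.NormSec

open K594.Cover K448.ESec K448.GalLoc

section Ring

variable {A B G : Type u} [CommRing A] [CommRing B] [Algebra A B] [Group G] [MulSemiringAction G B]
variable [Finite G] [SMulCommClass G A B] [Algebra.IsInvariant A B G]
variable {S : Scheme.{u}} (s : Spec (CommRingCat.of A) ⟶ S)

/-- the base -/
noncomputable abbrev XA : Over S := Over.mk s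

/-- the projection of the cover on the underlying schemes -/
noncomputable abbrev pAB (A B : Type u) [CommRing A] [CommRing B] [Algebra A B] :
    Spec (CommRingCat.of B) ⟶ Spec (CommRingCat.of A) := Spec.map (CommRingCat.ofHom (algebraMap A B))

variable (B) in
/-- the cover -/
noncomputable abbrev XB : Over S := Over.mk (pAB A B ≫ s)

variable (B) in
/-- the projection -/
noncomputable abbrev p : XB B s ⟶ XA s := Over.homMk (pAB A B) rfl

variable (B) in
/-- the action -/
noncomputable def sig (g : G) : XB B s ⟶ XB B s := Over.homMk (sg B g) (by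
  change sg B g ≫ pAB A B ≫ s = pAB A B ≫ s
  rw [← Category.assoc, sg_p A g])

omit [Finite G] [Algebra.IsInvariant A B G] in
theorem sig_comp (h g : G) : sig B s h ≫ sig B s g = sig B s (h * g) := by
  apply Over.OverMorphism.ext
  exact sg_comp h g

omit [Finite G] [Algebra.IsInvariant A B G] in
theorem sig_p (g : G) : sig B s g ≫ p B s = p B s := by
  apply Over.OverMorphism.ext
  exact sg_p A g

include G in
theorem cov (hinj : Function.Injective (algebraMap A B))
    (hfree : ∀ g : G, g ≠ 1 → ∀ M : Ideal B, M.IsMaximal → ∃ b : B, g • b - b ∉ M) : Cov (p B s) := by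
  have h1 : Algebra.Etale A B := Groth.Agent.Sga1.FreeQuot.etale_of_free (G := G) hinj hfree
  have h2 : Etale (pAB A B) := by
    rw [pAB, HasRingHomProperty.Spec_iff (P := @Etale)]
    exact RingHom.etale_algebraMap.2 h1
  have : Algebra.IsIntegral A B := Algebra.IsInvariant.isIntegral A B G
  have hf : FaithfulSMul A B := (faithfulSMul_iff_algebraMap_injective _ _).2 hinj
  refine ⟨?_, ?_, ?_⟩
  · change Flat (pAB A B)
    infer_instance
  · change LocallyOfFinitePresentation (pAB A B)
    infer_instance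
  · change Surjective (pAB A B)
    constructor
    exact Algebra.IsIntegral.comap_surjective _ _

theorem exists_norm [Fintype G] (hinj : Function.Injective (algebraMap A B))
    (hfree : ∀ g : G, g ≠ 1 → ∀ M : Ideal B, M.IsMaximal → ∃ b : B, g • b - b ∉ M)
    (E : BigSite.Ab Scheme.fppfPrecoverage S) (e : E.obj.obj (op (XB B s))) :
    ∃ e' : E.obj.obj (op (XA s)), r E (p B s) e' = ∑ g : G, r E (sig B s g) e := by
  apply glue E (cov (G := G) s hinj hfree)
  intro Z a b hab
  have h1 : a.left ≫ pAB A B = b.left ≫ pAB A B := congrArg (fun z => z.left) hab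
  choose V g hz hg using fun z => exists_open (G := G) hinj hfree a.left b.left h1 z
  let V' : Z.left → Over S := fun z => Over.mk ((V z).ι ≫ Z.hom)
  let v : ∀ z, V' z ⟶ Z := fun z => Over.homMk (V z).ι rfl
  have hv : Fam v := by
    refine ⟨fun z => ?_, fun z => ?_, fun z => ⟨z, ⟨z, hz z⟩, rfl⟩⟩
    · change Flat (V z).ι
      infer_instance
    · change LocallyOfFinitePresentation (V z).ι
      infer_instance
  apply ext_of_fam E hv
  intro z
  have h2 : v z ≫ a = v z ≫ b ≫ sig B s (g z) := by
    apply Over.OverMorphism.ext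
    exact hg z
  rw [← r_comp, ← r_comp, h2, map_sum, map_sum]
  refine Fintype.sum_equiv (Equiv.mulLeft (g z)) _ _ (fun h => ?_)
  rw [← r_comp, ← r_comp, Category.assoc, Category.assoc, sig_comp, Category.assoc]
  rfl

end Ring

section Etale

variable {S : Scheme.{u}} {T : Over S} [GrpObj T] [IsCommMonObj T] (E : BigSite.Ab Scheme.fppfPrecoverage S)
  (q : E ⟶ P T)

/-- A section over an etale `T`-scheme gives a section over a nonempty open subscheme, after multiplication by `n`. -/
theorem exists_norm_of_etale [IsIntegral T.left]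
    (hN : ∀ U : T.left.Opens, IsAffineOpen U → (U : Set T.left).Nonempty → IsIntegrallyClosed Γ(T.left, U))
    {V : Over S} (f : V ⟶ T) [Etale f.left] [Nonempty V.left] (e : E.obj.obj (op V)) (he : ap q e = pt f) :
    ∃ (W : Over S) (t : W ⟶ T), IsOpenImmersion t.left ∧ Nonempty W.left ∧ ∃ (n : ℕ), 1 ≤ n ∧
      ∃ e' : E.obj.obj (op W), ap q e' = n • pt t := by
  obtain ⟨v⟩ := (inferInstance : Nonempty V.left)
  obtain ⟨U, hU, hvU, -⟩ := exists_isAffineOpen_mem_and_subset (x := f.left v) (U := (⊤ : T.left.Opens)) trivial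
  obtain ⟨V₀, hV₀, hv, hle⟩ := exists_isAffineOpen_mem_and_subset (x := v) (U := f.left ⁻¹ᵁ U) hvU
  have hle' : V₀ ≤ f.left ⁻¹ᵁ U := hle
  have hne : Nonempty U := ⟨⟨_, hvU⟩⟩
  have hne' : Nonempty V₀ := ⟨⟨_, hv⟩⟩
  have hic : IsIntegrallyClosed Γ(T.left, U) := hN U hU ⟨_, hvU⟩
  let ρ : Γ(T.left, U) ⟶ Γ(V.left, V₀) := f.left.appLE U V₀ hle'
  have hρ : ρ.hom.Etale := HasRingHomProperty.appLE (P := @Etale) f.left inferInstance ⟨U, hU⟩ ⟨V₀, hV₀⟩ hle'
  let _ : Algebra Γ(T.left, U) Γ(V.left, V₀) := ρ.hom.toAlgebra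
  have hC : Algebra.Etale Γ(T.left, U) Γ(V.left, V₀) := hρ
  have hnt : Nontrivial Γ(V.left, V₀) := by
    have : Nonempty V₀ := hne'
    infer_instance
  obtain ⟨f₀, hf₀, A, B, G, _, _, _, _, _, _, _, _, _, _, _, _, hinj, hfree, ⟨φ⟩⟩ :=
    GalGen.exists_galois Γ(T.left, U) Γ(V.left, V₀)
  cases nonempty_fintype G
  have hj0 : IsOpenImmersion (Spec.map (CommRingCat.ofHom (algebraMap Γ(T.left, U) A))) :=
    IsOpenImmersion.of_isLocalization f₀
  let j : Spec (CommRingCat.of A) ⟶ T.left :=
    Spec.map (CommRingCat.ofHom (algebraMap Γ(T.left, U) A)) ≫ hU.fromSpec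
  have hj : IsOpenImmersion j := by
    have h1 : IsOpenImmersion hU.fromSpec := hU.isOpenImmersion_fromSpec
    exact inferInstanceAs (IsOpenImmersion (Spec.map (CommRingCat.ofHom (algebraMap Γ(T.left, U) A)) ≫ hU.fromSpec))
  let t : XA (j ≫ T.hom) ⟶ T := Over.homMk j rfl
  have hinjA : Function.Injective (algebraMap Γ(T.left, U) A) :=
    IsLocalization.injective A (powers_le_nonZeroDivisors_of_noZeroDivisors hf₀)
  have hnA : Nontrivial A := hinjA.nontrivial
  have hneA : Nonempty (XA (j ≫ T.hom)).left := inferInstanceAs (Nonempty (PrimeSpectrum A))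
  -- the map of the cover to `V`
  let h0 : Spec (CommRingCat.of B) ⟶ V.left :=
    Spec.map (CommRingCat.ofHom (φ : Γ(V.left, V₀) →+* B)) ≫ hV₀.fromSpec
  have h1 : h0 ≫ f.left = pAB A B ≫ j := by
    have h2 : Spec.map ρ ≫ hU.fromSpec = hV₀.fromSpec ≫ f.left := hU.SpecMap_appLE_fromSpec f.left hV₀ hle'
    rw [Category.assoc, ← h2, ← Category.assoc, ← Category.assoc, ← Spec.map_comp, ← Spec.map_comp]
    congr 2
    ext x
    change φ (algebraMap Γ(T.left, U) Γ(V.left, V₀) x) = algebraMap A B (algebraMap Γ(T.left, U) A x)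
    rw [AlgHom.commutes, ← IsScalarTower.algebraMap_apply]
  let h : XB B (j ≫ T.hom) ⟶ V := Over.homMk h0 (by
    change h0 ≫ V.hom = pAB A B ≫ j ≫ T.hom
    rw [← Over.w f, ← Category.assoc, h1, Category.assoc])
  have hcomp : h ≫ f = p B (j ≫ T.hom) ≫ t := by
    apply Over.OverMorphism.ext
    exact h1
  obtain ⟨e', he'⟩ := exists_norm (j ≫ T.hom) hinj hfree E (r E h e)
  refine ⟨XA (j ≫ T.hom), t, hj, hneA, Fintype.card G, Fintype.card_pos, e', ?_⟩
  apply ext_of_cov (P T) (cov (G := G) (j ≫ T.hom) hinj hfree)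
  rw [← ap_r, he', map_sum, map_nsmul, r_pt, ← hcomp]
  have h3 : ∀ g ∈ (Finset.univ : Finset G), ap q (r E (sig B (j ≫ T.hom) g) (r E h e)) = pt (h ≫ f) := by
    intro g _
    rw [ap_r, ap_r, he, r_pt, r_pt, hcomp, ← Category.assoc, sig_p]
  rw [Finset.sum_congr rfl h3, Finset.sum_const, Finset.card_univ]

end Etale

end K448.NormSec
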