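import Groth.Agent.AbSch.K448.GroupExt
import Groth.Agent.AbSch.K448.NormSec
import Groth.Agent.CycCov.K926.Base
import Groth.Agent.Sga3.H780.Pointed

/-!
# Extensions of smooth connected commutative groups by abelian varieties are torsion

`exists_splitting`: `k` algebraically closed, `T` a smooth connected commutative group scheme separated of finite type
over `k`, `A` an abelian variety, `0 → pts A → E → pts T → 0` exact on the big fppf site, having a section over a
nonempty etale `T`-scheme. Then there are `n ≥ 1` and `τ : pts T ⟶ E` with `τ ≫ q = n • 𝟙`.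

`isOfFinAddOrder`: the class of the extension is then of finite order.
-/

set_option autoImplicit false
universe u
open CategoryTheory CategoryTheory.Limits MonoidalCategory CartesianMonoidalCategory MonObj AlgebraicGeometry
open CGrpSh Opposite

namespace K448.FieldSplit

open K448.ESec

theorem exists_splitting {k : Type u} [Field k] [IsAlgClosed k] {T A : Over (Spec (CommRingCat.of k))}
    [GrpObj T] [IsCommMonObj T] [GrpObj A] [IsCommMonObj A]
    [Smooth T.hom] [QuasiCompact T.hom] [IsSeparated T.hom] [ConnectedSpace T.left]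
    [IsProper A.hom] [Smooth A.hom] [ConnectedSpace A.left]
    {E : BigSite.Ab Scheme.fppfPrecoverage (Spec (CommRingCat.of k))} {i : P A ⟶ E} {q : E ⟶ P T}
    {w : i ≫ q = 0} (hex : (ShortComplex.mk i q w).ShortExact)
    {V : Over (Spec (CommRingCat.of k))} (f : V ⟶ T) [Etale f.left] [Nonempty V.left]
    (e : E.obj.obj (op V)) (he : ap q e = pt f) :
    ∃ (n : ℕ), 1 ≤ n ∧ ∃ τ : P T ⟶ E, τ ≫ q = n • 𝟙 (P T) := by
  have h1 : GeometricallyIntegral T.hom := Groth.Agent.Sga3.H780.Pointed.geometricallyIntegral T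
  have h2 : GeometricallyIntegral A.hom := Groth.Agent.Sga3.H780.Pointed.geometricallyIntegral A
  have h3 : GeometricallyConnected T.hom := by
    refine ⟨fun K _ y Z fst snd h => ?_⟩
    have : IrreducibleSpace Z :=
      GeometricallyIrreducible.geometrically_irreducibleSpace (f := T.hom) y fst snd h
    infer_instance
  have hi : IsIntegral T.left := K448.GroupCocycle.isIntegral_left
  obtain ⟨W, t, ht, hW, n, hn, e', he'⟩ := K448.NormSec.exists_norm_of_etale E q
    (fun U hU hne => K926.Base.isIntegrallyClosed T.hom hU hne) f e he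
  exact ⟨n, hn, K448.GroupExt.exists_hom hex t n e' he'⟩

/-- an `n`-splitting kills the class of an extension. -/
theorem isOfFinAddOrder {S : Scheme.{u}} {A E T : BigSite.Ab Scheme.fppfPrecoverage S} {i : A ⟶ E} {q : E ⟶ T}
    {w : i ≫ q = 0} (hex : (ShortComplex.mk i q w).ShortExact) {n : ℕ} (hn : 1 ≤ n) (τ : T ⟶ E)
    (hτ : τ ≫ q = n • 𝟙 T) : IsOfFinAddOrder (hex.extClass : Abelian.Ext T A 1) := by
  rw [isOfFinAddOrder_iff_nsmul_eq_zero]
  refine ⟨n, hn, ?_⟩
  have h1 : (Abelian.Ext.mk₀ q).comp hex.extClass (zero_add 1) = 0 := hex.comp_extClass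
  have h2 : (Abelian.Ext.mk₀ (τ ≫ q)).comp hex.extClass (zero_add 1) = 0 := by
    rw [← Abelian.Ext.mk₀_comp_mk₀_assoc, h1, Abelian.Ext.comp_zero]
  have h3 : (Abelian.Ext.mk₀ (n • 𝟙 T)).comp hex.extClass (zero_add 1) = n • hex.extClass := by
    have h4 : ∀ m : ℕ, (Abelian.Ext.mk₀ (m • 𝟙 T)).comp hex.extClass (zero_add 1) = m • hex.extClass := by
      intro m
      induction m with
      | zero => rw [zero_smul, zero_smul, Abelian.Ext.mk₀_zero, Abelian.Ext.zero_comp]
      | succ m ih =>
        rw [add_smul, add_smul, one_smul, one_smul, Abelian.Ext.mk₀_add, Abelian.Ext.add_comp, ih,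
          Abelian.Ext.mk₀_id_comp]
    exact h4 n
  rw [← h3, ← hτ, h2]

end K448.FieldSplit
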