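import Groth.Agent.AbSch.K448.RigidityMain
import Mathlib.AlgebraicGeometry.Group.Abelian
import Mathlib.CategoryTheory.Monoidal.Cartesian.Over

/-!
# Rigidity in the category of schemes over `S`

`P ⊗ T ⟶ Y` with `P` proper, flat, finitely presented with geometrically connected and reduced fibres,
`T` with geometrically connected fibres and a section along which the morphism is collapsed, `Y`
separated: then the morphism factors uniquely through `T`.
-/

set_option autoImplicit false

universe u

open CategoryTheory CategoryTheory.Limits MonoidalCategory CartesianMonoidalCategory AlgebraicGeometry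

namespace K448.RigidOver

open K448.Rigidity K448.RigidityMain

variable {S : Scheme.{u}}

lemma isPullback_fst_snd (X T : Over S) :
    IsPullback (fst X T).left (snd X T).left X.hom T.hom := IsPullback.of_hasPullback _ _

section Instances

variable (X T : Over S)

instance [IsProper X.hom] : IsProper (snd X T).left :=
  MorphismProperty.of_isPullback (isPullback_fst_snd X T) ‹_›
instance [IsProper T.hom] : IsProper (fst X T).left :=
  MorphismProperty.of_isPullback (isPullback_fst_snd X T).flip ‹_›
instance [Flat X.hom] : Flat (snd X T).left :=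
  MorphismProperty.of_isPullback (isPullback_fst_snd X T) ‹_›
instance [Flat T.hom] : Flat (fst X T).left :=
  MorphismProperty.of_isPullback (isPullback_fst_snd X T).flip ‹_›
instance [LocallyOfFinitePresentation X.hom] : LocallyOfFinitePresentation (snd X T).left :=
  MorphismProperty.of_isPullback (isPullback_fst_snd X T) ‹_›
instance [LocallyOfFinitePresentation T.hom] : LocallyOfFinitePresentation (fst X T).left :=
  MorphismProperty.of_isPullback (isPullback_fst_snd X T).flip ‹_›
instance [GeometricallyConnected X.hom] : GeometricallyConnected (snd X T).left :=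
  MorphismProperty.of_isPullback (isPullback_fst_snd X T) ‹_›
instance [GeometricallyConnected T.hom] : GeometricallyConnected (fst X T).left :=
  MorphismProperty.of_isPullback (isPullback_fst_snd X T).flip ‹_›
instance [GeometricallyReduced X.hom] : GeometricallyReduced (snd X T).left :=
  MorphismProperty.of_isPullback (isPullback_fst_snd X T) ‹_›
instance [GeometricallyReduced T.hom] : GeometricallyReduced (fst X T).left :=
  MorphismProperty.of_isPullback (isPullback_fst_snd X T).flip ‹_›
instance [IsSeparated X.hom] : IsSeparated (snd X T).left :=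
  MorphismProperty.of_isPullback (isPullback_fst_snd X T) ‹_›
instance [IsSeparated T.hom] : IsSeparated (fst X T).left :=
  MorphismProperty.of_isPullback (isPullback_fst_snd X T).flip ‹_›

lemma snd_comp_hom : (snd X T).left ≫ T.hom = (X ⊗ T).hom := Over.w _
lemma fst_comp_hom : (fst X T).left ≫ X.hom = (X ⊗ T).hom := Over.w _

instance [IsProper X.hom] [IsProper T.hom] : IsProper (X ⊗ T).hom := by
  rw [← snd_comp_hom]; infer_instance
instance [Flat X.hom] [Flat T.hom] : Flat (X ⊗ T).hom := by
  rw [← snd_comp_hom]; infer_instance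
instance [LocallyOfFinitePresentation X.hom] [LocallyOfFinitePresentation T.hom] :
    LocallyOfFinitePresentation (X ⊗ T).hom := by
  rw [← snd_comp_hom]; infer_instance
instance [IsSeparated X.hom] [IsSeparated T.hom] : IsSeparated (X ⊗ T).hom := by
  rw [← snd_comp_hom]; infer_instance
instance [Flat X.hom] [LocallyOfFinitePresentation X.hom] [GeometricallyConnected X.hom]
    [Flat T.hom] [LocallyOfFinitePresentation T.hom] [GeometricallyConnected T.hom] :
    GeometricallyConnected (X ⊗ T).hom := by
  rw [← snd_comp_hom]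
  exact GeometricallyConnected.comp _ _

end Instances

/-- Base change along a whiskering. -/
theorem isPullback_whiskerLeft (G : Over S) {T T' : Over S} (j : T' ⟶ T) :
    IsPullback (G ◁ j).left (snd G T').left (snd G T).left j.left := by
  refine IsPullback.of_right (h₁₂ := (fst G T).left) (v₁₃ := G.hom) (h₂₂ := T.hom) ?_ ?_
    (isPullback_fst_snd G T)
  · rw [← Over.comp_left, whiskerLeft_fst, Over.w]
    exact isPullback_fst_snd G T'
  · rw [← Over.comp_left, ← Over.comp_left, whiskerLeft_snd]

/-- A clopen subset of a scheme with connected fibres over `S` which contains a section is everything. -/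
theorem eq_univ_of_isClopen {T : Over S} [GeometricallyConnected T.hom] (e : 𝟙_ (Over S) ⟶ T)
    {W : Set T.left} (hW : IsClopen W) (he : Set.range e.left ⊆ W) : W = Set.univ := by
  rw [Set.eq_univ_iff_forall]
  intro t
  have hc := T.hom.isConnected_preimage_singleton (T.hom t)
  have h1 : T.hom (e.left (T.hom t)) = T.hom t := by
    rw [← Scheme.Hom.comp_apply, Over.w]
    rfl
  have h2 : e.left (T.hom t) ∈ T.hom ⁻¹' {T.hom t} := h1
  exact hc.isPreconnected.subset_isClopen hW ⟨_, h2, he ⟨_, rfl⟩⟩ rfl

/-- The points of `T` on a section along which `φ : X ⊗ T ⟶ Y` is constant are collapsed. -/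
theorem mem_collapsed_of_section {X T Y : Over S} (φ : X ⊗ T ⟶ Y) (e : 𝟙_ (Over S) ⟶ T)
    (y : 𝟙_ (Over S) ⟶ Y) (h : X ◁ e ≫ φ = toUnit _ ≫ y) (s : ↥(𝟙_ (Over S)).left) :
    e.left s ∈ collapsed (snd X T).left φ.left := by
  have key : ∀ z : ↥(X ⊗ T).left, (snd X T).left z = e.left s → φ.left z = y.left s := by
    intro z hz
    obtain ⟨w, hw1, hw2⟩ := Scheme.exists_preimage_of_isPullback (isPullback_whiskerLeft X e) z s hz
    rw [← hw1, ← Scheme.Hom.comp_apply, ← Over.comp_left, h,
      toUnit_unique (toUnit _) (snd X (𝟙_ (Over S))), Over.comp_left, Scheme.Hom.comp_apply, hw2]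
  rintro _ ⟨x, hx, rfl⟩ _ ⟨x', hx', rfl⟩
  rw [key x hx, key x' hx']

/-- **Rigidity** over `S`. -/
theorem existsUnique_factor_of_section {X T Y : Over S} [IsProper X.hom] [Flat X.hom]
    [LocallyOfFinitePresentation X.hom] [GeometricallyConnected X.hom] [GeometricallyReduced X.hom]
    [GeometricallyConnected T.hom] [IsSeparated Y.hom] (φ : X ⊗ T ⟶ Y) (e : 𝟙_ (Over S) ⟶ T)
    (y : 𝟙_ (Over S) ⟶ Y) (h : X ◁ e ≫ φ = toUnit _ ≫ y) :
    ∃! k : T ⟶ Y, snd X T ≫ k = φ := by
  have h1 : collapsed (snd X T).left φ.left = Set.univ := by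
    refine eq_univ_of_isClopen e (isClopen_collapsed (snd X T).left φ.left T.hom Y.hom ?_) ?_
    · rw [Over.w, snd_comp_hom]
    · rintro _ ⟨s, rfl⟩
      exact mem_collapsed_of_section φ e y h s
  obtain ⟨k, hk, huniq⟩ := existsUnique_factor (snd X T).left φ.left
    (fun t => by rw [h1]; trivial)
  have hk' : k ≫ Y.hom = T.hom := by
    have : Epi (snd X T).left := Flat.epi_of_flat_of_surjective _
    rw [← cancel_epi (snd X T).left, ← Category.assoc, hk, Over.w, snd_comp_hom]
  refine ⟨Over.homMk k hk', ?_, fun k' hk'' => ?_⟩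
  · ext1
    exact hk
  · ext1
    exact huniq k'.left (congrArg CommaMorphism.left hk'')

/-- Rigidity, with a section `x` of `X`: `φ(a, t) = φ(x, t)`. -/
theorem eq_of_section {X T Y : Over S} [IsProper X.hom] [Flat X.hom]
    [LocallyOfFinitePresentation X.hom] [GeometricallyConnected X.hom] [GeometricallyReduced X.hom]
    [GeometricallyConnected T.hom] [IsSeparated Y.hom] (φ : X ⊗ T ⟶ Y) (e : 𝟙_ (Over S) ⟶ T)
    (x : 𝟙_ (Over S) ⟶ X)
    (y : 𝟙_ (Over S) ⟶ Y) (h : X ◁ e ≫ φ = toUnit _ ≫ y) :
    φ = snd X T ≫ lift (toUnit T ≫ x) (𝟙 T) ≫ φ := by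
  obtain ⟨k, hk, -⟩ := existsUnique_factor_of_section φ e y h
  have h2 : lift (toUnit T ≫ x) (𝟙 T) ≫ φ = k := by
    rw [← hk, lift_snd_assoc, Category.id_comp]
  rw [h2, hk]

end K448.RigidOver
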