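import Groth.Agent.AbSch.K448.ESec
import Groth.Agent.AbSch.K448.RigidOver
import Groth.Agent.AbSch.K448.SmoothConn
import Groth.Agent.S11992
import Groth.Agent.S11994
import Groth.Agent.Books.AlgPts

/-!
# Sections of an extension `0 → A → E → T → 0` over open subschemes of `T`: the cocycle is trivial

`k` is algebraically closed, `T` a smooth connected group scheme of finite type, `A` an abelian variety.

* `exists_translate`: translate `(W, e)` so that `1 ∈ W` and `e(1) = 0`.
* `add_eq`: if `1 ∈ W`, `e(1) = 0`, `e` lifts `n • inclusion`, then `e(x y) = e(x) + e(y)` whenever `x, y, x y ∈ W`.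
-/

set_option autoImplicit false
universe u
open CategoryTheory CategoryTheory.Limits MonoidalCategory CartesianMonoidalCategory MonObj AlgebraicGeometry
open CGrpSh Opposite

namespace K448.GroupCocycle

open K594.Cover K448.ESec K448.RigidOver Groth.Agent.Books.AlgPts

theorem isOpenImmersion_pullback_fst {S : Scheme.{u}} {X Y Z : Over S} (f : X ⟶ Z) (g : Y ⟶ Z)
    [IsOpenImmersion g.left] : IsOpenImmersion (pullback.fst f g).left := by
  have h := ((IsPullback.of_hasPullback f g).map (Over.forget S)).flip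
  exact MorphismProperty.of_isPullback h ‹_›

theorem isOpenImmersion_pullback_snd {S : Scheme.{u}} {X Y Z : Over S} (f : X ⟶ Z) (g : Y ⟶ Z)
    [IsOpenImmersion f.left] : IsOpenImmersion (pullback.snd f g).left := by
  have h := ((IsPullback.of_hasPullback f g).map (Over.forget S))
  exact MorphismProperty.of_isPullback h ‹_›

theorem isOpenImmersion_tensor {S : Scheme.{u}} {X Y X' Y' : Over S} (f : X ⟶ X') (g : Y ⟶ Y')
    [IsOpenImmersion f.left] [IsOpenImmersion g.left] : IsOpenImmersion (f ⊗ₘ g).left := by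
  have h1 : IsOpenImmersion (X ◁ g).left :=
    MorphismProperty.of_isPullback (isPullback_whiskerLeft X g).flip ‹_›
  have h2 : IsOpenImmersion (f ▷ Y').left := by
    have h3 : IsOpenImmersion (Y' ◁ f).left :=
      MorphismProperty.of_isPullback (isPullback_whiskerLeft Y' f).flip ‹_›
    have h4 : f ▷ Y' = (β_ X Y').hom ≫ (Y' ◁ f) ≫ (β_ X' Y').inv := by
      apply CartesianMonoidalCategory.hom_ext <;> simp
    rw [h4]
    have h5 : IsIso (β_ X Y').hom.left := inferInstanceAs (IsIso ((Over.forget S).map (β_ X Y').hom))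
    have h6 : IsIso (β_ X' Y').inv.left := inferInstanceAs (IsIso ((Over.forget S).map (β_ X' Y').inv))
    change IsOpenImmersion ((β_ X Y').hom.left ≫ (Y' ◁ f).left ≫ (β_ X' Y').inv.left)
    infer_instance
  rw [tensorHom_def']
  change IsOpenImmersion ((X ◁ g).left ≫ (f ▷ Y').left)
  infer_instance

section Translate

variable {k : Type u} [Field k] [IsAlgClosed k] {T : Over (Spec (CommRingCat.of k))} [GrpObj T] [IsCommMonObj T]
variable (E : BigSite.Ab Scheme.fppfPrecoverage (Spec (CommRingCat.of k))) (q : E ⟶ P T)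

theorem exists_translate [LocallyOfFiniteType T.hom] {W : Over (Spec (CommRingCat.of k))} (t : W ⟶ T)
    [IsOpenImmersion t.left]
    [Nonempty W.left] (n : ℕ) (e : E.obj.obj (op W)) (he : ap q e = n • pt t) :
    ∃ (W' : Over (Spec (CommRingCat.of k))) (t' : W' ⟶ T) (_ : IsOpenImmersion t'.left)
      (v : 𝟙_ (Over (Spec (CommRingCat.of k))) ⟶ W'), v ≫ t' = 1 ∧
      ∃ e' : E.obj.obj (op W'), ap q e' = n • pt t' ∧ r E v e' = 0 := by
  have : LocallyOfFiniteType W.hom := by
    rw [← Over.w t]; infer_instance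
  obtain ⟨w₀, -⟩ := exists_pt_mem (X := W) (U := Set.univ) Set.univ_nonempty isOpen_univ.isLocallyClosed
  let a : 𝟙_ (Over (Spec (CommRingCat.of k))) ⟶ T := w₀ ≫ t
  let τ : T ⟶ T := 𝟙 T * (toUnit T ≫ a)
  have hsnd := isOpenImmersion_pullback_snd t τ
  have hcond : pullback.fst t τ ≫ t = pullback.snd t τ * (toUnit _ ≫ a) := by
    rw [pullback.condition, MonObj.comp_mul, Category.comp_id, ← Category.assoc, toUnit_unique (_ ≫ toUnit T) (toUnit _)]
  let v : 𝟙_ (Over (Spec (CommRingCat.of k))) ⟶ pullback t τ := pullback.lift w₀ 1 (by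
    rw [MonObj.comp_mul, Category.comp_id, _root_.one_mul, ← Category.assoc, toUnit_unique (_ ≫ toUnit T) (𝟙 _),
      Category.id_comp])
  refine ⟨pullback t τ, pullback.snd t τ, hsnd, v, pullback.lift_snd _ _ _,
    r E (pullback.fst t τ) e - r E (toUnit _ ≫ w₀) e, ?_, ?_⟩
  · rw [map_sub, ap_r, ap_r, he, map_nsmul, map_nsmul, r_pt, r_pt, hcond, pt_mul, ← smul_sub, Category.assoc,
      add_sub_cancel_right]
  · rw [map_sub, ← r_comp, ← r_comp, pullback.lift_fst, ← Category.assoc, toUnit_unique (v ≫ toUnit _) (𝟙 _),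
      Category.id_comp, sub_self]

end Translate

section Ext

variable {k : Type u} [Field k] {T A : Over (Spec (CommRingCat.of k))} [GrpObj A]

theorem isIntegral_left [Smooth T.hom] [GeometricallyConnected T.hom] : IsIntegral T.left := by
  have : GeometricallyIntegral T.hom := K448.SmoothConn.geometricallyIntegral T.hom
  exact GeometricallyIntegral.isIntegral_of_subsingleton T.hom

/-- extension of morphisms from opens, in the category over `k` -/
theorem exists_extension [IsProper A.hom] [GeometricallyIntegral A.hom] {X Ω : Over (Spec (CommRingCat.of k))} [Smooth X.hom] [QuasiCompact X.hom]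
    [IsSeparated X.hom] [GeometricallyConnected X.hom] (j : Ω ⟶ X) [IsOpenImmersion j.left] [Nonempty Ω.left]
    (c : Ω ⟶ A) : ∃ g : X ⟶ A, j ≫ g = c := by
  have : GeometricallyIntegral X.hom := K448.SmoothConn.geometricallyIntegral X.hom
  obtain ⟨g, hg1, hg2⟩ := Groth.Agent.S11992.result k X.left X.hom A j.left.opensRange (by
      obtain ⟨x⟩ := (inferInstance : Nonempty Ω.left)
      exact ⟨j.left x, x, rfl⟩) (j.left.isoOpensRange.inv ≫ c.left) (by
      rw [Category.assoc, Over.w c, ← Over.w j, ← Category.assoc, Scheme.Hom.isoOpensRange_inv_comp])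
  refine ⟨Over.homMk g hg1, ?_⟩
  apply Over.OverMorphism.ext
  change j.left ≫ g = c.left
  rw [← Scheme.Hom.isoOpensRange_hom_ι j.left, Category.assoc, hg2, Iso.hom_inv_id_assoc]

/-- a morphism to `A` which is trivial on a nonempty open is trivial -/
theorem eq_one_of_open [IsSeparated A.hom] [Smooth T.hom] [GeometricallyConnected T.hom] {Ω : Over (Spec (CommRingCat.of k))} (j : Ω ⟶ T) [IsOpenImmersion j.left] [Nonempty Ω.left]
    (g : T ⟶ A) (h : j ≫ g = 1) : g = 1 := by
  have hi : IsIntegral T.left := isIntegral_left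
  have hd : IsDominant j.left := by
    constructor
    obtain ⟨x⟩ := (inferInstance : Nonempty Ω.left)
    exact (j.left.isOpenEmbedding.isOpen_range).dense ⟨_, x, rfl⟩
  apply Over.OverMorphism.ext
  have h3 : j.left ≫ g.left = j.left ≫ (1 : T ⟶ A).left := by
    have h4 : j ≫ g = j ≫ 1 := by rw [h, MonObj.comp_one]
    exact congrArg (fun z => z.left) h4
  exact ext_of_isDominant_of_isSeparated A.hom ((Over.w g).trans (Over.w (1 : T ⟶ A)).symm) j.left h3

end Ext

section Cocycle

variable {k : Type u} [Field k] {T A : Over (Spec (CommRingCat.of k))} [GrpObj T] [IsCommMonObj T]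
  [GrpObj A] [IsCommMonObj A]
variable {E : BigSite.Ab Scheme.fppfPrecoverage (Spec (CommRingCat.of k))} {i : P A ⟶ E} {q : E ⟶ P T}
  {w : i ≫ q = 0} (hex : (ShortComplex.mk i q w).ShortExact)
  [Smooth T.hom] [QuasiCompact T.hom] [IsSeparated T.hom] [GeometricallyConnected T.hom]
  [IsProper A.hom] [GeometricallyIntegral A.hom]

include hex in
/-- Over the set where `x, y, x y ∈ W`. -/
theorem add_eq {W : Over (Spec (CommRingCat.of k))} (t : W ⟶ T) [IsOpenImmersion t.left]
    (v : 𝟙_ (Over (Spec (CommRingCat.of k))) ⟶ W) (hv : v ≫ t = 1) (n : ℕ) (e : E.obj.obj (op W))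
    (he : ap q e = n • pt t) (he0 : r E v e = 0) {X : Over (Spec (CommRingCat.of k))} (x y z : X ⟶ W)
    (hz : z ≫ t = (x ≫ t) * (y ≫ t)) : r E z e = r E x e + r E y e := by
  have hmono : Mono t := by
    have : Mono ((Over.forget _).map t) := inferInstanceAs (Mono t.left)
    exact (Over.forget _).mono_of_mono_map this
  let m₂ : W ⊗ W ⟶ T := (fst W W ≫ t) * (snd W W ≫ t)
  let ω : pullback m₂ t ⟶ W ⊗ W := pullback.fst m₂ t
  let ζ : pullback m₂ t ⟶ W := pullback.snd m₂ t
  have hω : ω ≫ m₂ = ζ ≫ t := pullback.condition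
  have hζ : ζ ≫ t = (ω ≫ fst W W ≫ t) * (ω ≫ snd W W ≫ t) := by rw [← hω, MonObj.comp_mul]
  -- factorisation of points through the universal case
  have fac : ∀ {X : Over (Spec (CommRingCat.of k))} (x y z : X ⟶ W), z ≫ t = (x ≫ t) * (y ≫ t) →
      ∃ l : X ⟶ pullback m₂ t, l ≫ ω ≫ fst W W = x ∧ l ≫ ω ≫ snd W W = y ∧ l ≫ ζ = z := by
    intro X x y z hz
    refine ⟨pullback.lift (lift x y) z (by
      rw [MonObj.comp_mul, ← Category.assoc, ← Category.assoc, lift_fst, lift_snd, hz]), ?_, ?_, ?_⟩
    · rw [← Category.assoc, pullback.lift_fst, lift_fst]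
    · rw [← Category.assoc, pullback.lift_fst, lift_snd]
    · exact pullback.lift_snd _ _ _
  -- the cocycle
  let c : E.obj.obj (op (pullback m₂ t)) := r E (ω ≫ fst W W) e + r E (ω ≫ snd W W) e - r E ζ e
  have hc : ap q c = 0 := by
    rw [map_sub, map_add, ap_r, ap_r, ap_r, he, map_nsmul, map_nsmul, map_nsmul, r_pt, r_pt, r_pt, hζ, pt_mul,
      smul_add, Category.assoc, Category.assoc, sub_self]
  obtain ⟨cA, hcA⟩ := exists_ker hex c hc
  have val : ∀ {X : Over (Spec (CommRingCat.of k))} (l : X ⟶ pullback m₂ t),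
      ap i (pt (l ≫ cA)) = r E (l ≫ ω ≫ fst W W) e + r E (l ≫ ω ≫ snd W W) e - r E (l ≫ ζ) e := by
    intro X l
    rw [← r_pt, ap_r, hcA, map_sub, map_add, ← r_comp, ← r_comp, ← r_comp]
  have hω' : IsOpenImmersion ω.left := isOpenImmersion_pullback_fst _ _
  have htt : IsOpenImmersion (t ⊗ₘ t).left := isOpenImmersion_tensor t t
  let O : pullback m₂ t ⟶ T ⊗ T := ω ≫ (t ⊗ₘ t)
  have hO : IsOpenImmersion O.left := inferInstanceAs (IsOpenImmersion (ω.left ≫ (t ⊗ₘ t).left))
  obtain ⟨vv, hvv1, hvv2, hvv3⟩ := fac v v v (by rw [hv, _root_.mul_one])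
  have hneK : Nonempty (pullback m₂ t).left := ⟨vv.left (IsLocalRing.closedPoint k)⟩
  have hsm : Smooth (T ⊗ T).hom := by
    rw [← snd_comp_hom]
    have : Smooth (snd T T).left := MorphismProperty.of_isPullback (isPullback_fst_snd T T) ‹_›
    infer_instance
  have hqc : QuasiCompact (T ⊗ T).hom := by
    rw [← snd_comp_hom]
    have : QuasiCompact (snd T T).left := MorphismProperty.of_isPullback (isPullback_fst_snd T T) ‹_›
    infer_instance
  obtain ⟨g, hg⟩ := exists_extension (X := T ⊗ T) O cA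
  have hOfst : O ≫ fst T T = ω ≫ fst W W ≫ t := by
    change (ω ≫ (t ⊗ₘ t)) ≫ fst T T = _
    rw [Category.assoc, tensorHom_fst]
  have hOsnd : O ≫ snd T T = ω ≫ snd W W ≫ t := by
    change (ω ≫ (t ⊗ₘ t)) ≫ snd T T = _
    rw [Category.assoc, tensorHom_snd]
  -- `g` is a homomorphism
  have hgη : η[T ⊗ T] ≫ g = η[A] := by
    have h1 : vv ≫ O = η[T ⊗ T] := by
      apply CartesianMonoidalCategory.hom_ext
      · rw [Category.assoc, hOfst, ← Category.assoc, ← Category.assoc, Category.assoc vv, hvv1, hv,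
          IsMonHom.one_hom, MonObj.one_eq_one]
      · rw [Category.assoc, hOsnd, ← Category.assoc, ← Category.assoc, Category.assoc vv, hvv2, hv,
          IsMonHom.one_hom, MonObj.one_eq_one]
    rw [← h1, Category.assoc, hg]
    apply i_inj hex
    rw [val, hvv1, hvv2, hvv3, he0, add_zero, sub_zero, MonObj.one_eq_one, pt_one, map_zero]
  have hgi : GeometricallyIntegral (T ⊗ T).hom := K448.SmoothConn.geometricallyIntegral (T ⊗ T).hom
  have hgm : IsMonHom g := Groth.Agent.S11994.result k (T ⊗ T) A g hgη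
  have hneW : Nonempty W.left := ⟨v.left (IsLocalRing.closedPoint k)⟩
  -- `g` is trivial on the axes
  have hg1 : lift (𝟙 T) 1 ≫ g = 1 := by
    apply eq_one_of_open t
    obtain ⟨l, hl1, hl2, hl3⟩ := fac (𝟙 W) (toUnit W ≫ v) (𝟙 W) (by
      rw [Category.assoc, hv, MonObj.comp_one, _root_.mul_one])
    have h1 : l ≫ O = t ≫ lift (𝟙 T) 1 := by
      apply CartesianMonoidalCategory.hom_ext
      · rw [Category.assoc, hOfst, Category.assoc, lift_fst, ← Category.assoc, ← Category.assoc,
          Category.assoc l, hl1, Category.id_comp, Category.comp_id]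
      · rw [Category.assoc, hOsnd, Category.assoc, lift_snd, ← Category.assoc, ← Category.assoc,
          Category.assoc l, hl2, Category.assoc, hv, MonObj.comp_one, MonObj.comp_one]
    rw [← Category.assoc, ← h1, Category.assoc, hg]
    apply i_inj hex
    rw [val, hl1, hl2, hl3, r_comp, he0, map_zero, add_zero, sub_self, pt_one, map_zero]
  have hg2 : lift 1 (𝟙 T) ≫ g = 1 := by
    apply eq_one_of_open t
    obtain ⟨l, hl1, hl2, hl3⟩ := fac (toUnit W ≫ v) (𝟙 W) (𝟙 W) (by
      rw [Category.assoc, hv, MonObj.comp_one, _root_.one_mul])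
    have h1 : l ≫ O = t ≫ lift 1 (𝟙 T) := by
      apply CartesianMonoidalCategory.hom_ext
      · rw [Category.assoc, hOfst, Category.assoc, lift_fst, ← Category.assoc, ← Category.assoc,
          Category.assoc l, hl1, Category.assoc, hv, MonObj.comp_one, MonObj.comp_one]
      · rw [Category.assoc, hOsnd, Category.assoc, lift_snd, ← Category.assoc, ← Category.assoc,
          Category.assoc l, hl2, Category.id_comp, Category.comp_id]
    rw [← Category.assoc, ← h1, Category.assoc, hg]
    apply i_inj hex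
    rw [val, hl1, hl2, hl3, r_comp, he0, map_zero, zero_add, sub_self, pt_one, map_zero]
  have hgone : g = 1 := by
    have h1 : (𝟙 (T ⊗ T)) = (fst T T ≫ lift (𝟙 T) 1) * (snd T T ≫ lift 1 (𝟙 T)) := by
      apply CartesianMonoidalCategory.hom_ext
      · rw [Category.id_comp, MonObj.mul_comp, Category.assoc, Category.assoc, lift_fst, lift_fst,
          Category.comp_id, MonObj.comp_one, _root_.mul_one]
      · rw [Category.id_comp, MonObj.mul_comp, Category.assoc, Category.assoc, lift_snd, lift_snd,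
          Category.comp_id, MonObj.comp_one, _root_.one_mul]
    rw [← Category.id_comp g, h1, MonObj.mul_comp, Category.assoc, Category.assoc, hg1, hg2, MonObj.comp_one,
      MonObj.comp_one, _root_.mul_one]
  obtain ⟨l, hl1, hl2, hl3⟩ := fac x y z hz
  have h2 := val l
  rw [hl1, hl2, hl3, ← hg, hgone, MonObj.comp_one, MonObj.comp_one, pt_one, map_zero] at h2
  exact (sub_eq_zero.1 h2.symm).symm

end Cocycle

end K448.GroupCocycle
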