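import Groth.Agent.AbSch.K448.GroupCocycle

/-!
# Additive sections over an open subscheme extend to the whole group

`exists_hom`: `k` algebraically closed; `0 → A → E → T → 0` exact with `A` an abelian variety, `T` smooth connected
of finite type; a section `e ∈ E(W)` over a nonempty open `W` of `T` lifting `n • inclusion` gives a morphism
`τ : pts T ⟶ E` with `τ ≫ q = n • 𝟙`.
-/

set_option autoImplicit false
universe u
open CategoryTheory CategoryTheory.Limits MonoidalCategory CartesianMonoidalCategory MonObj AlgebraicGeometry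
open CGrpSh Opposite

namespace K448.GroupExt

open K594.Cover K448.ESec K448.RigidOver K448.GroupCocycle Groth.Agent.Books.AlgPts

section Mul

variable {S : Scheme.{u}} {T : Over S} [GrpObj T]

/-- `(x, y) ↦ (x y, y)` -/
noncomputable def shear (T : Over S) [GrpObj T] : T ⊗ T ≅ T ⊗ T where
  hom := lift (fst T T * snd T T) (snd T T)
  inv := lift (fst T T * (snd T T)⁻¹) (snd T T)
  hom_inv_id := by
    apply CartesianMonoidalCategory.hom_ext
    · rw [Category.assoc, lift_fst, MonObj.comp_mul, lift_fst, GrpObj.comp_inv, lift_snd, mul_inv_cancel_right,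
        Category.id_comp]
    · rw [Category.assoc, lift_snd, lift_snd, Category.id_comp]
  inv_hom_id := by
    apply CartesianMonoidalCategory.hom_ext
    · rw [Category.assoc, lift_fst, MonObj.comp_mul, lift_fst, lift_snd, inv_mul_cancel_right, Category.id_comp]
    · rw [Category.assoc, lift_snd, lift_snd, Category.id_comp]

theorem smooth_mul [Smooth T.hom] : Smooth (fst T T * snd T T).left := by
  have h1 : fst T T * snd T T = (shear T).hom ≫ fst T T := by
    change _ = lift (fst T T * snd T T) (snd T T) ≫ fst T T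
    rw [lift_fst]
  have h2 : Smooth (fst T T).left := MorphismProperty.of_isPullback (isPullback_fst_snd T T).flip ‹_›
  have h3 : IsIso (shear T).hom.left := inferInstanceAs (IsIso ((Over.forget S).map (shear T).hom))
  rw [h1]
  change Smooth ((shear T).hom.left ≫ (fst T T).left)
  infer_instance

theorem smooth_mul_open [Smooth T.hom] {W : Over S} (t : W ⟶ T) [IsOpenImmersion t.left] :
    Smooth ((fst W W ≫ t) * (snd W W ≫ t)).left := by
  have h1 : (fst W W ≫ t) * (snd W W ≫ t) = (t ⊗ₘ t) ≫ (fst T T * snd T T) := by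
    rw [MonObj.comp_mul, tensorHom_fst, tensorHom_snd]
  have h2 : IsOpenImmersion (t ⊗ₘ t).left := isOpenImmersion_tensor t t
  have h3 : Smooth (fst T T * snd T T).left := smooth_mul
  rw [h1]
  change Smooth ((t ⊗ₘ t).left ≫ (fst T T * snd T T).left)
  infer_instance

end Mul

theorem range_of_isPullback {P X Y Z : Scheme.{u}} {fst : P ⟶ X} {snd : P ⟶ Y} {f : X ⟶ Z} {g : Y ⟶ Z}
    (h : IsPullback fst snd f g) : Set.range fst = f ⁻¹' Set.range g := by
  rw [← Scheme.Pullback.range_fst f g, ← h.isoPullback_hom_fst, Scheme.Hom.comp_base]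
  simp only [TopCat.hom_comp, ContinuousMap.coe_comp]
  rw [Set.range_comp, Set.range_eq_univ.2 (show Function.Surjective _ from h.isoPullback.hom.surjective),
    Set.image_univ]

theorem isDominant_pullback_fst {S : Scheme.{u}} {Q T W : Over S} (π : Q ⟶ T) (t : W ⟶ T)
    (hop : IsOpenMap π.left) [IsDominant t.left] : IsDominant (pullback.fst π t).left := by
  have h := (IsPullback.of_hasPullback π t).map (Over.forget S)
  constructor
  change Dense (Set.range (pullback.fst π t).left)
  have h2 := range_of_isPullback h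
  change Set.range (pullback.fst π t).left = π.left ⁻¹' Set.range t.left at h2
  rw [h2]
  exact (IsDominant.denseRange (f := t.left)).preimage hop

section Main

variable {k : Type u} [Field k] [IsAlgClosed k] {T : Over (Spec (CommRingCat.of k))} [GrpObj T] [IsCommMonObj T]
  [Smooth T.hom] [GeometricallyConnected T.hom]

/-- `W × W → T` is surjective for every nonempty open `W` of `T`. -/
theorem surjective_mul_open {W : Over (Spec (CommRingCat.of k))} (t : W ⟶ T) [IsOpenImmersion t.left]
    [Nonempty W.left] : Surjective ((fst W W ≫ t) * (snd W W ≫ t)).left := by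
  have hi : IsIntegral T.left := isIntegral_left
  have hlW : LocallyOfFiniteType W.hom := by
    rw [← Over.w t]; infer_instance
  have hlWW : LocallyOfFiniteType (W ⊗ W).hom := by
    rw [← snd_comp_hom]
    have : LocallyOfFiniteType (snd W W).left := MorphismProperty.of_isPullback (isPullback_fst_snd W W) ‹_›
    infer_instance
  have hsm : Smooth ((fst W W ≫ t) * (snd W W ≫ t)).left := smooth_mul_open t
  have hop : IsOpen (Set.range ((fst W W ≫ t) * (snd W W ≫ t)).left) :=
    ((fst W W ≫ t) * (snd W W ≫ t)).left.isOpenMap.isOpen_range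
  constructor
  rw [← Set.range_eq_univ, ← Set.compl_empty_iff, ← Set.not_nonempty_iff_eq_empty]
  intro hne
  obtain ⟨y, hy⟩ := exists_pt_mem (X := T) hne hop.isClosed_compl.isLocallyClosed
  apply hy
  let φ : T ⟶ T := (𝟙 T)⁻¹ * (toUnit T ≫ y)
  have hφ : φ ≫ φ = 𝟙 T := by
    rw [MonObj.comp_mul, GrpObj.comp_inv, Category.comp_id, ← Category.assoc φ, toUnit_unique (φ ≫ toUnit T) (toUnit T),
      mul_inv, inv_inv, inv_mul_cancel_right]
  have hφs : Function.Surjective φ.left := by
    intro z
    refine ⟨φ.left z, ?_⟩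
    have := congrArg (fun f => f.left z) hφ
    simpa using this
  have hU1 : IsOpen (Set.range t.left) := t.left.isOpenEmbedding.isOpen_range
  have hU2 : IsOpen (φ.left ⁻¹' Set.range t.left) := hU1.preimage φ.left.continuous
  obtain ⟨w₀⟩ := (inferInstance : Nonempty W.left)
  obtain ⟨z, hz⟩ := hφs (t.left w₀)
  have hne2 : (Set.range t.left ∩ φ.left ⁻¹' Set.range t.left).Nonempty :=
    nonempty_preirreducible_inter hU1 hU2 ⟨_, w₀, rfl⟩ ⟨z, w₀, hz.symm⟩
  obtain ⟨x, hx1, hx2⟩ := exists_pt_mem (X := T) hne2 (hU1.inter hU2).isLocallyClosed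
  obtain ⟨x', hx'⟩ := exists_comp_eq_of_pt_mem_range t x hx1
  obtain ⟨y', hy'⟩ := exists_comp_eq_of_pt_mem_range t (x ≫ φ) (by
    rw [pt_comp]; exact hx2)
  refine ⟨pt (lift x' y'), ?_⟩
  rw [← pt_comp, MonObj.comp_mul, ← Category.assoc, ← Category.assoc, lift_fst, lift_snd, hx', hy',
    MonObj.comp_mul, GrpObj.comp_inv, Category.comp_id, ← Category.assoc, toUnit_unique (x ≫ toUnit T) (𝟙 _),
    Category.id_comp, mul_inv_cancel_left]

omit [IsAlgClosed k] in
theorem isDominant_of_open {T W : Over (Spec (CommRingCat.of k))} [Smooth T.hom] [GeometricallyConnected T.hom]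
    (t : W ⟶ T) [IsOpenImmersion t.left] [Nonempty W.left] : IsDominant t.left := by
  have hi : IsIntegral T.left := isIntegral_left
  constructor
  obtain ⟨x⟩ := (inferInstance : Nonempty W.left)
  exact (t.left.isOpenEmbedding.isOpen_range).dense ⟨_, x, rfl⟩

variable {A : Over (Spec (CommRingCat.of k))} [GrpObj A] [IsCommMonObj A]
variable {E : BigSite.Ab Scheme.fppfPrecoverage (Spec (CommRingCat.of k))} {i : P A ⟶ E} {q : E ⟶ P T}
  {w : i ≫ q = 0} (hex : (ShortComplex.mk i q w).ShortExact)
  [QuasiCompact T.hom] [IsSeparated T.hom] [IsProper A.hom] [GeometricallyIntegral A.hom]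

include hex in
theorem exists_section {W : Over (Spec (CommRingCat.of k))} (t : W ⟶ T) [IsOpenImmersion t.left]
    (v : 𝟙_ (Over (Spec (CommRingCat.of k))) ⟶ W) (hv : v ≫ t = 1) (n : ℕ) (e : E.obj.obj (op W))
    (he : ap q e = n • pt t) (he0 : r E v e = 0) :
    ∃ τ : E.obj.obj (op T), ap q τ = n • pt (𝟙 T) ∧ r E t τ = e ∧
      r E (fst T T * snd T T) τ = r E (fst T T) τ + r E (snd T T) τ := by
  have hneW : Nonempty W.left := ⟨v.left (IsLocalRing.closedPoint k)⟩
  have hdom : IsDominant t.left := isDominant_of_open t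
  let m₂ : W ⊗ W ⟶ T := (fst W W ≫ t) * (snd W W ≫ t)
  have hm1 : Smooth m₂.left := smooth_mul_open t
  have hm2 : Surjective m₂.left := surjective_mul_open t
  have hcov : Cov m₂ := ⟨inferInstance, inferInstance, hm2⟩
  let x₀ : E.obj.obj (op (W ⊗ W)) := r E (fst W W) e + r E (snd W W) e
  have hx₀ : ap q x₀ = n • pt m₂ := by
    rw [map_add, ap_r, ap_r, he, map_nsmul, map_nsmul, r_pt, r_pt, ← smul_add, ← pt_mul]
  have hadd := @add_eq _ _ _ _ _ _ _ _ _ _ _ _ hex _ _ _ _ _ _ _ t _ v hv n e he he0
  -- universal case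
  let π : pullback m₂ m₂ ⟶ T := pullback.fst m₂ m₂ ≫ m₂
  have hfst : Smooth (pullback.fst m₂ m₂).left :=
    MorphismProperty.of_isPullback ((IsPullback.of_hasPullback m₂ m₂).map (Over.forget _)).flip hm1
  have hπ : Smooth π.left := inferInstanceAs (Smooth ((pullback.fst m₂ m₂).left ≫ m₂.left))
  have hd1 : IsDominant (pullback.fst π t).left := isDominant_pullback_fst π t π.left.isOpenMap
  have hred : IsReduced (pullback m₂ m₂).left := by
    have hsm : Smooth (pullback m₂ m₂).hom := by
      rw [← Over.w π]; infer_instance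
    exact Groth.Agent.Flat2B.SmoothGeom.isReduced_of_smooth (pullback m₂ m₂).hom
  have huniv : r E (pullback.fst m₂ m₂) x₀ = r E (pullback.snd m₂ m₂) x₀ := by
    rw [← sub_eq_zero]
    apply eq_zero_of_dominant hex (pullback.fst π t)
    · rw [map_sub, ap_r, ap_r, hx₀, map_nsmul, map_nsmul, r_pt, r_pt, pullback.condition, sub_self]
    · have key : ∀ {Z : Over (Spec (CommRingCat.of k))} (l : Z ⟶ W ⊗ W) (z : Z ⟶ W), l ≫ m₂ = z ≫ t →
          r E l x₀ = r E z e := by
        intro Z l z hz
        rw [map_add, ← r_comp, ← r_comp]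
        refine (hadd (l ≫ fst W W) (l ≫ snd W W) z ?_).symm
        rw [← hz, MonObj.comp_mul, Category.assoc, Category.assoc]
      rw [map_sub, ← r_comp, ← r_comp, key (pullback.fst π t ≫ pullback.fst m₂ m₂) (pullback.snd π t),
        key (pullback.fst π t ≫ pullback.snd m₂ m₂) (pullback.snd π t), sub_self]
      · rw [Category.assoc, ← pullback.condition (f := m₂) (g := m₂)]
        exact pullback.condition
      · rw [Category.assoc]
        exact pullback.condition
  obtain ⟨τ, hτ⟩ := glue E hcov x₀ (fun Z a b hab => by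
    have h1 : a = pullback.lift a b hab ≫ pullback.fst m₂ m₂ := (pullback.lift_fst _ _ _).symm
    have h2 : b = pullback.lift a b hab ≫ pullback.snd m₂ m₂ := (pullback.lift_snd _ _ _).symm
    rw [h1, r_comp, huniv, ← r_comp, pullback.lift_snd])
  have hqτ : ap q τ = n • pt (𝟙 T) := by
    apply ext_of_cov (P T) hcov
    rw [← ap_r, hτ, hx₀, map_nsmul, r_pt, Category.comp_id]
  have htτ : r E t τ = e := by
    have h1 : lift (𝟙 W) (toUnit W ≫ v) ≫ m₂ = t := by
      rw [MonObj.comp_mul, ← Category.assoc, ← Category.assoc, lift_fst, lift_snd, Category.id_comp,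
        Category.assoc, hv, MonObj.comp_one, _root_.mul_one]
    rw [← h1, r_comp, hτ, map_add, ← r_comp, ← r_comp, lift_fst, lift_snd, r_id, r_comp, he0, map_zero, add_zero]
  refine ⟨τ, hqτ, htτ, ?_⟩
  have hO1 : IsOpenImmersion (pullback.fst m₂ t).left := isOpenImmersion_pullback_fst _ _
  have hO2 : IsOpenImmersion (t ⊗ₘ t).left := isOpenImmersion_tensor t t
  let O : pullback m₂ t ⟶ T ⊗ T := pullback.fst m₂ t ≫ (t ⊗ₘ t)
  have hO : IsOpenImmersion O.left := inferInstanceAs (IsOpenImmersion ((pullback.fst m₂ t).left ≫ (t ⊗ₘ t).left))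
  have hsmT : Smooth (T ⊗ T).hom := by
    rw [← snd_comp_hom]
    have : Smooth (snd T T).left := MorphismProperty.of_isPullback (isPullback_fst_snd T T) ‹_›
    infer_instance
  let l : 𝟙_ (Over (Spec (CommRingCat.of k))) ⟶ pullback m₂ t := pullback.lift (lift v v) v (by
    rw [MonObj.comp_mul, ← Category.assoc, ← Category.assoc, lift_fst, lift_snd, hv, _root_.mul_one])
  have hneK : Nonempty (pullback m₂ t).left := ⟨l.left (IsLocalRing.closedPoint k)⟩
  have hOd : IsDominant O.left := isDominant_of_open O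
  have hTT : IsIntegral (T ⊗ T).left := isIntegral_left
  have hOfst : O ≫ fst T T = pullback.fst m₂ t ≫ fst W W ≫ t := by
    change (pullback.fst m₂ t ≫ (t ⊗ₘ t)) ≫ fst T T = _
    rw [Category.assoc, tensorHom_fst]
  have hOsnd : O ≫ snd T T = pullback.fst m₂ t ≫ snd W W ≫ t := by
    change (pullback.fst m₂ t ≫ (t ⊗ₘ t)) ≫ snd T T = _
    rw [Category.assoc, tensorHom_snd]
  have hOm : O ≫ (fst T T * snd T T) = pullback.snd m₂ t ≫ t := by
    rw [MonObj.comp_mul, hOfst, hOsnd, ← pullback.condition, MonObj.comp_mul]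
  rw [← sub_eq_zero]
  apply eq_zero_of_dominant hex O
  · rw [map_sub, map_add, ap_r, ap_r, ap_r, hqτ, map_nsmul, map_nsmul, map_nsmul, r_pt, r_pt, r_pt,
      Category.comp_id, Category.comp_id, Category.comp_id, pt_mul, smul_add, sub_self]
  · have hval : ∀ {Z : Over (Spec (CommRingCat.of k))} (a : Z ⟶ W), r E (a ≫ t) τ = r E a e := by
      intro Z a
      rw [r_comp, htτ]
    rw [map_sub, map_add, ← r_comp, ← r_comp, ← r_comp, hOm, hOfst, hOsnd, ← Category.assoc, ← Category.assoc,
      hval, hval, hval, sub_eq_zero]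
    apply hadd
    rw [← pullback.condition, MonObj.comp_mul, Category.assoc, Category.assoc]

include hex in
/-- from a section over a nonempty open to a homomorphism. -/
theorem exists_hom {W : Over (Spec (CommRingCat.of k))} (t : W ⟶ T) [IsOpenImmersion t.left] [Nonempty W.left]
    (n : ℕ) (e : E.obj.obj (op W)) (he : ap q e = n • pt t) : ∃ τ : P T ⟶ E, τ ≫ q = n • 𝟙 (P T) := by
  obtain ⟨W', t', _, v, hv, e', he', he0'⟩ := exists_translate E q t n e he
  obtain ⟨τ, h1, -, h2⟩ := exists_section hex t' v hv n e' he' he0'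
  obtain ⟨φ, hφ⟩ := ESec.exists_hom E τ h2
  refine ⟨φ, hom_ext fun X x => ?_⟩
  obtain ⟨a, rfl⟩ := exists_pt x
  rw [ap_comp, hφ, ap_r, h1, map_nsmul, r_pt, Category.comp_id]
  have h3 : ∀ (m : ℕ), ap (m • 𝟙 (P T)) (pt a) = m • pt a := by
    intro m
    induction m with
    | zero => rw [zero_smul, zero_smul]; rfl
    | succ m ih =>
      rw [add_smul, add_smul, one_smul, one_smul, ← ih]
      rfl
  rw [h3]

end Main

end K448.GroupExt
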