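import Groth.Agent.AbSch.K448.MulIsog
import Groth.Agent.AbSch.K448.PointedHom
import Groth.Agent.Sga3B.KerGrp
import Groth.Agent.Sga3C.FlatOfComp
import Groth.Agent.VarietyB.DimSch
import Groth.Agent.S7782
import Mathlib.AlgebraicGeometry.Sites.Fpqc

/-!
# Isogenies of abelian schemes
-/

set_option autoImplicit false

universe u

open CategoryTheory CategoryTheory.Limits MonoidalCategory CartesianMonoidalCategory MonObj
  AlgebraicGeometry

namespace K448.Isogeny

open Groth.Agent.Sga3B.KerGrp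

variable {S : Scheme.{u}}

/-- The kernel of a finite locally free homomorphism of rank `n` is killed by `n`. -/
theorem pow_eq_one_of_ker {X Y : Over S} [GrpObj X] [IsCommMonObj X] [GrpObj Y] (f : X ⟶ Y)
    [IsMonHom f] [IsFinite f.left] [Flat f.left] [LocallyOfFinitePresentation f.left] (n : ℕ)
    (hdeg : ∀ s : S, Scheme.Hom.finrank f.left (η[Y].left s) = n) {T : Over S} (u : T ⟶ X)
    (hu : u ≫ f = 1) : u ^ n = 1 := by
  obtain ⟨hG, hmon⟩ := exists_grpObj f
  have hc : IsCommMonObj (kerObj f) := by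
    rw [isCommMonObj_iff_isMulCommutative]
    intro T
    refine ⟨⟨fun a b => ?_⟩⟩
    rw [← cancel_mono (kerι f), MonObj.mul_comp, MonObj.mul_comp]
    exact mul_comm _ _
  have h1 : IsFinite (kerObj f).hom :=
    inferInstanceAs (IsFinite (pullback.snd f.left (η[Y] : 𝟙_ (Over S) ⟶ Y).left))
  have h2 : Flat (kerObj f).hom :=
    inferInstanceAs (Flat (pullback.snd f.left (η[Y] : 𝟙_ (Over S) ⟶ Y).left))
  have h3 : LocallyOfFinitePresentation (kerObj f).hom :=
    inferInstanceAs (LocallyOfFinitePresentation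
      (pullback.snd f.left (η[Y] : 𝟙_ (Over S) ⟶ Y).left))
  obtain ⟨v, hv⟩ := exists_lift f u hu
  have h4 : v ^ n = 1 := by
    refine Groth.Agent.S7782.result (kerObj f) n (fun s => ?_) T v
    rw [← hdeg s]
    exact Scheme.Hom.finrank_pullback_snd f.left (η[Y] : 𝟙_ (Over S) ⟶ Y).left s
  rw [← hv, ← MonObj.pow_comp, h4, MonObj.one_comp]

/-- `[n]` factors through a finite locally free homomorphism of degree `n`. -/
theorem exists_factor {X Y : Over S} [GrpObj X] [IsCommMonObj X] [GrpObj Y] (f : X ⟶ Y)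
    [IsMonHom f] [IsFinite f.left] [Flat f.left] [LocallyOfFinitePresentation f.left]
    [Surjective f.left] (n : ℕ)
    (hdeg : ∀ s : S, Scheme.Hom.finrank f.left (η[Y].left s) = n) :
    ∃ g : Y ⟶ X, f ≫ g = 𝟙 X ^ n := by
  have key : ∀ {T : Over S} (a b : T ⟶ X), a ≫ f = b ≫ f → a ≫ (𝟙 X) ^ n = b ≫ (𝟙 X) ^ n := by
    intro T a b hab
    have h1 : (a * b⁻¹) ≫ f = 1 := by
      rw [MonObj.mul_comp, GrpObj.inv_comp, hab, mul_inv_cancel]
    have h2 := pow_eq_one_of_ker f n hdeg (a * b⁻¹) h1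
    rw [mul_pow, inv_pow, mul_inv_eq_one] at h2
    rw [MonObj.comp_pow, MonObj.comp_pow, Category.comp_id, Category.comp_id, h2]
  have key' : ∀ {Z : Scheme.{u}} (g₁ g₂ : Z ⟶ X.left), g₁ ≫ f.left = g₂ ≫ f.left →
      g₁ ≫ ((𝟙 X) ^ n : X ⟶ X).left = g₂ ≫ ((𝟙 X) ^ n : X ⟶ X).left := by
    intro Z g₁ g₂ h
    have h1 : g₂ ≫ X.hom = g₁ ≫ X.hom := by
      rw [← Over.w f, ← Category.assoc, ← h, Category.assoc]
    let a : Over.mk (g₁ ≫ X.hom) ⟶ X := Over.homMk g₁ rfl
    let b : Over.mk (g₁ ≫ X.hom) ⟶ X := Over.homMk g₂ h1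
    have h2 : a ≫ f = b ≫ f := Over.OverMorphism.ext h
    exact congrArg CommaMorphism.left (key a b h2)
  let g : Y.left ⟶ X.left := EffectiveEpi.desc f.left ((𝟙 X) ^ n : X ⟶ X).left key'
  have hg : f.left ≫ g = ((𝟙 X) ^ n : X ⟶ X).left := EffectiveEpi.fac f.left _ key'
  refine ⟨Over.homMk g ?_, Over.OverMorphism.ext hg⟩
  rw [← cancel_epi f.left, ← Category.assoc, hg, Over.w, Over.w]

/-- The dimension of the fibres of an abelian scheme. -/
theorem exists_dim (X : Over S) [IsProper X.hom] [GeometricallyIntegral X.hom] (s : S) :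
    ∃ g : ℕ, topologicalKrullDim ↥(X.hom.fiber s) = g := by
  have hint : IsIntegral (X.hom.fiber s) :=
    GeometricallyIntegral.isIntegral_of_subsingleton (X.hom.fiberToSpecResidueField s)
  let _ : (X.hom.fiber s).Over (Spec (CommRingCat.of (S.residueField s))) :=
    ⟨X.hom.fiberToSpecResidueField s⟩
  have : LocallyOfFiniteType ((X.hom.fiber s) ↘ Spec (CommRingCat.of (S.residueField s))) :=
    inferInstanceAs (LocallyOfFiniteType (pullback.snd X.hom (S.fromSpecResidueField s)))
  exact ⟨_, Groth.Agent.VarietyB.DimSch.topologicalKrullDim_eq_trd (S.residueField s)⟩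

/-- **S7790**. -/
theorem main (hF : K448.MulFibre.FieldZPow.{u}) (X Y : Over S) [GrpObj X] [IsProper X.hom]
    [Flat X.hom] [LocallyOfFinitePresentation X.hom] [GeometricallyReduced X.hom]
    [GeometricallyConnected X.hom]
    [GrpObj Y] [IsProper Y.hom] [Flat Y.hom] [LocallyOfFinitePresentation Y.hom]
    [GeometricallyReduced Y.hom] [GeometricallyConnected Y.hom]
    (f : X ⟶ Y) [IsMonHom f] [IsFinite f.left] [Flat f.left] [Surjective f.left]
    (n : ℕ) (hn : 1 ≤ n) (hdeg : ∀ s : S, Scheme.Hom.finrank f.left (η[Y].left s) = n) :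
    (∃! g : Y ⟶ X, IsMonHom g ∧ f ≫ g = 𝟙 X ^ n) ∧
      ∀ g : Y ⟶ X, IsMonHom g → f ≫ g = 𝟙 X ^ n →
        g ≫ f = 𝟙 Y ^ n ∧ IsFinite g.left ∧ Flat g.left ∧ Surjective g.left := by
  have hX : IsCommMonObj X := K448.PointedHom.isCommMonObj X
  have hXi : GeometricallyIntegral X.hom := K449.Basic.geometricallyIntegral X
  have hlfp : LocallyOfFinitePresentation f.left := by
    have h1 : LocallyOfFinitePresentation (f.left ≫ Y.hom) := by
      rw [Over.w]; infer_instance
    exact Groth.Agent.UnramA.LfpOfComp.lfp_of_comp f.left Y.hom h1 inferInstance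
  have hepi : Epi f.left := Flat.epi_of_flat_of_surjective _
  have hepi' : Epi f := Over.epi_of_epi_left f
  constructor
  · obtain ⟨g, hg⟩ := exists_factor f n hdeg
    refine ⟨g, ⟨?_, hg⟩, fun g' hg' => ?_⟩
    · apply K448.PointedHom.isMonHom_of_pointed
      have h1 : η[X] ≫ f = η[Y] := IsMonHom.one_hom f
      rw [← h1, Category.assoc, hg, MonObj.comp_pow, Category.comp_id, one_eq_one, one_pow]
    · rw [← cancel_epi f, hg, hg'.2]
  · intro g hg hfg
    have hgf : g ≫ f = 𝟙 Y ^ n := by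
      rw [← cancel_epi f, ← Category.assoc, hfg, MonObj.pow_comp, Category.id_comp,
        MonObj.comp_pow, Category.comp_id]
    choose d hd using exists_dim X
    obtain ⟨h1, h2, h3, -⟩ := K448.MulFibre.isogeny_zpow X hF d hd (n : ℤ)
      (by exact_mod_cast (Nat.one_le_iff_ne_zero.mp hn))
    rw [zpow_natCast, ← hfg, Over.comp_left] at h1 h2 h3
    refine ⟨hgf, ?_, Groth.Agent.Sga3C.FlatOfComp.flat_of_comp f.left g.left,
      Surjective.of_comp f.left g.left⟩
    have h4 : LocallyQuasiFinite g.left := by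
      refine LocallyQuasiFinite.of_finite_preimage_singleton _ fun x => ?_
      refine (((f.left ≫ g.left).finite_preimage_singleton x).image f.left).subset fun y hy => ?_
      obtain ⟨z, rfl⟩ := f.left.surjective y
      exact ⟨z, hy, rfl⟩
    exact IsFinite.of_isProper_of_locallyQuasiFinite _

end K448.Isogeny
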