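import Groth.Agent.AbSch.K448.FibreBC
import Groth.Agent.AbSch.K448.PointedHom
import Groth.Agent.AbSch.K449.Basic
import Groth.Agent.UnramA.FibreFlat
import Groth.Agent.Grpsch.AbBC

/-!
# Multiplication by `n` on an abelian scheme, fibre by fibre
-/

set_option autoImplicit false

universe u

open CategoryTheory CategoryTheory.Limits MonoidalCategory CartesianMonoidalCategory MonObj
  AlgebraicGeometry

namespace K448.MulFibre

open K448.FibreBC

variable {S : Scheme.{u}}

/-- Étale morphisms are locally quasi-finite. -/
theorem locallyQuasiFinite_of_etale {X Y : Scheme.{u}} (f : X ⟶ Y) [Etale f] :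
    LocallyQuasiFinite f where
  quasiFinite_appLE {U} hU {V} hV e := by
    have h := HasRingHomProperty.appLE @AlgebraicGeometry.Etale f ‹_› ⟨U, hU⟩ ⟨V, hV⟩ e
    algebraize [(f.appLE U V e).hom]
    change Algebra.QuasiFinite Γ(Y, U) Γ(X, V)
    infer_instance

/-- The two forms of the fibre of a morphism over `S`. -/
theorem fibre_of_map (P : MorphismProperty Scheme.{u}) [P.IsStableUnderBaseChange]
    {A B : Over S} (f : A ⟶ B)
    (s : S) (h : P ((Over.pullback (S.fromSpecResidueField s)).map f).left) :
    P (pullback.snd f.left (B.hom.fiberι s)) := by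
  have hP : P.RespectsIso := MorphismProperty.IsStableUnderBaseChange.respectsIso
  have h1 : IsPullback (pullback.fst A.hom (S.fromSpecResidueField s))
      ((Over.pullback (S.fromSpecResidueField s)).map f).left f.left (B.hom.fiberι s) :=
    isPullback_map_left (S.fromSpecResidueField s) f
  have h2 : P (h1.isoPullback.inv ≫
      ((Over.pullback (S.fromSpecResidueField s)).map f).left) :=
    (MorphismProperty.cancel_left_of_respectsIso P _ _).mpr h
  exact (congrArg (fun g => P g) h1.isoPullback_inv_snd).mp h2

/-- A proper morphism over `S` whose fibres over the points of `S` are quasi-finite is finite. -/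
theorem isFinite_of_fibres {A B : Over S} (f : A ⟶ B) [IsProper f.left]
    (h : ∀ s : S, LocallyQuasiFinite (pullback.snd f.left (B.hom.fiberι s))) : IsFinite f.left := by
  have h1 : LocallyQuasiFinite f.left := by
    refine LocallyQuasiFinite.of_fiberToSpecResidueField f.left fun y => ?_
    obtain ⟨t, ht⟩ := Groth.Agent.UnramA.FibreFlat.isPullback_fiber_pullback f.left B.hom y
    exact MorphismProperty.of_isPullback ht (h (B.hom y))
  exact IsFinite.of_isProper_of_locallyQuasiFinite _

/-- Surjectivity on the fibres over `S` gives surjectivity. -/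
theorem surjective_of_fibres {A B : Over S} (f : A ⟶ B)
    (h : ∀ s : S, Surjective (pullback.snd f.left (B.hom.fiberι s))) : Surjective f.left := by
  refine ⟨fun y => ?_⟩
  obtain ⟨y', hy'⟩ : y ∈ Set.range (B.hom.fiberι (B.hom y)) := by
    rw [B.hom.range_fiberι]; rfl
  obtain ⟨z, hz⟩ := (h (B.hom y)).surj y'
  refine ⟨pullback.fst f.left (B.hom.fiberι (B.hom y)) z, ?_⟩
  rw [← Scheme.Hom.comp_apply, pullback.condition, Scheme.Hom.comp_apply, hz, hy']

/-- Flatness of a morphism over `S` with flat finitely presented source, fibre by fibre. -/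
theorem flat_of_fibres {A B : Over S} (f : A ⟶ B) [LocallyOfFiniteType B.hom]
    [LocallyOfFinitePresentation A.hom] [Flat A.hom]
    (h : ∀ s : S, Flat (pullback.snd f.left (B.hom.fiberι s))) : Flat f.left :=
  (Groth.Agent.UnramA.FibreFlat.flat_and_flat_of_fibres B.hom A.hom f.left (Over.w f) h).1

theorem etale_of_fibres {A B : Over S} (f : A ⟶ B) [LocallyOfFiniteType B.hom]
    [LocallyOfFinitePresentation A.hom] [Flat A.hom]
    (h : ∀ s : S, Etale (pullback.snd f.left (B.hom.fiberι s))) : Etale f.left :=
  Groth.Agent.UnramA.FibreFlat.etale_of_fibres B.hom A.hom f.left (Over.w f) h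

section

attribute [local instance] Functor.grpObjObj

variable (X : Over S) [GrpObj X] [IsProper X.hom] [Flat X.hom]
  [LocallyOfFinitePresentation X.hom] [GeometricallyReduced X.hom] [GeometricallyConnected X.hom]

instance isProper_left_of_isProper {A B : Over S} (f : A ⟶ B) [IsProper A.hom] [IsSeparated B.hom] :
    IsProper f.left := by
  have h : IsProper (f.left ≫ B.hom) := by rw [Over.w]; infer_instance
  exact IsProper.of_comp f.left B.hom

/-- `[n]` is étale on an abelian scheme if `n` is invertible on the base. -/
theorem etale_zpow (n : ℤ) (hn : IsUnit (n : Γ(S, ⊤))) : Etale (𝟙 X ^ n).left := by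
  have hgi : GeometricallyIntegral X.hom := K449.Basic.geometricallyIntegral X
  refine etale_of_fibres (𝟙 X ^ n) fun s => fibre_of_map @Etale (𝟙 X ^ n) s ?_
  rw [Groth.Agent.Grpsch.AbBC.map_zpow_one]
  have h1 : IsProper ((Over.pullback (S.fromSpecResidueField s)).obj X).hom :=
    inferInstanceAs (IsProper (pullback.snd X.hom (S.fromSpecResidueField s)))
  have h2 : GeometricallyIntegral ((Over.pullback (S.fromSpecResidueField s)).obj X).hom :=
    inferInstanceAs (GeometricallyIntegral (pullback.snd X.hom (S.fromSpecResidueField s)))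
  refine Groth.Agent.Grpsch.AbBC.etale_zpow (K := S.residueField s)
    ((Over.pullback (S.fromSpecResidueField s)).obj X) ?_
  have h3 : IsUnit ((S.Γevaluation s).hom (n : Γ(S, ⊤))) := hn.map _
  rw [map_intCast] at h3
  exact h3.ne_zero

/-- **S7789**. -/
theorem isFinite_and_etale_zpow (n : ℤ) (hn : IsUnit (n : Γ(S, ⊤))) :
    IsFinite (𝟙 X ^ n).left ∧ Etale (𝟙 X ^ n).left := by
  have h1 := etale_zpow X n hn
  have h2 := locallyQuasiFinite_of_etale (𝟙 X ^ n).left
  exact ⟨IsFinite.of_isProper_of_locallyQuasiFinite _, h1⟩

end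

end K448.MulFibre
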