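import Groth.Agent.AbSch.K448.DatModel
import Groth.Agent.AbSch.K615.RepAb

/-!
# Representability of extensions of abelian schemes by abelian schemes: reduction to finite type `ℤ`-algebras

* `isRepresentable_resE`: restriction of representable sheaves;
* `isRepresentable`: reduction of the affine case to finite type `ℤ`-algebras;
* `exists_grp`: the statement over any base.
-/

set_option autoImplicit false
universe u
open CategoryTheory CategoryTheory.Limits MonoidalCategory CartesianMonoidalCategory MonObj GrpObj AlgebraicGeometry Opposite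

noncomputable section

namespace K448.NoethRed

open K452.TorsRep K452.Restr K630.AbExt AlgSp

/-- The restriction of a representable sheaf is representable. -/
theorem isRepresentable_resE {S : Scheme.{u}} (V : Over S) (E : BigSite.Ab Scheme.fppfPrecoverage S)
    (h : (sets.obj E).obj.IsRepresentable) : (sets.obj (resE V E)).obj.IsRepresentable := by
  obtain ⟨Y, ⟨ρ⟩⟩ := h.has_representation
  refine ⟨(Over.pullback V.hom).obj Y, ⟨{ homEquiv := ?_, homEquiv_comp := ?_ }⟩⟩
  · exact fun {W} => ((Over.mapPullbackAdj V.hom).homEquiv W Y).symm.trans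
      (ρ.homEquiv (X := (Over.map V.hom).obj W))
  · intro W W' f g
    change ρ.homEquiv (((Over.mapPullbackAdj V.hom).homEquiv W Y).symm (f ≫ g)) =
      (sets.obj E).obj.map ((Over.map V.hom).map f).op
        (ρ.homEquiv (((Over.mapPullbackAdj V.hom).homEquiv W' Y).symm g))
    rw [Adjunction.homEquiv_naturality_left_symm, ρ.homEquiv_comp]

theorem isRepresentable_of_iso {S : Scheme.{u}} {E E' : BigSite.Ab Scheme.fppfPrecoverage S} (φ : E ≅ E')
    (h : (sets.obj E).obj.IsRepresentable) : (sets.obj E').obj.IsRepresentable := by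
  obtain ⟨Y, ⟨ρ⟩⟩ := h.has_representation
  exact ⟨Y, ⟨ρ.ofIso ((sheafToPresheaf _ _).mapIso (sets.mapIso φ))⟩⟩

/-- Representability over finite type `ℤ`-algebras. -/
def FinTypeCase : Prop :=
  ∀ (Λ₀ : Type u) [CommRing Λ₀] [Algebra.FiniteType ℤ Λ₀] (T₀ A₀ : Over (Spec (CommRingCat.of Λ₀)))
    [GrpObj T₀] [IsCommMonObj T₀] [GrpObj A₀] [IsCommMonObj A₀] [Smooth T₀.hom] [IsProper T₀.hom]
    [GeometricallyConnected T₀.hom] [Smooth A₀.hom] [IsProper A₀.hom] [GeometricallyConnected A₀.hom]
    (D₀ : Dat T₀ A₀), (sets.obj D₀.E).obj.IsRepresentable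

/-- **Reduction of the affine case to finite type `ℤ`-algebras.** -/
theorem isRepresentable (H : FinTypeCase.{u}) {Λ : Type u} [CommRing Λ] (T A : Over (Spec (CommRingCat.of Λ)))
    [GrpObj T] [IsCommMonObj T] [GrpObj A] [IsCommMonObj A] [Smooth T.hom] [IsProper T.hom]
    [GeometricallyConnected T.hom] [Smooth A.hom] [IsProper A.hom] [GeometricallyConnected A.hom]
    (D : Dat T A) : (sets.obj D.E).obj.IsRepresentable := by
  obtain ⟨Λ₀, _, _, T₀, A₀, _, _, _, _, _, _, _, _, _, _, g, D₀, ⟨φ⟩⟩ := K448.DatModel.exists_model D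
  exact isRepresentable_of_iso φ (isRepresentable_resE (Over.mk g) D₀.E (H Λ₀ T₀ A₀ D₀))

/-- **Extensions of abelian schemes by abelian schemes are abelian schemes**, from the finite type case. -/
theorem exists_grp (H : FinTypeCase.{u}) {S : Scheme.{u}} (A B : Over S)
    [GrpObj A] [IsCommMonObj A] [Smooth A.hom] [IsProper A.hom]
    (hA : ∀ s : S, ConnectedSpace ↥(A.hom.fiber s))
    [GrpObj B] [IsCommMonObj B] [Smooth B.hom] [IsProper B.hom]
    (hB : ∀ s : S, ConnectedSpace ↥(B.hom.fiber s))
    (E : BigSite.Ab Scheme.fppfPrecoverage S) (i : (CGrpSh.pts Scheme.fppfPrecoverage B) ⟶ E)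
    (q : E ⟶ (CGrpSh.pts Scheme.fppfPrecoverage A))
    (w : i ≫ q = 0) (hex : (ShortComplex.mk i q w).ShortExact) :
    ∃ (G : Over S) (_ : GrpObj G) (_ : IsCommMonObj G) (u : B ⟶ G) (v : G ⟶ A) (_ : IsMonHom u) (_ : IsMonHom v)
      (e : (CGrpSh.pts Scheme.fppfPrecoverage G) ≅ E),
      CGrpSh.ptsMap Scheme.fppfPrecoverage u ≫ e.hom = i ∧ e.hom ≫ q = CGrpSh.ptsMap Scheme.fppfPrecoverage v ∧
      Smooth G.hom ∧ IsProper G.hom ∧ ∀ s : S, ConnectedSpace ↥(G.hom.fiber s) := by
  have a1 : GeometricallyConnected A.hom := K452.ConnFib.geometricallyConnected A hA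
  have a2 : GeometricallyConnected B.hom := K452.ConnFib.geometricallyConnected B hB
  let D : Dat A B := ⟨E, i, q, w, hex⟩
  let U : S.affineOpens → Over S := fun U => Over.mk U.2.fromSpec
  have hloc : ∀ k, ∃ (G : Over (U k).left) (_ : GrpObj G) (_ : IsCommMonObj G),
      Nonempty (CGrpSh.pts Scheme.fppfPrecoverage G ≅ resE (U k) E) := by
    intro k
    let f : Spec (CommRingCat.of Γ(S, k.1)) ⟶ S := k.2.fromSpec
    have b1 : Smooth (Red.bc f A).hom := inferInstanceAs (Smooth (pullback.snd A.hom f))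
    have b2 : IsProper (Red.bc f A).hom := inferInstanceAs (IsProper (pullback.snd A.hom f))
    have b3 : GeometricallyConnected (Red.bc f A).hom := inferInstanceAs (GeometricallyConnected (pullback.snd A.hom f))
    have c1 : Smooth (Red.bc f B).hom := inferInstanceAs (Smooth (pullback.snd B.hom f))
    have c2 : IsProper (Red.bc f B).hom := inferInstanceAs (IsProper (pullback.snd B.hom f))
    have c3 : GeometricallyConnected (Red.bc f B).hom := inferInstanceAs (GeometricallyConnected (pullback.snd B.hom f))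
    let D' : Dat (Red.bc f A) (Red.bc f B) := K448.DatRes.resDat f D
    have h1 := isRepresentable H (Red.bc f A) (Red.bc f B) D'
    obtain ⟨V, v, ξ, hV⟩ := K615.RepAb.isRep_of_isRepresentable D'.q h1
    obtain ⟨G, g1, g2, -, -, -, -, e, -⟩ := K615.RepAb.exists_grp D'.i D'.q D'.w D'.ex
      (fun s => inferInstance) (fun s => inferInstance) hV
    exact ⟨G, g1, g2, ⟨e⟩⟩
  obtain ⟨V, v, ξ, hV⟩ := K452.GlueRep.exists_isRep_of_local q U (fun k => k.2.isOpenImmersion_fromSpec)
    (fun s => by
      obtain ⟨_, ⟨W, hW, rfl⟩, hs, -⟩ := S.isBasis_affineOpens.exists_subset_of_mem_open (Set.mem_univ s) isOpen_univ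
      refine ⟨⟨W, hW⟩, ?_⟩
      have h2 : s ∈ Set.range hW.fromSpec := by
        rw [hW.range_fromSpec]
        exact hs
      exact h2) hloc
  exact K615.RepAb.exists_grp i q w hex hB hA hV

end K448.NoethRed
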