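import Mathlib.AlgebraicGeometry.Sites.Fpqc
import Mathlib.AlgebraicGeometry.Morphisms.Proper
import Mathlib.AlgebraicGeometry.Morphisms.Separated
import Mathlib.AlgebraicGeometry.Geometrically.Connected
import Mathlib.AlgebraicGeometry.Geometrically.Reduced

/-!
# The rigidity lemma over a base

`g : X ⟶ T` is closed, flat, surjective, quasi-compact, universally open and satisfies `O = g_* O`;
`f : X ⟶ Y` is a morphism into a scheme `Y` separated over `S`.  The set of points `t` of `T` whose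
fibre is collapsed by `f` is open and closed, and over it `f` factors through `g`.
-/

set_option autoImplicit false

universe u

open CategoryTheory CategoryTheory.Limits AlgebraicGeometry

namespace K448.Rigidity

/-- The set of points of `T` over which `f` is constant (set-theoretically) on the fibre of `g`. -/
def collapsed {X T Y : Scheme.{u}} (g : X ⟶ T) (f : X ⟶ Y) : Set T :=
  {t | (f '' (g ⁻¹' {t})).Subsingleton}

lemma isIso_restrict_appTop {X T : Scheme.{u}} (g : X ⟶ T) (U : T.Opens) [IsIso (g.app U)] :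
    IsIso (g ∣_ U).appTop := by
  have e : U.ι ''ᵁ ⊤ = U := by simp
  have h : IsIso (g.app (U.ι ''ᵁ ⊤)) := by
    rw [e]
    infer_instance
  rw [morphismRestrict_appTop]
  have h2 := Functor.map_isIso X.presheaf (eqToHom (image_morphismRestrict_preimage g U ⊤)).op
  exact IsIso.comp_isIso' h h2

/-- Local factorization near a collapsed fibre. -/
theorem local_factor {X T Y : Scheme.{u}} (g : X ⟶ T) (hcl : IsClosedMap g)
    (hO : ∀ V : T.Opens, IsIso (g.app V)) (f : X ⟶ Y) (t : T) (y : Y)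
    (ht : ∀ x, g x = t → f x = y) :
    ∃ U : T.Opens, t ∈ U ∧ ∃ k : (U : Scheme.{u}) ⟶ Y, (g ⁻¹ᵁ U).ι ≫ f = (g ∣_ U) ≫ k := by
  obtain ⟨V, hV, hyV⟩ : ∃ V : Y.Opens, IsAffineOpen V ∧ y ∈ V := by
    obtain ⟨_, ⟨V, hV, rfl⟩, hyV, -⟩ :=
      Y.isBasis_affineOpens.exists_subset_of_mem_open (Set.mem_univ y) isOpen_univ
    exact ⟨V, hV, hyV⟩
  let U : T.Opens := ⟨(g '' ((f ⁻¹ᵁ V : X.Opens) : Set X)ᶜ)ᶜ,
    (hcl _ (f ⁻¹ᵁ V).isOpen.isClosed_compl).isOpen_compl⟩
  have htU : t ∈ U := by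
    rintro ⟨x, hx, hxt⟩
    apply hx
    change f x ∈ V
    rw [ht x hxt]
    exact hyV
  have hUV : ∀ x : X, g x ∈ U → f x ∈ V := by
    intro x hx
    by_contra h
    exact hx ⟨x, h, rfl⟩
  refine ⟨U, htU, ?_⟩
  have hr : Set.range ((g ⁻¹ᵁ U).ι ≫ f) ⊆ Set.range V.ι := by
    rintro _ ⟨x, rfl⟩
    rw [Scheme.Opens.range_ι]
    exact hUV _ x.2
  let φ : ((g ⁻¹ᵁ U : X.Opens) : Scheme.{u}) ⟶ V := IsOpenImmersion.lift V.ι ((g ⁻¹ᵁ U).ι ≫ f) hr
  have hφ : φ ≫ V.ι = (g ⁻¹ᵁ U).ι ≫ f := IsOpenImmersion.lift_fac _ _ _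
  have hVa : IsAffine (V : Scheme.{u}) := hV
  have := hO U
  have := isIso_restrict_appTop g U
  let k : (U : Scheme.{u}) ⟶ V :=
    (U : Scheme.{u}).toSpecΓ ≫ Spec.map (φ.appTop ≫ inv (g ∣_ U).appTop) ≫ (V : Scheme.{u}).isoSpec.inv
  have hk : (g ∣_ U) ≫ k = φ := by
    rw [← cancel_mono (V : Scheme.{u}).isoSpec.hom]
    simp only [k, Category.assoc, Iso.inv_hom_id, Category.comp_id]
    rw [← Category.assoc, Scheme.toSpecΓ_naturality, Category.assoc, ← Spec.map_comp,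
      Category.assoc, IsIso.inv_hom_id, Category.comp_id]
    simp [Scheme.isoSpec, Scheme.toSpecΓ_naturality]
  exact ⟨k ≫ V.ι, by rw [← Category.assoc, hk, hφ]⟩

/-- The coincidence locus of two morphisms over `S` into a separated `S`-scheme, with its properties:
it is closed, the two morphisms agree there on points, and it contains the image of every morphism
equalizing them. -/
theorem exists_coincidence {S Z Y : Scheme.{u}} (q : Y ⟶ S) [IsSeparated q] (a b : Z ⟶ Y)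
    (h : a ≫ q = b ≫ q) : ∃ E : Set Z, IsClosed E ∧ (∀ z ∈ E, a z = b z) ∧
    ∀ {W : Scheme.{u}} (w : W ⟶ Z), w ≫ a = w ≫ b → Set.range w ⊆ E := by
  let Zo : Over S := Over.mk (a ≫ q)
  let Yo : Over S := Over.mk q
  let ao : Zo ⟶ Yo := Over.homMk a rfl
  let bo : Zo ⟶ Yo := Over.homMk b h.symm
  have : IsSeparated Yo.hom := ‹IsSeparated q›
  refine ⟨Set.range (equalizer.ι ao bo).left, (equalizer.ι ao bo).left.isClosedEmbedding.isClosed_range, ?_, ?_⟩
  · rintro _ ⟨z, rfl⟩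
    have h1 : (equalizer.ι ao bo).left ≫ a = (equalizer.ι ao bo).left ≫ b :=
      congrArg CommaMorphism.left (equalizer.condition ao bo)
    change a ((equalizer.ι ao bo).left z) = b ((equalizer.ι ao bo).left z)
    rw [← Scheme.Hom.comp_apply, ← Scheme.Hom.comp_apply, h1]
  · intro W w hw
    let Wo : Over S := Over.mk (w ≫ a ≫ q)
    let wo : Wo ⟶ Zo := Over.homMk w rfl
    have h2 : wo ≫ ao = wo ≫ bo := by
      ext1
      exact hw
    have h3 : w = (equalizer.lift wo h2).left ≫ (equalizer.ι ao bo).left := by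
      rw [← Over.comp_left, equalizer.lift_ι]
      rfl
    rintro _ ⟨x, rfl⟩
    exact ⟨(equalizer.lift wo h2).left x, by rw [← Scheme.Hom.comp_apply, ← h3]⟩

/-- The collapsed locus is open, and locally `f` factors through `g`. -/
theorem exists_nhd {X T Y : Scheme.{u}} (g : X ⟶ T) (hcl : IsClosedMap g) [Surjective g]
    (hO : ∀ V : T.Opens, IsIso (g.app V)) (f : X ⟶ Y) (t : T) (ht : t ∈ collapsed g f) :
    ∃ U : T.Opens, t ∈ U ∧ ∃ k : (U : Scheme.{u}) ⟶ Y, (g ⁻¹ᵁ U).ι ≫ f = (g ∣_ U) ≫ k := by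
  obtain ⟨x₀, hx₀⟩ := g.surjective t
  exact local_factor g hcl hO f t (f x₀) fun x hx => ht ⟨x, hx, rfl⟩ ⟨x₀, hx₀, rfl⟩

lemma subset_collapsed {X T Y : Scheme.{u}} (g : X ⟶ T) (f : X ⟶ Y) (U : T.Opens)
    (k : (U : Scheme.{u}) ⟶ Y) (hk : (g ⁻¹ᵁ U).ι ≫ f = (g ∣_ U) ≫ k) :
    (U : Set T) ⊆ collapsed g f := by
  intro t ht
  have key : ∀ x, g x = t → f x = k ⟨t, ht⟩ := by
    rintro x rfl
    have hx : x ∈ g ⁻¹ᵁ U := ht
    let x' : ↥((g ⁻¹ᵁ U : X.Opens) : Scheme.{u}) := ⟨x, hx⟩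
    have h1 : f ((g ⁻¹ᵁ U).ι x') = k ((g ∣_ U) x') := by
      rw [← Scheme.Hom.comp_apply, ← Scheme.Hom.comp_apply, hk]
    have h2 : (g ∣_ U) x' = (⟨g x, ht⟩ : U) :=
      Subtype.ext (morphismRestrict_base_coe g U _)
    rw [h2] at h1
    exact h1
  rintro _ ⟨x, hx, rfl⟩ _ ⟨x', hx', rfl⟩
  rw [key x hx, key x' hx']

theorem isOpen_collapsed {X T Y : Scheme.{u}} (g : X ⟶ T) (hcl : IsClosedMap g) [Surjective g]
    (hO : ∀ V : T.Opens, IsIso (g.app V)) (f : X ⟶ Y) : IsOpen (collapsed g f) := by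
  rw [isOpen_iff_forall_mem_open]
  intro t ht
  obtain ⟨U, htU, k, hk⟩ := exists_nhd g hcl hO f t ht
  exact ⟨U, subset_collapsed g f U k hk, U.isOpen, htU⟩

/-- Over an open set where `f` locally factors through `g`, it factors. -/
theorem factor_of_local {X T Y : Scheme.{u}} (g : X ⟶ T) [QuasiCompact g] [Surjective g] [Flat g]
    (f : X ⟶ Y)
    (h : ∀ t : T, ∃ U : T.Opens, t ∈ U ∧ ∃ k : (U : Scheme.{u}) ⟶ Y,
      (g ⁻¹ᵁ U).ι ≫ f = (g ∣_ U) ≫ k) : ∃! k : T ⟶ Y, g ≫ k = f := by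
  have key : pullback.fst g g ≫ f = pullback.snd g g ≫ f := by
    choose U hU k hk using h
    let 𝒰 : T.OpenCover := Scheme.openCoverOfIsOpenCover T U (by
      refine TopologicalSpace.IsOpenCover.mk ?_
      rw [eq_top_iff]
      intro t _
      rw [TopologicalSpace.Opens.mem_iSup]
      exact ⟨t, hU t⟩)
    refine Scheme.Cover.hom_ext (𝒰.pullback₁ (pullback.fst g g ≫ g)) _ _ fun (i : T) => ?_
    change pullback.fst (pullback.fst g g ≫ g) (U i).ι ≫ _ = pullback.fst (pullback.fst g g ≫ g) (U i).ι ≫ _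
    have hwv : pullback.fst (pullback.fst g g ≫ g) (U i).ι ≫ pullback.fst g g ≫ g =
      pullback.snd (pullback.fst g g ≫ g) (U i).ι ≫ (U i).ι := pullback.condition
    generalize pullback.fst (pullback.fst g g ≫ g) (U i).ι = w at hwv ⊢
    generalize pullback.snd (pullback.fst g g ≫ g) (U i).ι = v at hwv
    have h1 : ∀ (p : pullback g g ⟶ X), p ≫ g = pullback.fst g g ≫ g → w ≫ p ≫ f = v ≫ k i := by
      intro p hp
      have h2 : w ≫ p ≫ g = v ≫ (U i).ι := by rw [hp, hwv]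
      obtain ⟨l, hl1, hl2⟩ : ∃ l, l ≫ (g ⁻¹ᵁ (U i)).ι = w ≫ p ∧ l ≫ (g ∣_ (U i)) = v :=
        ⟨(isPullback_morphismRestrict g (U i)).lift v (w ≫ p) (by rw [Category.assoc, h2]),
          IsPullback.lift_snd _ _ _ _, IsPullback.lift_fst _ _ _ _⟩
      rw [← Category.assoc w p f, ← hl1, Category.assoc, hk, ← Category.assoc, hl2]
    rw [h1 _ rfl, h1 _ pullback.condition.symm]
  have hdesc : ∀ {W : Scheme.{u}} (g₁ g₂ : W ⟶ X), g₁ ≫ g = g₂ ≫ g → g₁ ≫ f = g₂ ≫ f := by
    intro W g₁ g₂ h12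
    rw [← pullback.lift_fst g₁ g₂ h12, Category.assoc, key, ← Category.assoc, pullback.lift_snd]
  exact ⟨EffectiveEpi.desc g f hdesc, EffectiveEpi.fac g f hdesc,
    fun k hk => EffectiveEpi.uniq g f hdesc k hk⟩

/-- **Rigidity**, general form: for `g` closed, flat, surjective, quasi-compact, universally open with
`O = g_* O` and `f` a morphism over `S` into a separated `S`-scheme, the collapsed locus is closed. -/
theorem isClosed_collapsed {S X T Y : Scheme.{u}} (p : T ⟶ S) (q : Y ⟶ S) [IsSeparated q]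
    (g : X ⟶ T) (hcl : IsClosedMap g) [Surjective g] (hop : IsOpenMap (pullback.fst g g ≫ g))
    (hO : ∀ V : T.Opens, IsIso (g.app V)) (f : X ⟶ Y) (hf : f ≫ q = g ≫ p) :
    IsClosed (collapsed g f) := by
  obtain ⟨E, hE, hE1, hE2⟩ := exists_coincidence q (pullback.fst g g ≫ f) (pullback.snd g g ≫ f)
    (by rw [Category.assoc, Category.assoc, hf, pullback.condition_assoc])
  have key : collapsed g f = ((pullback.fst g g ≫ g) '' Eᶜ)ᶜ := by
    ext t
    constructor
    · rintro ht ⟨z, hz, hzt⟩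
      apply hz
      obtain ⟨U, htU, k, hk⟩ := exists_nhd g hcl hO f t ht
      let π : pullback g g ⟶ T := pullback.fst g g ≫ g
      have hzU : z ∈ π ⁻¹ᵁ U := by
        change π z ∈ U
        rw [show π z = t from hzt]
        exact htU
      have h1 : ∀ (p : pullback g g ⟶ X), p ≫ g = pullback.fst g g ≫ g →
          (π ⁻¹ᵁ U).ι ≫ p ≫ f = (π ∣_ U) ≫ k := by
        intro p hp
        have h2 : (π ⁻¹ᵁ U).ι ≫ p ≫ g = (π ∣_ U) ≫ U.ι := by
          rw [hp]
          exact (morphismRestrict_ι π U).symm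
        obtain ⟨l, hl1, hl2⟩ : ∃ l, l ≫ (g ⁻¹ᵁ U).ι = (π ⁻¹ᵁ U).ι ≫ p ∧ l ≫ (g ∣_ U) = (π ∣_ U) :=
          ⟨(isPullback_morphismRestrict g U).lift (π ∣_ U) ((π ⁻¹ᵁ U).ι ≫ p)
            (by rw [Category.assoc, h2]),
            IsPullback.lift_snd _ _ _ _, IsPullback.lift_fst _ _ _ _⟩
        rw [← Category.assoc, ← hl1, Category.assoc, hk, ← Category.assoc, hl2]
      have h3 := hE2 (π ⁻¹ᵁ U).ι (by rw [h1 _ rfl, h1 _ pullback.condition.symm])
      exact h3 (by rw [Scheme.Opens.range_ι]; exact hzU)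
    · rintro ht _ ⟨x, hx, rfl⟩ _ ⟨x', hx', rfl⟩
      obtain ⟨z, rfl, rfl⟩ := Scheme.Pullback.exists_preimage_pullback (f := g) (g := g) x x'
        ((show g x = t from hx).trans (show g x' = t from hx').symm)
      have hz : z ∈ E := by
        by_contra hz
        exact ht ⟨z, hz, by rw [Scheme.Hom.comp_apply]; exact hx⟩
      have := hE1 z hz
      rwa [Scheme.Hom.comp_apply, Scheme.Hom.comp_apply] at this
  rw [key]
  exact (hop _ hE.isOpen_compl).isClosed_compl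

end K448.Rigidity
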