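import Groth.Agent.AbSch.K448.Rigidity
import Groth.Agent.S0981

/-!
# The rigidity lemma for proper flat morphisms with geometrically connected and reduced fibres
-/

set_option autoImplicit false

universe u

open CategoryTheory CategoryTheory.Limits AlgebraicGeometry

namespace K448.RigidityMain

open K448.Rigidity

/-- `O = g_* O` for proper, flat, finitely presented morphisms with geometrically connected and
geometrically reduced fibres. -/
theorem isIso_app {X T : Scheme.{u}} (g : X ⟶ T) [IsProper g] [Flat g]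
    [LocallyOfFinitePresentation g] [GeometricallyConnected g] [GeometricallyReduced g]
    (V : T.Opens) : IsIso (g.app V) := by
  refine Groth.Agent.S0981.result g (fun K _ _ a => ⟨?_, ?_⟩) V
  · exact GeometricallyReduced.geometrically_isReduced (f := g) a _ _ (.of_hasPullback _ _)
  · exact GeometricallyConnected.geometrically_connectedSpace (f := g) a _ _ (.of_hasPullback _ _)

section

variable {S T X Y : Scheme.{u}} (g : X ⟶ T) [IsProper g] [Flat g]
  [LocallyOfFinitePresentation g] [GeometricallyConnected g] [GeometricallyReduced g] (f : X ⟶ Y)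

/-- If every fibre of `g` is collapsed by `f`, then `f` factors uniquely through `g`. -/
theorem existsUnique_factor (h : ∀ t, t ∈ collapsed g f) : ∃! k : T ⟶ Y, g ≫ k = f :=
  factor_of_local g f fun t =>
    exists_nhd g g.isClosedMap (fun V => isIso_app g V) f t (h t)

theorem isOpen_collapsed' : IsOpen (collapsed g f) :=
  isOpen_collapsed g g.isClosedMap (fun V => isIso_app g V) f

theorem isClosed_collapsed' (p : T ⟶ S) (q : Y ⟶ S) [IsSeparated q] (hf : f ≫ q = g ≫ p) :
    IsClosed (collapsed g f) :=
  isClosed_collapsed p q g g.isClosedMap (pullback.fst g g ≫ g).isOpenMap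
    (fun V => isIso_app g V) f hf

theorem isClopen_collapsed (p : T ⟶ S) (q : Y ⟶ S) [IsSeparated q] (hf : f ≫ q = g ≫ p) :
    IsClopen (collapsed g f) :=
  ⟨isClosed_collapsed' g f p q hf, isOpen_collapsed' g f⟩

/-- Over an open set of collapsed points `f` factors uniquely through `g`. -/
theorem existsUnique_factor_restrict (W : T.Opens) (h : (W : Set T) ⊆ collapsed g f) :
    ∃! k : (W : Scheme.{u}) ⟶ Y, (g ∣_ W) ≫ k = (g ⁻¹ᵁ W).ι ≫ f := by
  refine existsUnique_factor (g ∣_ W) ((g ⁻¹ᵁ W).ι ≫ f) fun w => ?_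
  have key : ∀ x, (g ∣_ W) x = w → g ((g ⁻¹ᵁ W).ι x) = W.ι w := by
    rintro x rfl
    rw [← Scheme.Hom.comp_apply, ← Scheme.Hom.comp_apply, morphismRestrict_ι]
  rintro _ ⟨x, hx, rfl⟩ _ ⟨x', hx', rfl⟩
  rw [Scheme.Hom.comp_apply, Scheme.Hom.comp_apply]
  exact h w.2 ⟨_, key x hx, rfl⟩ ⟨_, key x' hx', rfl⟩

end

end K448.RigidityMain
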