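import Groth.Agent.AbSch.K448.UnitalNear
import Groth.Agent.CycB.ImageInt
import Groth.Agent.S2501
import Groth.Agent.Sga3C.GeomRedPerf
import Mathlib.AlgebraicGeometry.Geometrically.Integral

/-!
# Unital multiplications on proper integral schemes over an algebraically closed field

The shear `(x, y) ↦ (x y, y)` is an isomorphism.
-/

set_option autoImplicit false

universe u

open CategoryTheory CategoryTheory.Limits MonoidalCategory CartesianMonoidalCategory AlgebraicGeometry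

namespace K448.UnitalField

open K448.UnitalMul K448.RigidOver K448.UnitalNear

open Groth.Agent.Books.AlgPts

variable {k : Type u} [Field k] [IsAlgClosed k]


/-- Morphisms from a reduced scheme are determined by rational points. -/
theorem hom_ext_pt {X Y : (Over (Spec (CommRingCat.of k)))} [IsReduced X.left] [LocallyOfFiniteType X.hom]
    [LocallyOfFiniteType Y.hom] [IsSeparated Y.hom] (f g : X ⟶ Y)
    (h : ∀ x : 𝟙_ (Over (Spec (CommRingCat.of k))) ⟶ X, x ≫ f = x ≫ g) : f = g := by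
  ext1
  have : LocallyOfFiniteType (f.left ≫ Y.hom) := by rw [Over.w]; infer_instance
  refine ext_of_apply_eq Y.hom Set.univ isOpen_univ.isLocallyClosed dense_univ ?_
    (by rw [Over.w, Over.w])
  intro z _ hz
  obtain ⟨x, rfl⟩ := exists_pt (X := X) z hz
  rw [← pt_comp, ← pt_comp, h]

variable {X : (Over (Spec (CommRingCat.of k)))} [IsProper X.hom] [GeometricallyIntegral X.hom] {m : X ⊗ X ⟶ X} {e : 𝟙_ (Over (Spec (CommRingCat.of k))) ⟶ X}

omit [IsAlgClosed k] [IsProper X.hom] in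
lemma isIntegral_left : IsIntegral X.left :=
  GeometricallyIntegral.isIntegral_of_subsingleton X.hom

/-- A proper family of pairs `(x', x)` with `x' x = e`, surjecting to the second factor. -/
theorem exists_family (h : IsUnital m e) :
    ∃ (Γ : (Over (Spec (CommRingCat.of k)))) (a b : Γ ⟶ X) (γ : 𝟙_ (Over (Spec (CommRingCat.of k))) ⟶ Γ), IsProper Γ.hom ∧ IsIntegral Γ.left ∧
      Surjective b.left ∧ mp m a b = toUnit Γ ≫ e ∧ γ ≫ a = e ∧ γ ≫ b = e := by
  have hXint : IsIntegral X.left := isIntegral_left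
  have hN : IsLocallyNoetherian X.left := LocallyOfFiniteType.isLocallyNoetherian X.hom
  obtain ⟨U, heU, hU⟩ := exists_nhd m e (by rw [h.mp_unit]; infer_instance)
  let P := (snd X X).left ⁻¹ᵁ U
  let Uo : (Over (Spec (CommRingCat.of k))) := Over.mk (U.ι ≫ X.hom)
  let ιU : Uo ⟶ X := Over.homMk U.ι rfl
  have ht : Set.range (lift (toUnit Uo ≫ e) ιU).left ⊆ Set.range P.ι := by
    rintro _ ⟨x, rfl⟩
    rw [Scheme.Opens.range_ι]
    change (snd X X).left ((lift (toUnit Uo ≫ e) ιU).left x) ∈ U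
    rw [← Scheme.Hom.comp_apply, ← Over.comp_left, lift_snd]
    exact x.2
  let t : (U : Scheme.{u}) ⟶ P := IsOpenImmersion.lift P.ι (lift (toUnit Uo ≫ e) ιU).left ht
  have ht' : t ≫ P.ι = (lift (toUnit Uo ≫ e) ιU).left := IsOpenImmersion.lift_fac _ _ _
  let σ₀ : (U : Scheme.{u}) ⟶ (X ⊗ X).left :=
    t ≫ inv ((shear m).left ∣_ P) ≫ ((shear m).left ⁻¹ᵁ P).ι
  have hσ₀ : σ₀ ≫ (shear m).left = (lift (toUnit Uo ≫ e) ιU).left := by
    simp only [σ₀, Category.assoc]
    rw [← morphismRestrict_ι, IsIso.inv_hom_id_assoc, ht']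
  let σ : Uo ⟶ X ⊗ X := Over.homMk σ₀ (by
    have h1 : (shear m).left ≫ (X ⊗ X).hom = (X ⊗ X).hom := Over.w _
    rw [← h1, ← Category.assoc, hσ₀, Over.w])
  have hσ : σ ≫ shear m = lift (toUnit Uo ≫ e) ιU := Over.OverMorphism.ext hσ₀
  have hσ1 : σ ≫ snd X X = ιU := by
    rw [← shear_snd m, ← Category.assoc, hσ, lift_snd]
  have hσ2 : σ ≫ m = toUnit Uo ≫ e := by
    rw [← shear_fst m, ← Category.assoc, hσ, lift_fst]
  have hqc : QuasiCompact σ.left := by
    have h1 : σ.left ≫ (snd X X).left = U.ι := by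
      rw [← Over.comp_left, hσ1]; rfl
    have h2 : QuasiCompact (σ.left ≫ (snd X X).left) := by
      rw [h1]; infer_instance
    exact QuasiCompact.of_comp σ.left (snd X X).left
  have hUne : Nonempty (U : Scheme.{u}) := ⟨⟨_, heU⟩⟩
  have hUint : IsIntegral (U : Scheme.{u}) := inferInstance
  have hUint' : IsIntegral Uo.left := hUint
  have hΓint : IsIntegral σ.left.image := Groth.Agent.CycB.ImageInt.isIntegral_image σ.left
  let Γ : (Over (Spec (CommRingCat.of k))) := Over.mk (σ.left.imageι ≫ (X ⊗ X).hom)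
  let j : Γ ⟶ X ⊗ X := Over.homMk σ.left.imageι rfl
  let τ : Uo ⟶ Γ := Over.homMk σ.left.toImage (by
    change σ.left.toImage ≫ σ.left.imageι ≫ (X ⊗ X).hom = _
    rw [Scheme.Hom.toImage_imageι_assoc, Over.w])
  have hτ : τ ≫ j = σ := Over.OverMorphism.ext σ.left.toImage_imageι
  have hΓp : IsProper Γ.hom := inferInstanceAs (IsProper (σ.left.imageι ≫ (X ⊗ X).hom))
  have hΓi : IsIntegral Γ.left := hΓint
  have hmul : mp m (j ≫ fst X X) (j ≫ snd X X) = toUnit Γ ≫ e := by
    ext1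
    have hd : IsDominant τ.left := inferInstanceAs (IsDominant σ.left.toImage)
    refine ext_of_isDominant_of_isSeparated X.hom (by rw [Over.w, Over.w]) τ.left ?_
    rw [← Over.comp_left, ← Over.comp_left, comp_mp, ← Category.assoc, ← Category.assoc, hτ, mp]
    congr 1
    have h1 : lift (σ ≫ fst X X) (σ ≫ snd X X) = σ := by
      rw [← comp_lift, lift_fst_snd, Category.comp_id]
    rw [h1, hσ2, ← Category.assoc, toUnit_unique (τ ≫ toUnit Γ) (toUnit Uo)]
  have hsurj : Surjective (j ≫ snd X X).left := by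
    have hp : IsProper (j ≫ snd X X).left := by
      have h1 : IsProper ((j ≫ snd X X).left ≫ X.hom) := by rw [Over.w]; exact hΓp
      exact IsProper.of_comp _ X.hom
    have hcl : IsClosed (Set.range (j ≫ snd X X).left) := (j ≫ snd X X).left.isClosedMap.isClosed_range
    have hsub : (U : Set X.left) ⊆ Set.range (j ≫ snd X X).left := by
      intro x hx
      have h1 : (τ ≫ (j ≫ snd X X)).left = U.ι := by
        rw [← Category.assoc, hτ, hσ1]; rfl
      let x' : Uo.left := (⟨x, hx⟩ : U)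
      refine ⟨τ.left x', ?_⟩
      rw [← Scheme.Hom.comp_apply, ← Over.comp_left, h1]
      rfl
    refine ⟨Set.range_eq_univ.mp ?_⟩
    have hdense : Dense (U : Set X.left) := U.isOpen.dense ⟨_, heU⟩
    have := hdense.closure_eq
    rw [← Set.univ_subset_iff, ← this]
    exact hcl.closure_subset_iff.mpr hsub
  have heU' : Set.range e.left ⊆ Set.range U.ι := by
    rintro _ ⟨x, rfl⟩
    rw [Scheme.Opens.range_ι]
    have hx : x = IsLocalRing.closedPoint k := Subsingleton.elim (α := PrimeSpectrum k) _ _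
    rw [hx]
    exact heU
  let eU : 𝟙_ (Over (Spec (CommRingCat.of k))) ⟶ Uo := Over.homMk (IsOpenImmersion.lift U.ι e.left heU') (by
    change IsOpenImmersion.lift U.ι e.left heU' ≫ U.ι ≫ X.hom = _
    rw [IsOpenImmersion.lift_fac_assoc, Over.w])
  have heU2 : eU ≫ ιU = e := by
    ext1
    exact IsOpenImmersion.lift_fac _ _ _
  have e1 : (eU ≫ τ) ≫ j ≫ snd X X = e := by
    rw [Category.assoc, ← Category.assoc τ, hτ, hσ1, heU2]
  have e2 : (eU ≫ τ) ≫ j ≫ fst X X = e := by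
    have h1 := congrArg (fun s => (eU ≫ τ) ≫ s) hmul
    simp only [comp_mp] at h1
    rw [e1] at h1
    have h2 := h.mp_unit ((eU ≫ τ) ≫ j ≫ fst X X)
    have h3 : toUnit (𝟙_ (Over (Spec (CommRingCat.of k)))) ≫ e = e := by
      rw [toUnit_unique (toUnit (𝟙_ (Over (Spec (CommRingCat.of k))))) (𝟙 _), Category.id_comp]
    rw [h3, h1] at h2
    rw [← h2, ← Category.assoc, toUnit_unique ((eU ≫ τ) ≫ toUnit Γ) (𝟙 _), Category.id_comp]
  exact ⟨Γ, j ≫ fst X X, j ≫ snd X X, eU ≫ τ, hΓp, hΓi, hsurj, hmul, e2, e1⟩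

/-- The key identity of Mumford: `x' ((x y) z) = y z` whenever `(x', x)` lies in the family. -/
theorem exists_family' (h : IsUnital m e) :
    ∃ (Γ : (Over (Spec (CommRingCat.of k)))) (a b : Γ ⟶ X), LocallyOfFiniteType Γ.hom ∧
      Surjective b.left ∧ mp m a b = toUnit Γ ≫ e ∧
      ∀ {T : (Over (Spec (CommRingCat.of k)))} (g : T ⟶ Γ) (y z : T ⟶ X),
        mp m (g ≫ a) (mp m (mp m (g ≫ b) y) z) = mp m y z := by
  obtain ⟨Γ, a, b, γ, hp, hi, hs, hab, ha, hb⟩ := exists_family h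
  refine ⟨Γ, a, b, inferInstance, hs, hab, ?_⟩
  have : GeometricallyConnected Γ.hom := Groth.Agent.S2501.result Γ.hom
  have : GeometricallyReduced Γ.hom :=
    Groth.Agent.Sga3C.GeomRedPerf.geometricallyReduced_of_isReduced Γ.hom
  have : LocallyOfFinitePresentation Γ.hom :=
    LocallyOfFinitePresentation.iff_locallyOfFiniteType.2 inferInstance
  have : LocallyOfFinitePresentation X.hom :=
    LocallyOfFinitePresentation.iff_locallyOfFiniteType.2 inferInstance
  have : ConnectedSpace X.left := by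
    have := isIntegral_left (X := X)
    infer_instance
  have : GeometricallyConnected X.hom := Groth.Agent.S2501.result X.hom
  let F : Γ ⊗ (X ⊗ X) ⟶ X := mp m (fst _ _ ≫ a)
    (mp m (mp m (fst _ _ ≫ b) (snd _ _ ≫ fst _ _)) (snd _ _ ≫ snd _ _))
  have h1 : Γ ◁ (lift e e : 𝟙_ (Over (Spec (CommRingCat.of k))) ⟶ X ⊗ X) ≫ F = toUnit _ ≫ e := by
    have ex : ∀ (c : Γ ⟶ X), Γ ◁ (lift e e : 𝟙_ (Over (Spec (CommRingCat.of k))) ⟶ X ⊗ X) ≫ fst _ _ ≫ c =
        fst _ _ ≫ c := by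
      intro c
      rw [whiskerLeft_fst_assoc]
    have hu : (snd Γ (𝟙_ (Over (Spec (CommRingCat.of k))))) = toUnit _ := toUnit_unique _ _
    have ey : Γ ◁ (lift e e : 𝟙_ (Over (Spec (CommRingCat.of k))) ⟶ X ⊗ X) ≫ snd _ _ ≫ fst _ _ =
        toUnit _ ≫ e := by
      rw [whiskerLeft_snd_assoc, lift_fst, hu]
    have ez : Γ ◁ (lift e e : 𝟙_ (Over (Spec (CommRingCat.of k))) ⟶ X ⊗ X) ≫ snd _ _ ≫ snd _ _ =
        toUnit _ ≫ e := by
      rw [whiskerLeft_snd_assoc, lift_snd, hu]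
    simp only [F, comp_mp, ex, ey, ez, h.mp_unit]
    rw [← comp_mp, hab, ← Category.assoc, toUnit_unique (fst _ _ ≫ toUnit Γ) (toUnit _)]
  have h2 := eq_of_section F (lift e e) γ e h1
  have h3 : lift (toUnit (X ⊗ X) ≫ γ) (𝟙 (X ⊗ X)) ≫ F = m := by
    have ea : lift (toUnit (X ⊗ X) ≫ γ) (𝟙 (X ⊗ X)) ≫ fst _ _ ≫ a = toUnit _ ≫ e := by
      rw [lift_fst_assoc, Category.assoc, ha]
    have eb : lift (toUnit (X ⊗ X) ≫ γ) (𝟙 (X ⊗ X)) ≫ fst _ _ ≫ b = toUnit _ ≫ e := by
      rw [lift_fst_assoc, Category.assoc, hb]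
    have ey : lift (toUnit (X ⊗ X) ≫ γ) (𝟙 (X ⊗ X)) ≫ snd _ _ ≫ fst _ _ = fst _ _ := by
      rw [lift_snd_assoc, Category.id_comp]
    have ez : lift (toUnit (X ⊗ X) ≫ γ) (𝟙 (X ⊗ X)) ≫ snd _ _ ≫ snd _ _ = snd _ _ := by
      rw [lift_snd_assoc, Category.id_comp]
    simp only [F, comp_mp, ea, eb, ey, ez, h.unit_mp]
    rw [mp, lift_fst_snd, Category.id_comp]
  intro T g y z
  have h4 : lift g (lift y z) ≫ F = mp m y z := by
    rw [h2, lift_snd_assoc, h3, mp]
  have ea : lift g (lift y z) ≫ fst _ _ ≫ a = g ≫ a := by rw [lift_fst_assoc]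
  have eb : lift g (lift y z) ≫ fst _ _ ≫ b = g ≫ b := by rw [lift_fst_assoc]
  have ey : lift g (lift y z) ≫ snd _ _ ≫ fst _ _ = y := by rw [lift_snd_assoc, lift_fst]
  have ez : lift g (lift y z) ≫ snd _ _ ≫ snd _ _ = z := by rw [lift_snd_assoc, lift_snd]
  rw [← h4]
  simp only [F, comp_mp, ea, eb, ey, ez]

/-- Rational points: associativity and inverses. -/
theorem exists_inverse (h : IsUnital m e)
    (x : 𝟙_ (Over (Spec (CommRingCat.of k))) ⟶ X) :
    (∀ y z : 𝟙_ (Over (Spec (CommRingCat.of k))) ⟶ X, mp m (mp m x y) z = mp m x (mp m y z)) ∧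
      ∃ x' : 𝟙_ (Over (Spec (CommRingCat.of k))) ⟶ X, mp m x' x = e ∧ mp m x x' = e := by
  obtain ⟨Γ, a, b, hlft, hs, hab, H⟩ := exists_family' h
  obtain ⟨g₁, hg₁⟩ := exists_comp_eq_of_pt_mem_range b x (hs.surj _)
  obtain ⟨g₂, hg₂⟩ := exists_comp_eq_of_pt_mem_range b (g₁ ≫ a) (hs.surj _)
  have hu : toUnit (𝟙_ (Over (Spec (CommRingCat.of k)))) ≫ e = e := by
    rw [toUnit_unique (toUnit (𝟙_ (Over (Spec (CommRingCat.of k))))) (𝟙 _), Category.id_comp]
  have hunit : ∀ w : 𝟙_ (Over (Spec (CommRingCat.of k))) ⟶ X, mp m w e = w := by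
    intro w
    have := h.mp_unit w
    rwa [hu] at this
  have h1 : ∀ y z, mp m (g₁ ≫ a) (mp m (mp m x y) z) = mp m y z := by
    intro y z
    have := H g₁ y z
    rwa [hg₁] at this
  have h2 : ∀ w, mp m (g₂ ≫ a) (mp m (g₁ ≫ a) w) = w := by
    intro w
    have := H g₂ w e
    rwa [hg₂, hunit, hunit] at this
  have h3 : ∀ y z, mp m (mp m x y) z = mp m (g₂ ≫ a) (mp m y z) := by
    intro y z
    rw [← h1 y z, h2]
  have h4 : x = g₂ ≫ a := by
    have := h3 e e
    simpa only [hunit] using this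
  refine ⟨fun y z => by rw [h3, ← h4], g₁ ≫ a, ?_, ?_⟩
  · have := congrArg (fun t => g₁ ≫ t) hab
    simp only [comp_mp, hg₁] at this
    rw [this, ← Category.assoc, toUnit_unique (g₁ ≫ toUnit Γ) (𝟙 _), Category.id_comp]
  · have := congrArg (fun t => g₂ ≫ t) hab
    simp only [comp_mp, hg₂, ← h4] at this
    rw [this, ← Category.assoc, toUnit_unique (g₂ ≫ toUnit Γ) (𝟙 _), Category.id_comp]

/-- Right multiplication by a rational point is an isomorphism. -/
theorem isIso_right (h : IsUnital m e) (y : 𝟙_ (Over (Spec (CommRingCat.of k))) ⟶ X) :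
    IsIso (mp m (𝟙 X) (toUnit X ≫ y)) := by
  have := isIntegral_left (X := X)
  obtain ⟨-, y', hy1, hy2⟩ := exists_inverse h y
  have hu : toUnit (𝟙_ (Over (Spec (CommRingCat.of k)))) ≫ e = e := by
    rw [toUnit_unique (toUnit (𝟙_ (Over (Spec (CommRingCat.of k))))) (𝟙 _), Category.id_comp]
  have hunit : ∀ w : 𝟙_ (Over (Spec (CommRingCat.of k))) ⟶ X, mp m w e = w := by
    intro w
    have := h.mp_unit w
    rwa [hu] at this
  have key : ∀ (y y' : 𝟙_ (Over (Spec (CommRingCat.of k))) ⟶ X) (_ : mp m y y' = e),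
      mp m (𝟙 X) (toUnit X ≫ y) ≫ mp m (𝟙 X) (toUnit X ≫ y') = 𝟙 X := by
    intro y y' hyy
    refine hom_ext_pt _ _ fun w => ?_
    have hw : ∀ v : 𝟙_ (Over (Spec (CommRingCat.of k))) ⟶ X, w ≫ toUnit X ≫ v = v := by
      intro v
      rw [← Category.assoc, toUnit_unique (w ≫ toUnit X) (𝟙 _), Category.id_comp]
    have hw' : ∀ v : 𝟙_ (Over (Spec (CommRingCat.of k))) ⟶ X,
        toUnit (𝟙_ (Over (Spec (CommRingCat.of k)))) ≫ v = v := by
      intro v
      rw [toUnit_unique (toUnit _) (𝟙 _), Category.id_comp]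
    have h5 : w ≫ mp m (𝟙 X) (toUnit X ≫ y) = mp m w y := by
      rw [comp_mp, Category.comp_id, hw]
    have h6 : ∀ w', w' ≫ mp m (𝟙 X) (toUnit X ≫ y') = mp m w' y' := by
      intro w'
      rw [comp_mp, Category.comp_id, ← Category.assoc, toUnit_unique (w' ≫ toUnit X) (𝟙 _),
        Category.id_comp]
    rw [← Category.assoc, h5, h6, (exists_inverse h w).1, hyy, hunit, Category.comp_id]
  exact ⟨⟨mp m (𝟙 X) (toUnit X ≫ y'), key y y' hy2, key y' y hy1⟩⟩

/-- The shear is an isomorphism. -/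
theorem isIso_shear (h : IsUnital m e) : IsIso (shear m) := by
  have hlft : LocallyOfFiniteType X.hom := inferInstance
  have := LocallyOfFiniteType.jacobsonSpace X.hom
  let W : TopologicalSpace.Opens X.left :=
    ⨆ (U : {U : X.left.Opens // IsIso ((shear m).left ∣_ ((snd X X).left ⁻¹ᵁ U))}), U.1
  have hW : W = ⊤ := by
    by_contra hne
    have h1 : ((W : Set X.left)ᶜ).Nonempty := by
      rw [Set.nonempty_compl]
      intro h2
      exact hne (TopologicalSpace.Opens.ext h2)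
    obtain ⟨y, hy⟩ := exists_pt_mem (X := X) h1 W.isOpen.isClosed_compl.isLocallyClosed
    obtain ⟨U, hyU, hU⟩ := exists_nhd m y (isIso_right h y)
    apply hy
    rw [SetLike.mem_coe, TopologicalSpace.Opens.mem_iSup]
    exact ⟨⟨U, hU⟩, hyU⟩
  have h2 : IsIso (shear m).left := by
    have h3 : ⨆ (U : {U : X.left.Opens // IsIso ((shear m).left ∣_ ((snd X X).left ⁻¹ᵁ U))}),
        ((snd X X).left ⁻¹ᵁ U.1) = ⊤ := by
      rw [← Scheme.Hom.preimage_iSup]
      exact congrArg (fun V => (snd X X).left ⁻¹ᵁ V) hW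
    exact (IsZariskiLocalAtTarget.iff_of_iSup_eq_top (P := MorphismProperty.isomorphisms Scheme)
      (fun U : {U : X.left.Opens // IsIso ((shear m).left ∣_ ((snd X X).left ⁻¹ᵁ U))} =>
        (snd X X).left ⁻¹ᵁ U.1) h3).mpr (fun U => U.2)
  have h3 : IsIso ((Over.forget (Spec (CommRingCat.of k))).map (shear m)) := h2
  exact isIso_of_reflects_iso (shear m) (Over.forget (Spec (CommRingCat.of k)))

end K448.UnitalField
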