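import Groth.Agent.AbSch.K448.UnitalRigid
import Groth.Agent.AbSch.K448.UnitalField
import Groth.Agent.AbSch.K448.FibreBC

/-!
# A unital multiplication on a proper flat scheme with geometrically integral fibres is a group law
-/

set_option autoImplicit false

universe v₁ v₂ u₁ u₂ u

open CategoryTheory CategoryTheory.Limits MonoidalCategory CartesianMonoidalCategory AlgebraicGeometry

namespace K448.UnitalGroup

open K448.UnitalMul K448.UnitalRigid

section Functor

variable {C : Type u₁} [Category.{v₁} C] [CartesianMonoidalCategory C] {D : Type u₂}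
  [Category.{v₂} D] [CartesianMonoidalCategory D] (F : C ⥤ D) [F.Monoidal] {X : C}
  {m : X ⊗ X ⟶ X} {e : 𝟙_ C ⟶ X}

/-- Transport of a unital multiplication by a monoidal functor. -/
lemma isUnital_map (h : IsUnital m e) :
    IsUnital (Functor.LaxMonoidal.μ F X X ≫ F.map m) (Functor.LaxMonoidal.ε F ≫ F.map e) := by
  constructor
  · have h1 : toUnit (F.obj X) ≫ Functor.LaxMonoidal.ε F ≫ F.map e = F.map (toUnit X ≫ e) := by
      rw [← Category.assoc, Functor.Monoidal.toUnit_ε, ← F.map_comp]
    rw [h1, ← F.map_id, ← Category.assoc, Functor.Monoidal.lift_μ, ← F.map_comp, h.right]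
  · have h1 : toUnit (F.obj X) ≫ Functor.LaxMonoidal.ε F ≫ F.map e = F.map (toUnit X ≫ e) := by
      rw [← Category.assoc, Functor.Monoidal.toUnit_ε, ← F.map_comp]
    rw [h1, ← F.map_id, ← Category.assoc, Functor.Monoidal.lift_μ, ← F.map_comp, h.left]

lemma shear_map : shear (Functor.LaxMonoidal.μ F X X ≫ F.map m) ≫ Functor.LaxMonoidal.μ F X X =
    Functor.LaxMonoidal.μ F X X ≫ F.map (shear m) := by
  have h1 : shear (Functor.LaxMonoidal.μ F X X ≫ F.map m) =
      lift (Functor.LaxMonoidal.μ F X X ≫ F.map m) (Functor.LaxMonoidal.μ F X X ≫ F.map (snd X X)) := by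
    rw [shear, Functor.Monoidal.μ_snd]
  rw [h1, ← comp_lift, Category.assoc, Functor.Monoidal.lift_μ, shear]

lemma isIso_map_shear (h : IsIso (shear (Functor.LaxMonoidal.μ F X X ≫ F.map m))) :
    IsIso (F.map (shear m)) := by
  have h1 : IsIso (Functor.LaxMonoidal.μ F X X ≫ F.map (shear m)) := by
    rw [← shear_map]
    infer_instance
  exact IsIso.of_isIso_comp_left (Functor.LaxMonoidal.μ F X X) _

end Functor

variable {S : Scheme.{u}} (X : Over S) [IsProper X.hom] [Flat X.hom]
  [LocallyOfFinitePresentation X.hom] [GeometricallyIntegral X.hom]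
  {m : X ⊗ X ⟶ X} {e : 𝟙_ (Over S) ⟶ X}

theorem isIso_shear (h : IsUnital m e) : IsIso (shear m) := by
  refine K448.FibreBC.isIso_of_geomFibres (shear m) fun K _ _ t => ?_
  apply isIso_map_shear
  have h1 : IsProper ((Over.pullback t).obj X).hom :=
    inferInstanceAs (IsProper (pullback.snd X.hom t))
  have h2 : GeometricallyIntegral ((Over.pullback t).obj X).hom :=
    inferInstanceAs (GeometricallyIntegral (pullback.snd X.hom t))
  exact K448.UnitalField.isIso_shear (isUnital_map (Over.pullback t) h)

theorem geometricallyConnected : GeometricallyConnected X.hom := by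
  refine ⟨fun K _ y Z fst snd h => ?_⟩
  have : IsIntegral Z := GeometricallyIntegral.geometrically_isIntegral (f := X.hom) y fst snd h
  infer_instance

/-- **S7787**. -/
theorem exists_grpObj (h : IsUnital m e) : ∃ G : GrpObj X, G.one = e ∧ G.mul = m := by
  have := geometricallyConnected X
  exact exists_grpObj_of_isIso_shear h (isIso_shear X h)

end K448.UnitalGroup
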