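import Groth.Agent.AbSch.K448.SmoothConn
import Groth.Agent.AbSch.K448.UnitalGroup
import Groth.Agent.AbSch.K448.PointedHom
import Groth.Agent.AbSch.K449.Basic
import Mathlib.AlgebraicGeometry.Morphisms.FlatRank

/-!
# The Serre–Lang theorem: finite étale covers of abelian schemes
-/

set_option autoImplicit false

universe u

open CategoryTheory CategoryTheory.Limits MonoidalCategory CartesianMonoidalCategory MonObj
  AlgebraicGeometry

namespace K448.SerreLang

open K448.RigidOver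

/-- The component of a proper scheme over `B` which contains a section. -/
theorem exists_component {B Z : Scheme.{u}} (g : Z ⟶ B) (δ : B ⟶ Z) [IsProper g]
    [Flat g] [LocallyOfFinitePresentation g] [GeometricallyReduced g] (hδ : δ ≫ g = 𝟙 B) :
    ∃ (Z₀ : Scheme.{u}) (j : Z₀ ⟶ Z), IsOpenImmersion j ∧ IsFinite j ∧
      GeometricallyConnected (j ≫ g) ∧ ∃ δ₀ : B ⟶ Z₀, δ₀ ≫ j = δ := by
  obtain ⟨hp1, hp2, hh1, hh2, hh3, hh4⟩ := Groth.Agent.Pi1.H381.SpecConn.stein g
  have w : g.toNormalization ≫ g.fromNormalization = g := g.toNormalization_fromNormalization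
  have hτ : (δ ≫ g.toNormalization) ≫ g.fromNormalization = 𝟙 B := by
    rw [Category.assoc, w, hδ]
  have h0 : FEt.prop (δ ≫ g.toNormalization) :=
    Groth.Agent.Pi1A.SteinCover.prop_of_comp _ g.fromNormalization
      (by rw [hτ]; exact FEt.prop.id_mem _) ⟨hp1, hp2⟩
  have h1 : IsFinite (δ ≫ g.toNormalization) := h0.1
  have h2 : Etale (δ ≫ g.toNormalization) := h0.2
  have h3 : Mono (δ ≫ g.toNormalization) := mono_of_mono_fac hτ
  have h4 : IsOpenImmersion (δ ≫ g.toNormalization) := IsOpenImmersion.of_flat_of_mono _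
  refine ⟨pullback g.toNormalization (δ ≫ g.toNormalization),
    pullback.fst _ _, inferInstance, inferInstance, ?_, pullback.lift δ (𝟙 B) (by simp),
    pullback.lift_fst _ _ _⟩
  have h5 : pullback.fst g.toNormalization (δ ≫ g.toNormalization) ≫ g =
      pullback.snd _ _ := by
    have h6 : pullback.fst g.toNormalization (δ ≫ g.toNormalization) ≫ g =
        pullback.fst g.toNormalization (δ ≫ g.toNormalization) ≫
          g.toNormalization ≫ g.fromNormalization := congrArg _ w.symm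
    rw [h6, ← Category.assoc, pullback.condition, Category.assoc, hτ, Category.comp_id]
  rw [h5]
  infer_instance

variable {S : Scheme.{u}}

/-- A morphism from a scheme with geometrically connected fibres with a section which lands in a
clopen subscheme along the section lands in it. -/
theorem exists_lift_clopen {T : Over S} [GeometricallyConnected T.hom] (e : 𝟙_ (Over S) ⟶ T)
    {Z Z₀ : Scheme.{u}} (j : Z₀ ⟶ Z) [IsOpenImmersion j] [IsFinite j] (t : T.left ⟶ Z)
    (h : ∀ s, t (e.left s) ∈ Set.range j) : ∃ t₀ : T.left ⟶ Z₀, t₀ ≫ j = t := by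
  have h1 : IsClopen (t ⁻¹' Set.range j) :=
    ⟨j.isClosedMap.isClosed_range.preimage t.continuous,
      j.isOpenEmbedding.isOpen_range.preimage t.continuous⟩
  have h2 : t ⁻¹' Set.range j = Set.univ := by
    refine eq_univ_of_isClopen e h1 ?_
    rintro _ ⟨s, rfl⟩
    exact h s
  refine ⟨IsOpenImmersion.lift j t ?_, IsOpenImmersion.lift_fac _ _ _⟩
  rintro _ ⟨x, rfl⟩
  exact h2.ge (Set.mem_univ x)

/-- Uniqueness of lifts to étale separated schemes. -/
theorem eq_of_lift {T X Y : Over S} [GeometricallyConnected T.hom] (e : 𝟙_ (Over S) ⟶ T)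
    (f : Y ⟶ X) [Etale f.left] [IsSeparated f.left] (g₁ g₂ : T ⟶ Y) (h : g₁ ≫ f = g₂ ≫ f)
    (he : e ≫ g₁ = e ≫ g₂) : g₁ = g₂ := by
  have h' : g₁.left ≫ f.left = g₂.left ≫ f.left := congrArg CommaMorphism.left h
  let t : T.left ⟶ pullback f.left f.left := pullback.lift g₁.left g₂.left h'
  obtain ⟨t₀, ht₀⟩ : ∃ t₀ : T.left ⟶ Y.left, t₀ ≫ pullback.diagonal f.left = t := by
    refine exists_lift_clopen e (pullback.diagonal f.left) t fun s => ?_
    refine ⟨(e ≫ g₁).left s, ?_⟩
    have h1 : (e ≫ g₁).left ≫ pullback.diagonal f.left = e.left ≫ t := by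
      apply pullback.hom_ext
      · rw [Category.assoc, pullback.diagonal_fst, Category.comp_id, Category.assoc,
          pullback.lift_fst, Over.comp_left]
      · rw [Category.assoc, pullback.diagonal_snd, Category.comp_id, Category.assoc,
          pullback.lift_snd, he, Over.comp_left]
    rw [← Scheme.Hom.comp_apply, h1, Scheme.Hom.comp_apply]
  have h1 : t₀ = g₁.left := by
    have h2 : (t₀ ≫ pullback.diagonal f.left) ≫ pullback.fst _ _ = t ≫ pullback.fst _ _ :=
      congrArg (fun k => k ≫ pullback.fst _ _) ht₀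
    rw [Category.assoc, pullback.diagonal_fst, Category.comp_id, pullback.lift_fst] at h2
    exact h2
  have h2 : t₀ = g₂.left := by
    have h2 : (t₀ ≫ pullback.diagonal f.left) ≫ pullback.snd _ _ = t ≫ pullback.snd _ _ :=
      congrArg (fun k => k ≫ pullback.snd _ _) ht₀
    rw [Category.assoc, pullback.diagonal_snd, Category.comp_id, pullback.lift_snd] at h2
    exact h2
  exact Over.OverMorphism.ext (h1.symm.trans h2)

/-- The section `(id, e)`. -/
theorem isPullback_section {Y : Over S} (e : 𝟙_ (Over S) ⟶ Y) :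
    IsPullback (lift (𝟙 Y) (toUnit Y ≫ e)).left Y.hom (snd Y Y).left e.left := by
  refine IsPullback.of_right (h₁₂ := (fst Y Y).left) (v₁₃ := Y.hom) (h₂₂ := Y.hom) ?_ ?_
    (isPullback_fst_snd Y Y)
  · have h1 : (lift (𝟙 Y) (toUnit Y ≫ e)).left ≫ (fst Y Y).left = 𝟙 Y.left := by
      rw [← Over.comp_left, lift_fst, Over.id_left]
    have h2 : e.left ≫ Y.hom = 𝟙 S := Over.w e
    rw [h1, h2]
    exact IsPullback.of_horiz_isIso ⟨by simp⟩
  · rw [← Over.comp_left, lift_snd, Over.comp_left]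
    congr 1

lemma left_unit {X Y : Over S} [GrpObj X] (f : Y ⟶ X) {e : 𝟙_ (Over S) ⟶ Y}
    (he : e ≫ f = η[X]) : lift (toUnit Y ≫ e) (𝟙 Y) ≫ (f ⊗ₘ f) ≫ μ[X] = f := by
  have h1 : lift (toUnit Y ≫ e) (𝟙 Y) ≫ (f ⊗ₘ f) = lift (toUnit Y ≫ η[X]) f := by
    rw [lift_map, Category.assoc, he, Category.id_comp]
  rw [← Category.assoc, h1]
  have h2 : (1 : Y ⟶ X) * f = f := one_mul f
  rwa [Hom.mul_def, Hom.one_def] at h2

lemma right_unit {X Y : Over S} [GrpObj X] (f : Y ⟶ X) {e : 𝟙_ (Over S) ⟶ Y}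
    (he : e ≫ f = η[X]) : lift (𝟙 Y) (toUnit Y ≫ e) ≫ (f ⊗ₘ f) ≫ μ[X] = f := by
  have h1 : lift (𝟙 Y) (toUnit Y ≫ e) ≫ (f ⊗ₘ f) = lift f (toUnit Y ≫ η[X]) := by
    rw [lift_map, Category.assoc, he, Category.id_comp]
  rw [← Category.assoc, h1]
  have h2 : f * (1 : Y ⟶ X) = f := mul_one f
  rwa [Hom.mul_def, Hom.one_def] at h2

/-- The multiplication on a finite étale cover of an abelian scheme. -/
theorem exists_mul {X Y : Over S} [GrpObj X] [IsProper X.hom] [Flat X.hom]
    [LocallyOfFinitePresentation X.hom] [Smooth X.hom] [GeometricallyConnected Y.hom] (f : Y ⟶ X)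
    [IsFinite f.left] [Etale f.left] {e : 𝟙_ (Over S) ⟶ Y} (he : e ≫ f = η[X]) :
    ∃ m : Y ⊗ Y ⟶ Y, K448.UnitalMul.IsUnital m e ∧ m ≫ f = (f ⊗ₘ f) ≫ μ[X] := by
  have hY : f.left ≫ X.hom = Y.hom := Over.w f
  have hY1 : IsProper Y.hom := by rw [← hY]; infer_instance
  have hY2 : Smooth Y.hom := by rw [← hY]; infer_instance
  have hY3 : Flat Y.hom := inferInstance
  have hY4 : LocallyOfFinitePresentation Y.hom := inferInstance
  let a : Y ⊗ Y ⟶ X := (f ⊗ₘ f) ≫ μ[X]
  let i₁ : Y ⟶ Y ⊗ Y := lift (toUnit Y ≫ e) (𝟙 Y)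
  let i₂ : Y ⟶ Y ⊗ Y := lift (𝟙 Y) (toUnit Y ≫ e)
  have hi₁ : i₁ ≫ a = f := left_unit f he
  have hi₂ : i₂ ≫ a = f := right_unit f he
  have hei : e ≫ i₁ = e ≫ i₂ := by
    simp only [i₁, i₂, comp_lift, Category.comp_id, ← Category.assoc]
    rw [toUnit_unique (e ≫ toUnit Y) (𝟙 _), Category.id_comp]
  let p : pullback a.left f.left ⟶ (Y ⊗ Y).left := pullback.fst _ _
  let c : pullback a.left f.left ⟶ Y.left := pullback.snd _ _
  let q : (Y ⊗ Y).left ⟶ Y.left := (snd Y Y).left
  have hpq : p ≫ a.left = c ≫ f.left := pullback.condition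
  let δ : Y.left ⟶ pullback a.left f.left := pullback.lift i₁.left (𝟙 Y.left)
    (by rw [← Over.comp_left, hi₁, Category.id_comp])
  let t : Y.left ⟶ pullback a.left f.left := pullback.lift i₂.left (𝟙 Y.left)
    (by rw [← Over.comp_left, hi₂, Category.id_comp])
  have hδp : δ ≫ p = i₁.left := pullback.lift_fst _ _ _
  have hδc : δ ≫ c = 𝟙 _ := pullback.lift_snd _ _ _
  have htp : t ≫ p = i₂.left := pullback.lift_fst _ _ _
  have htc : t ≫ c = 𝟙 _ := pullback.lift_snd _ _ _
  have hsmq : Smooth q := MorphismProperty.of_isPullback (isPullback_fst_snd Y Y) hY2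
  have hp1 : IsFinite p := inferInstance
  have hp2 : Etale p := inferInstance
  have hgr : GeometricallyReduced (p ≫ q) := K448.SmoothConn.geometricallyReduced (p ≫ q)
  have hδq : δ ≫ p ≫ q = 𝟙 _ := by
    rw [← Category.assoc, hδp, ← Over.comp_left, lift_snd, Over.id_left]
  obtain ⟨Z₀, j, hj1, hj2, hj3, δ₀, hδ₀⟩ := exists_component (p ≫ q) δ hδq
  have het : e.left ≫ δ = e.left ≫ t := by
    apply pullback.hom_ext
    · change (e.left ≫ δ) ≫ p = (e.left ≫ t) ≫ p
      rw [Category.assoc, Category.assoc, hδp, htp, ← Over.comp_left, ← Over.comp_left, hei]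
    · change (e.left ≫ δ) ≫ c = (e.left ≫ t) ≫ c
      rw [Category.assoc, Category.assoc, hδc, htc]
  obtain ⟨t₀, ht₀⟩ : ∃ t₀ : Y.left ⟶ Z₀, t₀ ≫ j = t := by
    refine exists_lift_clopen e j t fun s => ⟨δ₀ (e.left s), ?_⟩
    rw [← Scheme.Hom.comp_apply, ← Scheme.Hom.comp_apply, hδ₀, het]
    rfl
  have hp₀1 : IsFinite (j ≫ p) := inferInstance
  have hp₀2 : Etale (j ≫ p) := inferInstance
  have ht₀p : t₀ ≫ j ≫ p = i₂.left := by rw [← Category.assoc, ht₀, htp]
  have hδ₀p : δ₀ ≫ j ≫ p = i₁.left := by rw [← Category.assoc, hδ₀, hδp]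
  have hiso : IsIso (j ≫ p) := by
    -- the restriction to the section
    let r : pullback (j ≫ p) i₂.left ⟶ Y.left := pullback.snd _ _
    let τ : Y.left ⟶ pullback (j ≫ p) i₂.left := pullback.lift t₀ (𝟙 _)
      (by rw [ht₀p, Category.id_comp])
    have hτr : τ ≫ r = 𝟙 _ := pullback.lift_snd _ _ _
    have h0 : FEt.prop τ :=
      Groth.Agent.Pi1A.SteinCover.prop_of_comp τ r (by rw [hτr]; exact FEt.prop.id_mem _)
        ⟨inferInstance, inferInstance⟩
    have h1 : IsFinite τ := h0.1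
    have h2 : Etale τ := h0.2
    have h3 : Mono τ := mono_of_mono_fac hτr
    have h4 : IsOpenImmersion τ := IsOpenImmersion.of_flat_of_mono _
    have h5 : IsPullback (pullback.fst (j ≫ p) i₂.left) (r ≫ Y.hom) ((j ≫ p) ≫ q) e.left :=
      (IsPullback.of_hasPullback (j ≫ p) i₂.left).paste_vert (isPullback_section e)
    have h6 : GeometricallyConnected (r ≫ Y.hom) := by
      refine MorphismProperty.of_isPullback h5 ?_
      rw [Category.assoc]
      exact hj3
    have h7 : Set.range τ = Set.univ := by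
      have h8 : (e.left ≫ τ) ≫ r ≫ Y.hom = (𝟙_ (Over S)).hom := by
        rw [Category.assoc, reassoc_of% hτr, Over.w e]
      have h9 : GeometricallyConnected (Over.mk (r ≫ Y.hom)).hom := h6
      refine eq_univ_of_isClopen (T := Over.mk (r ≫ Y.hom)) (Over.homMk (e.left ≫ τ) h8)
        ⟨τ.isClosedMap.isClosed_range, τ.isOpenEmbedding.isOpen_range⟩ ?_
      rintro _ ⟨s, rfl⟩
      exact ⟨e.left s, rfl⟩
    have h8 : Surjective τ := ⟨Set.range_eq_univ.mp h7⟩
    have h9 : IsIso τ := IsOpenImmersion.isIso _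
    have h10 : IsIso r := IsIso.of_isIso_fac_left hτr
    have h11 : ∀ y : Y.left, Scheme.Hom.finrank (j ≫ p) (i₂.left y) = 1 := by
      intro y
      have h12 := Scheme.Hom.finrank_of_isPullback _ _ _ _
        (IsPullback.of_hasPullback (j ≫ p) i₂.left) y
      rw [← h12]
      exact congrFun (Scheme.Hom.finrank_eq_one_of_isIso r) y
    rw [Scheme.Hom.isIso_iff_finrank_eq]
    have h12 : {w | Scheme.Hom.finrank (j ≫ p) w = 1} = Set.univ := by
      refine eq_univ_of_isClopen (T := Y ⊗ Y) (e ≫ i₂)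
        ((Scheme.Hom.isLocallyConstant_finrank (j ≫ p)).isClopen_fiber 1) ?_
      rintro _ ⟨s, rfl⟩
      exact h11 (e.left s)
    ext w
    exact h12.ge (Set.mem_univ w)
  have hm : (inv (j ≫ p) ≫ j ≫ c) ≫ f.left = a.left := by
    rw [Category.assoc, Category.assoc, ← hpq, IsIso.inv_comp_eq, Category.assoc]
  refine ⟨Over.homMk (inv (j ≫ p) ≫ j ≫ c) ?_, ⟨?_, ?_⟩, ?_⟩
  · rw [← hY, ← Category.assoc, hm, Over.w]
  · apply Over.OverMorphism.ext
    change i₂.left ≫ inv (j ≫ p) ≫ j ≫ c = 𝟙 _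
    rw [← ht₀p, Category.assoc, IsIso.hom_inv_id_assoc, reassoc_of% ht₀, htc]
  · apply Over.OverMorphism.ext
    change i₁.left ≫ inv (j ≫ p) ≫ j ≫ c = 𝟙 _
    rw [← hδ₀p, Category.assoc, IsIso.hom_inv_id_assoc, reassoc_of% hδ₀, hδc]
  · apply Over.OverMorphism.ext
    exact hm

/-- **S7792**. -/
theorem existsUnique {X Y : Over S} [GrpObj X] [IsProper X.hom] [Flat X.hom]
    [LocallyOfFinitePresentation X.hom] [GeometricallyReduced X.hom]
    [GeometricallyConnected X.hom] [GeometricallyConnected Y.hom] (f : Y ⟶ X)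
    [IsFinite f.left] [Etale f.left] {e : 𝟙_ (Over S) ⟶ Y} (he : e ≫ f = η[X]) :
    ∃! h : GrpObj Y, h.one = e ∧ h.mul ≫ f = (f ⊗ₘ f) ≫ μ[X] := by
  have hY : f.left ≫ X.hom = Y.hom := Over.w f
  have hX : Smooth X.hom := K449.Basic.smooth X
  have hY1 : IsProper Y.hom := by rw [← hY]; infer_instance
  have hY2 : Smooth Y.hom := by rw [← hY]; infer_instance
  have hY3 : Flat Y.hom := inferInstance
  have hY4 : LocallyOfFinitePresentation Y.hom := inferInstance
  have hY5 : GeometricallyIntegral Y.hom := K448.SmoothConn.geometricallyIntegral Y.hom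
  have hY6 : GeometricallyReduced Y.hom := K448.SmoothConn.geometricallyReduced Y.hom
  obtain ⟨m, hm, hmf⟩ := exists_mul f he
  obtain ⟨G, hG1, hG2⟩ := K448.UnitalGroup.exists_grpObj Y hm
  refine ⟨G, ⟨hG1, by rw [hG2, hmf]⟩, fun G' hG' => ?_⟩
  exact K448.PointedHom.grpObj_ext G' G (hG'.1.trans hG1.symm)

end K448.SerreLang
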