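import Groth.Agent.AbSch.K448.FieldSplit
import Groth.Agent.AbSch.K452.TorsKit
import Groth.Agent.FlatA.EtaleSections

/-!
# Extensions of smooth connected commutative groups by abelian varieties are torsion, unconditional form

`exists_smooth`: an extension `0 → pts N → E → pts H → 0` with `N` smooth has a section over a nonempty smooth `H`-scheme.
`exists_splitting`: over an algebraically closed field, `T` smooth connected separated quasi-compact commutative, `A` an
abelian variety, `0 → pts A → E → pts T → 0` exact: there are `n ≥ 1` and `τ : pts T ⟶ E` with `τ ≫ q = n • 𝟙`.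
-/

set_option autoImplicit false
universe u
open CategoryTheory CategoryTheory.Limits MonoidalCategory CartesianMonoidalCategory MonObj AlgebraicGeometry
open CGrpSh Opposite

namespace K448.SmoothChart

open K448.ESec AlgSp K594.Elem

variable {S : Scheme.{u}} {N H : Over S} [GrpObj N] [IsCommMonObj N] [GrpObj H] [IsCommMonObj H]
  {E : BigSite.Ab Scheme.fppfPrecoverage S} {i : P N ⟶ E} {q : E ⟶ P H} {w : i ≫ q = 0}

/-- a section over a smooth chart -/
theorem exists_smooth (hex : (ShortComplex.mk i q w).ShortExact) [Smooth N.hom] [Nonempty S] :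
    ∃ (U : Over S) (p : U ⟶ H) (e : E.obj.obj (op U)), Smooth p.left ∧ Nonempty U.left ∧ ap q e = pt p := by
  obtain ⟨U, a, ha, hs⟩ := (K452.TorsKit.isAlgSpace i q w hex).atlas
  obtain ⟨p, hp⟩ : ∃ p : U ⟶ H, (yon S).map p = a ≫ K452.TorsKit.proj q := ⟨_, (yon S).map_preimage _⟩
  refine ⟨U, p, secEquiv a, ?_, ?_, ?_⟩
  · have hid : RepWith @Etale (𝟙 ((yon S).obj H)) := by
      rw [← (yon S).map_id]
      exact (repWith_yon_map_iff _ _).2 (inferInstanceAs (Etale (𝟙 H.left)))
    exact K452.TorsKit.locP_smooth i q w hex a (𝟙 _) p ha hid (by rw [Category.comp_id, hp])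
  · have h1 := (repWith_iff _ _).1 hs
    let g : (yon S).obj (𝟙_ (Over S)) ⟶ K452.TorsRep.sets.obj E :=
      secEquiv.symm (0 : E.obj.obj (op (𝟙_ (Over S))))
    have h2 : Surjective (h1.1.snd g).left := h1.2 g (h1.1.fst g) (h1.1.snd g) (h1.1.isPullback g)
    obtain ⟨s⟩ := ‹Nonempty S›
    obtain ⟨v, -⟩ := h2.surj s
    exact ⟨((yon S).preimage (h1.1.fst g)).left v⟩
  · refine (K452.TorsKit.proj_app_iff q (secEquiv a) p).mp ?_
    have h3 := congrArg (fun z => z.hom.app (op U) ⟨𝟙 U⟩) hp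
    change (⟨𝟙 U ≫ p⟩ : ((yon S).obj H).obj.obj (op U)) =
      (K452.TorsKit.proj q).hom.app (op U) (a.hom.app (op U) ⟨𝟙 U⟩) at h3
    rw [Category.id_comp, yonEquiv_apply, map_id_apply] at h3
    exact h3.symm

/-- a section over a nonempty etale chart -/
theorem exists_etale (hex : (ShortComplex.mk i q w).ShortExact) [Smooth N.hom] [Nonempty S] :
    ∃ (V : Over S) (f : V ⟶ H) (_ : Etale f.left) (_ : Nonempty V.left) (e : E.obj.obj (op V)), ap q e = pt f := by
  obtain ⟨U, p, e, hp, ⟨x⟩, he⟩ := exists_smooth hex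
  obtain ⟨V, g, v, hg, -, h, hh⟩ := Groth.Agent.FlatA.EtaleSections.exists_section p.left (p.left x) ⟨x, rfl⟩
  let V' : Over S := Over.mk (g ≫ H.hom)
  let h' : V' ⟶ U := Over.homMk h (by
    change h ≫ U.hom = g ≫ H.hom
    rw [← hh, Category.assoc, Over.w p])
  let g' : V' ⟶ H := Over.homMk g rfl
  have hg' : h' ≫ p = g' := Over.OverMorphism.ext hh
  refine ⟨V', g', hg, ⟨v⟩, r E h' e, ?_⟩
  rw [ap_r, he, r_pt, hg']

end K448.SmoothChart

namespace K448.FieldSplit

open K448.ESec

variable {k : Type u} [Field k] [IsAlgClosed k] {T A : Over (Spec (CommRingCat.of k))}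
    [GrpObj T] [IsCommMonObj T] [GrpObj A] [IsCommMonObj A]
    [Smooth T.hom] [QuasiCompact T.hom] [IsSeparated T.hom] [ConnectedSpace T.left]
    [IsProper A.hom] [Smooth A.hom] [ConnectedSpace A.left]

theorem exists_nsplitting
    {E : BigSite.Ab Scheme.fppfPrecoverage (Spec (CommRingCat.of k))} {i : P A ⟶ E} {q : E ⟶ P T}
    {w : i ≫ q = 0} (hex : (ShortComplex.mk i q w).ShortExact) :
    ∃ (n : ℕ), 1 ≤ n ∧ ∃ τ : P T ⟶ E, τ ≫ q = n • 𝟙 (P T) := by
  obtain ⟨V, f, h1, h2, e, he⟩ := K448.SmoothChart.exists_etale hex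
  exact exists_splitting hex f e he

end K448.FieldSplit
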