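import Mathlib

/-!
# Descent of morphisms to an affine open: the algebra
-/

set_option autoImplicit false
universe v u

open CategoryTheory CategoryTheory.Limits AlgebraicGeometry TensorProduct

namespace K448.UnibrAlg

/-- A morphism from an affine scheme with range in an affine open. -/
theorem exists_spec {X A : Scheme.{u}} [IsAffine X] {D : A.Opens} (hD : IsAffineOpen D) (α : X ⟶ A)
    (hα : Set.range α ⊆ (D : Set A)) :
    ∃ c : Γ(A, D) ⟶ Γ(X, ⊤), X.isoSpec.hom ≫ Spec.map c ≫ hD.fromSpec = α := by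
  have h1 := hD.isOpenImmersion_fromSpec
  have h2 : Set.range α ⊆ Set.range hD.fromSpec := by rwa [hD.range_fromSpec]
  let m := IsOpenImmersion.lift hD.fromSpec α h2
  refine ⟨Spec.preimage (X.isoSpec.inv ≫ m), ?_⟩
  rw [Spec.map_preimage, Category.assoc, Iso.hom_inv_id_assoc]
  exact IsOpenImmersion.lift_fac _ _ _

theorem exists_spec' {B : CommRingCat.{u}} {A : Scheme.{u}} {D : A.Opens} (hD : IsAffineOpen D) (α : Spec B ⟶ A)
    (hα : Set.range α ⊆ (D : Set A)) :
    ∃ c : Γ(A, D) ⟶ B, Spec.map c ≫ hD.fromSpec = α := by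
  have h1 := hD.isOpenImmersion_fromSpec
  have h2 : Set.range α ⊆ Set.range hD.fromSpec := by rwa [hD.range_fromSpec]
  let m := IsOpenImmersion.lift hD.fromSpec α h2
  refine ⟨Spec.preimage m, ?_⟩
  rw [Spec.map_preimage]
  exact IsOpenImmersion.lift_fac _ _ _

/-- Descent of a morphism to an affine open, given descent of the elements. -/
theorem exists_fac {B B' : CommRingCat.{u}} (i : B ⟶ B') (hi : Function.Injective i) {ι : Type v}
    {C C' : ι → CommRingCat.{u}} (j : ∀ k, C k ⟶ C' k) (g' : ∀ k, B' ⟶ C' k)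
    (hs : ∀ k, Surjective (Spec.map (j k)))
    (hall : ∀ f : B', (∀ k, ∃ c : C k, g' k f = j k c) → ∃ b : B, f = i b)
    {A : Scheme.{u}} {D : A.Opens} (hD : IsAffineOpen D) (α : Spec B' ⟶ A) (hα : Set.range α ⊆ (D : Set A))
    (β : ∀ k, Spec (C k) ⟶ A) (hβ : ∀ k, Spec.map (j k) ≫ β k = Spec.map (g' k) ≫ α) :
    ∃ a : Spec B ⟶ A, Spec.map i ≫ a = α := by
  have h1 := hD.isOpenImmersion_fromSpec
  obtain ⟨c, rfl⟩ := exists_spec' hD α hα
  have hr : ∀ k, Set.range (β k) ⊆ (D : Set A) := by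
    rintro k _ ⟨x, rfl⟩
    obtain ⟨y, rfl⟩ := (hs k).surj x
    have h2 : β k (Spec.map (j k) y) = (Spec.map (j k) ≫ β k) y := rfl
    rw [h2, hβ k]
    exact hα ⟨Spec.map (g' k) y, rfl⟩
  choose d hd using fun k => exists_spec' hD (β k) (hr k)
  have h3 : ∀ k, d k ≫ j k = c ≫ g' k := by
    intro k
    apply Spec.map_injective
    rw [← cancel_mono hD.fromSpec, Spec.map_comp, Spec.map_comp, Category.assoc, Category.assoc, hd k]
    exact hβ k
  have h4 : ∀ x : Γ(A, D), ∃ b : B, c x = i b := by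
    intro x
    refine hall (c x) fun k => ⟨d k x, ?_⟩
    have h5 := congrArg (fun z => z x) (congrArg CommRingCat.Hom.hom (h3 k))
    exact h5.symm
  choose e he using h4
  let e' : Γ(A, D) →+* B :=
    { toFun := e
      map_one' := hi (by rw [← he, map_one, map_one])
      map_mul' := fun x y => hi (by rw [← he, map_mul, map_mul, ← he, ← he])
      map_zero' := hi (by rw [← he, map_zero, map_zero])
      map_add' := fun x y => hi (by rw [← he, map_add, map_add, ← he, ← he]) }
  refine ⟨Spec.map (CommRingCat.ofHom e') ≫ hD.fromSpec, ?_⟩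
  rw [← Category.assoc, ← Spec.map_comp]
  congr 2
  ext x
  exact (he x).symm

end K448.UnibrAlg
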