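import Groth.Agent.AbSch.K448.UnibrLoc

/-!
# Descent along integral radicial morphisms from torsion loci
-/

set_option autoImplicit false
universe u

open CategoryTheory CategoryTheory.Limits MonoidalCategory CartesianMonoidalCategory MonObj AlgebraicGeometry

namespace K448.UnibrDesc

variable {S : Scheme.{u}}

/-- A good affine neighbourhood. -/
theorem exists_nhd {Y X A : Scheme.{u}} (q : Y ⟶ X) [Surjective q] [UniversallyInjective q] [IsIntegralHom q]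
    (a : Y ⟶ A) (x : X) (V : X.Opens) (hV : x ∈ V) :
    ∃ (D : A.Opens) (O : X.Opens), IsAffineOpen D ∧ IsAffineOpen O ∧ x ∈ O ∧ O ≤ V ∧
      ∀ y : Y, q y ∈ O → a y ∈ D := by
  obtain ⟨y, rfl⟩ := q.surjective x
  obtain ⟨D, hD, hyD, -⟩ := exists_isAffineOpen_mem_and_subset (x := a y) (U := ⊤) trivial
  have hcl : IsClosed (q '' (a ⁻¹ᵁ D : Set Y)ᶜ) := q.isClosedMap _ (a ⁻¹ᵁ D).2.isClosed_compl
  let O₁ : X.Opens := ⟨(q '' (a ⁻¹ᵁ D : Set Y)ᶜ)ᶜ, hcl.isOpen_compl⟩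
  have hy : q y ∈ O₁ := by
    rintro ⟨z, hz, hzy⟩
    have := q.injective hzy
    subst this
    exact hz hyD
  obtain ⟨O, hO, hyO, hOV⟩ := exists_isAffineOpen_mem_and_subset (x := q y) (U := V ⊓ O₁) ⟨hV, hy⟩
  refine ⟨D, O, hD, hO, hyO, fun _ h => (hOV h).1, fun z hz => ?_⟩
  by_contra hzD
  exact (hOV hz).2 ⟨z, hzD, rfl⟩

variable {T A X : Over S} [GrpObj T] [Smooth T.hom] [IsProper T.hom] [GeometricallyConnected T.hom]

/-- Glueing. -/
theorem exists_glue (S' : Over S) [QuasiCompact S'.hom] [IsSchemeTheoreticallyDominant S'.hom] [IsSeparated A.hom]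
    [Flat X.hom] (a' : S' ⊗ X ⟶ A)
    (h : ∀ x : X.left, ∃ (X₀ : Over S) (j : X₀ ⟶ X) (a₀ : X₀ ⟶ A), IsOpenImmersion j.left ∧ x ∈ Set.range j.left ∧
      snd S' X₀ ≫ a₀ = (S' ◁ j) ≫ a') :
    ∃ a : X ⟶ A, snd S' X ≫ a = a' := by
  choose X₀ j a₀ hj hx ha using h
  let 𝒰 : X.left.OpenCover := {
    I₀ := X.left, X x := (X₀ x).left, f x := (j x).left,
    mem₀ := by
      rw [Scheme.presieve₀_mem_precoverage_iff]
      exact ⟨fun x ↦ ⟨x, hx x⟩, hj⟩ }
  let φ : ∀ x, 𝒰.X x ⟶ A.left := fun x => (a₀ x).left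
  have hφ : ∀ m n, pullback.fst (𝒰.f m) (𝒰.f n) ≫ φ m = pullback.snd (𝒰.f m) (𝒰.f n) ≫ φ n := by
    intro m n
    let P : Over S := Over.mk (pullback.fst (𝒰.f m) (𝒰.f n) ≫ (X₀ m).hom)
    let p₁ : P ⟶ X₀ m := Over.homMk (pullback.fst (𝒰.f m) (𝒰.f n))
    let p₂ : P ⟶ X₀ n := Over.homMk (pullback.snd (𝒰.f m) (𝒰.f n)) (by
      change pullback.snd (𝒰.f m) (𝒰.f n) ≫ (X₀ n).hom = pullback.fst (𝒰.f m) (𝒰.f n) ≫ (X₀ m).hom
      rw [← Over.w (j m), ← Over.w (j n)]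
      exact pullback.condition_assoc _ |>.symm)
    have hp : p₁ ≫ j m = p₂ ≫ j n := Over.OverMorphism.ext pullback.condition
    have hPf : Flat P.hom := by
      have h1 : IsOpenImmersion (p₁ ≫ j m).left :=
        inferInstanceAs (IsOpenImmersion (pullback.fst (𝒰.f m) (𝒰.f n) ≫ 𝒰.f m))
      rw [← Over.w (p₁ ≫ j m)]
      infer_instance
    have hdom := (K630.AbExt.dom_snd S' P).1
    have h2 : p₁ ≫ a₀ m = p₂ ≫ a₀ n := by
      apply K630.AbExt.hom_ext_of_dom (snd S' P)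
      have h3 : ∀ (k) (p : P ⟶ X₀ k), snd S' P ≫ p ≫ a₀ k = (S' ◁ (p ≫ j k)) ≫ a' := by
        intro k p
        rw [whiskerLeft_comp, Category.assoc, ← ha, ← Category.assoc, ← Category.assoc, whiskerLeft_snd]
      rw [h3, h3, hp]
    exact congrArg (fun t => t.left) h2
  let g : X.left ⟶ A.left := 𝒰.glueMorphisms φ hφ
  have hg : ∀ n, (j n).left ≫ g = (a₀ n).left := fun n => Scheme.Cover.ι_glueMorphisms 𝒰 φ hφ n
  let b : X ⟶ A := Over.homMk g (by
    refine Scheme.Cover.hom_ext 𝒰 _ _ fun n => ?_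
    change (j n).left ≫ g ≫ A.hom = (j n).left ≫ X.hom
    rw [← Category.assoc, hg, Over.w, Over.w])
  have hb : ∀ n, j n ≫ b = a₀ n := fun n => Over.OverMorphism.ext (hg n)
  refine ⟨b, Over.OverMorphism.ext ?_⟩
  let q : (S' ⊗ X).left ⟶ X.left := (snd S' X).left
  refine Scheme.Cover.hom_ext (𝒰.pullback₁ q) _ _ fun (n : X.left) => ?_
  let Q : Over S := Over.mk (pullback.fst q (𝒰.f n) ≫ (S' ⊗ X).hom)
  let e : Q ⟶ S' ⊗ X := Over.homMk (pullback.fst q (𝒰.f n))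
  let r : Q ⟶ X₀ n := Over.homMk (pullback.snd q (𝒰.f n)) (by
    change pullback.snd q (𝒰.f n) ≫ (X₀ n).hom = pullback.fst q (𝒰.f n) ≫ (S' ⊗ X).hom
    rw [← Over.w (j n), ← Over.w (snd S' X)]
    exact pullback.condition_assoc _ |>.symm)
  have her : e ≫ snd S' X = r ≫ j n := Over.OverMorphism.ext pullback.condition
  let m : Q ⟶ S' ⊗ X₀ n := CartesianMonoidalCategory.lift (e ≫ fst S' X) r
  have hm : m ≫ (S' ◁ j n) = e := by
    apply CartesianMonoidalCategory.hom_ext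
    · simp only [m, Category.assoc, whiskerLeft_fst, CartesianMonoidalCategory.lift_fst]
    · simp only [m, Category.assoc, whiskerLeft_snd, CartesianMonoidalCategory.lift_snd_assoc, her]
  have h1 : e ≫ snd S' X ≫ b = e ≫ a' := by
    rw [← hm, Category.assoc, Category.assoc, ← ha, whiskerLeft_snd_assoc, hb]
  exact congrArg (fun t => t.left) h1

theorem exists_desc [IsLocallyNoetherian S] (S' : Over S) [IsIntegralHom S'.hom] [UniversallyInjective S'.hom]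
    [Surjective S'.hom] [IsSchemeTheoreticallyDominant S'.hom] [IsSeparated A.hom]
    (p : X ⟶ T) [Smooth p.left] (a' : S' ⊗ X ⟶ A)
    (H : ∀ s : S, ∃ (U : S.Opens) (l : ℕ), s ∈ U ∧ 2 ≤ l ∧ IsUnit (l : Γ(S, U)) ∧
      ∀ (k : ℕ) (W : Over S) [Smooth W.hom] (x : W ⟶ X), (x ≫ p) ^ (l ^ k) = 1 → Set.range W.hom ⊆ (U : Set S) →
        ∃ b : W ⟶ A, snd S' W ≫ b = (S' ◁ x) ≫ a') :
    ∃ a : X ⟶ A, snd S' X ≫ a = a' := by
  have hXs : Smooth X.hom := by
    rw [← Over.w p]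
    infer_instance
  refine exists_glue S' a' fun x => ?_
  obtain ⟨U, l, hU, hl2, hl, H⟩ := H (X.hom x)
  obtain ⟨V, hV, hxV, hVU⟩ := exists_isAffineOpen_mem_and_subset hU
  have i1 : Surjective (snd S' X).left := inferInstanceAs (Surjective (pullback.snd S'.hom X.hom))
  have i2 : UniversallyInjective (snd S' X).left :=
    UniversallyInjective.isStableUnderBaseChange.of_isPullback (IsPullback.of_hasPullback S'.hom X.hom) ‹_›
  have i3 : IsIntegralHom (snd S' X).left := inferInstanceAs (IsIntegralHom (pullback.snd S'.hom X.hom))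
  obtain ⟨D, O, hD, hO, hxO, hOV, hOD⟩ := exists_nhd (snd S' X).left a'.left x (X.hom ⁻¹ᵁ V) hxV
  have := hV.isOpenImmersion_fromSpec
  have hOi := hO.isOpenImmersion_fromSpec
  let ψ : Γ(S, V) ⟶ Γ(X.left, O) := X.hom.appLE V O hOV
  have hψ : Spec.map ψ ≫ hV.fromSpec = hO.fromSpec ≫ X.hom := hV.SpecMap_appLE_fromSpec X.hom hO hOV
  let X₀ : Over S := Over.mk (Spec.map ψ ≫ hV.fromSpec)
  let j : X₀ ⟶ X := Over.homMk hO.fromSpec hψ.symm
  have hj : IsOpenImmersion j.left := hOi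
  have hRn : IsNoetherianRing Γ(S, V) := IsLocallyNoetherian.component_noetherian ⟨V, hV⟩
  have hgs : Smooth (j ≫ p).left := inferInstanceAs (Smooth (j.left ≫ p.left))
  have hr : Set.range hV.fromSpec ⊆ (U : Set S) := by
    rw [hV.range_fromSpec]
    exact hVU
  have hr' : Set.range X₀.hom ⊆ (U : Set S) := by
    rintro _ ⟨y, rfl⟩
    exact hr ⟨Spec.map ψ y, rfl⟩
  have hrange : Set.range ((S' ◁ j) ≫ a').left ⊆ (D : Set A.left) := by
    rintro _ ⟨y, rfl⟩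
    rw [Over.comp_left, Scheme.Hom.comp_apply]
    apply hOD
    rw [← Scheme.Hom.comp_apply, ← Over.comp_left, whiskerLeft_snd, Over.comp_left, Scheme.Hom.comp_apply]
    have h1 : j.left ((snd S' X₀).left y) ∈ Set.range hO.fromSpec := ⟨_, rfl⟩
    rw [hO.range_fromSpec] at h1
    exact h1
  obtain ⟨a₀, ha₀⟩ := UnibrLoc.exists_local (A := A) S' hV.fromSpec ψ (j ≫ p) hl2 hl hr ((S' ◁ j) ≫ a') hD hrange
    fun n W _ y hy => by
      have hW : Set.range W.hom ⊆ (U : Set S) := by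
        rw [← Over.w y]
        rintro _ ⟨z, rfl⟩
        exact hr' ⟨y.left z, rfl⟩
      obtain ⟨b, hb⟩ := H n W (y ≫ j) (by rwa [Category.assoc]) hW
      refine ⟨b, ?_⟩
      rw [hb, whiskerLeft_comp, Category.assoc]
  refine ⟨X₀, j, a₀, hj, ?_, ha₀⟩
  change x ∈ Set.range hO.fromSpec
  rw [hO.range_fromSpec]
  exact hxO

end K448.UnibrDesc
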