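import Groth.Agent.AbSch.K450.TorsKer
import Groth.Agent.AbSch.K448.SmoothConn

/-!
# The torsion loci of a smooth morphism to an abelian scheme

For `g : X ⟶ T` smooth, `Z g N` is the locus where `g ^ N = 1`.

* `smooth_pow`: `g ^ N` is smooth if `N` is invertible on an open containing the image of `X`;
* `eq_zero`: a function on a fibre of an affine `X` vanishing on all `Z g (l ^ n)` is zero.
-/

set_option autoImplicit false
universe u

open CategoryTheory CategoryTheory.Limits MonoidalCategory CartesianMonoidalCategory MonObj AlgebraicGeometry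

namespace K448.UnibrFib

variable {S : Scheme.{u}} {T : Over S} [GrpObj T]

section Z

variable {X : Over S} (g : X ⟶ T) (N : ℕ)

/-- The locus where `g ^ N = 1`. -/
noncomputable abbrev Z : Scheme.{u} := pullback (g ^ N : X ⟶ T).left (η[T] : 𝟙_ (Over S) ⟶ T).left

/-- Its inclusion. -/
noncomputable abbrev z : Z g N ⟶ X.left := pullback.fst _ _

theorem z_hom : z g N ≫ X.hom = pullback.snd (g ^ N : X ⟶ T).left (η[T] : 𝟙_ (Over S) ⟶ T).left := by
  have h1 : z g N ≫ (g ^ N : X ⟶ T).left =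
    pullback.snd (g ^ N : X ⟶ T).left (η[T] : 𝟙_ (Over S) ⟶ T).left ≫ (η[T] : 𝟙_ (Over S) ⟶ T).left := pullback.condition
  have h2 := congrArg (fun z => z ≫ T.hom) h1
  simp only [Category.assoc, Over.w] at h2
  rw [h2]
  exact Category.comp_id _

/-- The inclusion over `S`. -/
noncomputable def zo : Over.mk (z g N ≫ X.hom) ⟶ X := Over.homMk (z g N) rfl

theorem zo_pow : (zo g N ≫ g) ^ N = 1 := by
  rw [← comp_pow]
  ext
  change z g N ≫ (g ^ N : X ⟶ T).left = _
  rw [pullback.condition]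
  have h : (1 : Over.mk (z g N ≫ X.hom) ⟶ T) = toUnit _ ≫ η[T] := rfl
  rw [h, Over.comp_left, ← z_hom]
  rfl

theorem exists_lift {W : Over S} (x : W ⟶ X) (hx : (x ≫ g) ^ N = 1) : ∃ c : W.left ⟶ Z g N, c ≫ z g N = x.left := by
  have h : x ≫ (g ^ N) = 1 := by rw [comp_pow, hx]
  refine ⟨pullback.lift x.left W.hom ?_, pullback.lift_fst _ _ _⟩
  have h2 := congrArg CommaMorphism.left h
  exact h2

instance [IsSeparated T.hom] : IsClosedImmersion (z g N) := by
  have h1 : IsClosedImmersion (η[T] : 𝟙_ (Over S) ⟶ T).left := by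
    have h2 : (η[T] : 𝟙_ (Over S) ⟶ T).left ≫ T.hom = 𝟙 S := Over.w η[T]
    have h3 : IsClosedImmersion ((η[T] : 𝟙_ (Over S) ⟶ T).left ≫ T.hom) := by
      rw [h2]; exact inferInstanceAs (IsClosedImmersion (𝟙 S))
    exact IsClosedImmersion.of_comp _ T.hom
  infer_instance

end Z

theorem isPullback_comp_mono {C : Type*} [Category C] {P X Y Z Z' : C} {a : P ⟶ X} {b : P ⟶ Y} {f : X ⟶ Z} {g : Y ⟶ Z}
    (h : IsPullback a b f g) (v : Z ⟶ Z') [Mono v] : IsPullback a b (f ≫ v) (g ≫ v) := by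
  refine ⟨⟨by rw [← Category.assoc, ← Category.assoc, h.w]⟩, ⟨PullbackCone.IsLimit.mk _
    (fun t => h.lift t.fst t.snd ?_) (fun t => h.lift_fst _ _ _) (fun t => h.lift_snd _ _ _) (fun t m h1 h2 => ?_)⟩⟩
  · have h4 := t.condition
    rwa [← Category.assoc, ← Category.assoc, cancel_mono] at h4
  · apply h.hom_ext
    · rw [h.lift_fst]; exact h1
    · rw [h.lift_snd]; exact h2

theorem smooth_of_comp_mono {X Y Z : Scheme.{u}} (f : X ⟶ Y) (g : Y ⟶ Z) [Mono g] [h : Smooth (f ≫ g)] : Smooth f := by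
  have : IsPullback (𝟙 X) f (f ≫ g) g := by
    refine ⟨⟨by simp⟩, ⟨PullbackCone.IsLimit.mk _ (fun s => s.fst) (fun s => ?_) (fun s => ?_) (fun s m h1 h2 => ?_)⟩⟩
    · simp
    · rw [← cancel_mono g, Category.assoc, s.condition]
    · simpa using h1
  exact MorphismProperty.of_isPullback this h

section Smooth

variable [Smooth T.hom] [IsProper T.hom] [GeometricallyConnected T.hom]

attribute [local instance] Functor.grpObjObj in
theorem smooth_pow {V : S.Opens} {N : ℕ} (hN : IsUnit (N : Γ(S, V))) {X : Over S} (g : X ⟶ T) [Smooth g.left]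
    (hX : Set.range X.hom ⊆ (V : Set S)) : Smooth (g ^ N : X ⟶ T).left := by
  have hX' : Set.range X.hom ⊆ Set.range V.ι := by
    rwa [Scheme.Opens.range_ι]
  let x' : X.left ⟶ V.toScheme := IsOpenImmersion.lift V.ι X.hom hX'
  have hx' : x' ≫ V.ι = X.hom := IsOpenImmersion.lift_fac _ _ _
  let TV := (Over.pullback V.ι).obj T
  have i1 : IsProper TV.hom := inferInstanceAs (IsProper (pullback.snd _ _))
  have i2 : Smooth TV.hom := inferInstanceAs (Smooth (pullback.snd _ _))
  have i3 : GeometricallyConnected TV.hom := inferInstanceAs (GeometricallyConnected (pullback.snd _ _))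
  have hN' : IsUnit (N : Γ(V.toScheme, ⊤)) := by
    have := hN.map V.topIso.inv.hom
    rwa [map_natCast] at this
  have h1 := K814.AbBasic.etale_pow TV hN'
  have h2 := (K448.FibreBC.isPullback_map_left V.ι (𝟙 T ^ N : T ⟶ T)).w
  rw [K517.SubAV.map_pow_one] at h2
  let g' : X.left ⟶ pullback T.hom V.ι := pullback.lift g.left x' (by rw [hx', Over.w])
  have hg' : g' ≫ pullback.fst T.hom V.ι = g.left := pullback.lift_fst _ _ _
  have h3 : Smooth g' := by
    have h4 : Smooth (g' ≫ pullback.fst T.hom V.ι) := by rw [hg']; infer_instance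
    exact smooth_of_comp_mono g' (pullback.fst T.hom V.ι)
  have h5 : (g ^ N : X ⟶ T).left = g' ≫ (𝟙 TV ^ N : TV ⟶ TV).left ≫ pullback.fst T.hom V.ι := by
    have h6 : g ^ N = g ≫ (𝟙 T ^ N) := by rw [comp_pow, Category.comp_id]
    rw [h6, Over.comp_left, ← hg', Category.assoc]
    congr 1
  rw [h5]
  infer_instance

variable {R : CommRingCat.{u}} (v : Spec R ⟶ S) [Mono v] {B : CommRingCat.{u}} (ψ : R ⟶ B)
  (g : Over.mk (Spec.map ψ ≫ v) ⟶ T)

/-- A smooth algebra over a field is reduced. -/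
theorem isReduced_of_smooth {k : Type u} [Field k] {F : CommRingCat.{u}} (i : CommRingCat.of k ⟶ F)
    [Smooth (Spec.map i)] : _root_.IsReduced F := by
  have h1 : IsReduced (Spec F) := by
    have := Groth.Agent.S1628.isReduced_stalk_of_smooth (Spec.map i)
    exact isReduced_of_isReduced_stalk _
  exact (affine_isReduced_iff F).1 h1

attribute [local instance] Functor.grpObjObj in
theorem eq_zero [Smooth g.left] {k : Type u} [Field k] (κ : R ⟶ CommRingCat.of k) {l : ℕ} (hl : (l : k) ≠ 0)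
    (hl2 : 2 ≤ l) {F : CommRingCat.{u}} (i₁ : CommRingCat.of k ⟶ F) (i₂ : B ⟶ F) (hF : IsPushout κ ψ i₁ i₂)
    {C F' : ℕ → CommRingCat.{u}} (c : ∀ n, B ⟶ C n)
    (hc : ∀ (n : ℕ) {W : Over S} (x : W ⟶ Over.mk (Spec.map ψ ≫ v)), (x ≫ g) ^ (l ^ n) = 1 →
      ∃ y : W.left ⟶ Spec (C n), y ≫ Spec.map (c n) = x.left)
    (j₁ : ∀ n, CommRingCat.of k ⟶ F' n) (j₂ : ∀ n, C n ⟶ F' n) (hF' : ∀ n, IsPushout κ (ψ ≫ c n) (j₁ n) (j₂ n))
    (d : ∀ n, F ⟶ F' n) (hd₁ : ∀ n, i₁ ≫ d n = j₁ n) (hd₂ : ∀ n, i₂ ≫ d n = c n ≫ j₂ n) (x : F)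
    (hx : ∀ n, d n x = 0) : x = 0 := by
  have hgi := K814.AbBasic.geometricallyIntegral T
  let s : Spec (CommRingCat.of k) ⟶ S := Spec.map κ ≫ v
  let G := (Over.pullback s).obj T
  have h1 : IsProper G.hom := inferInstanceAs (IsProper (pullback.snd T.hom s))
  have h2 : GeometricallyIntegral G.hom := inferInstanceAs (GeometricallyIntegral (pullback.snd T.hom s))
  -- the fibre
  have hP : IsPullback (Spec.map i₂) (Spec.map i₁) (Spec.map ψ ≫ v) s :=
    isPullback_comp_mono (isPullback_SpecMap_of_isPushout _ _ _ _ hF).flip v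
  have hγw : (Spec.map i₂ ≫ g.left) ≫ T.hom = Spec.map i₁ ≫ s := by
    rw [Category.assoc, Over.w g]
    exact hP.w
  let q : Spec F ⟶ pullback T.hom s := pullback.lift (Spec.map i₂ ≫ g.left) (Spec.map i₁) hγw
  have hq1 : q ≫ pullback.fst T.hom s = Spec.map i₂ ≫ g.left := pullback.lift_fst _ _ _
  have hq2 : q ≫ pullback.snd T.hom s = Spec.map i₁ := pullback.lift_snd _ _ _
  have hPq : IsPullback q (Spec.map i₂) (pullback.fst T.hom s) g.left := by
    have h5 : IsPullback (q ≫ pullback.snd T.hom s) (Spec.map i₂) s (g.left ≫ T.hom) := by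
      rw [hq2, Over.w g]
      exact hP.flip
    exact IsPullback.of_right h5 hq1 (IsPullback.of_hasPullback T.hom s).flip
  have hqs : Smooth q := MorphismProperty.of_isPullback hPq.flip ‹_›
  have hred : _root_.IsReduced F := by
    have h6 : Smooth (Spec.map i₁) := by
      rw [← hq2]
      have : Smooth (pullback.snd T.hom s) := inferInstance
      infer_instance
    exact isReduced_of_smooth i₁
  -- the open set where `x` is invertible
  let D : Set (Spec F) := (PrimeSpectrum.basicOpen x : Set (PrimeSpectrum F))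
  have hDo : IsOpen D := (PrimeSpectrum.basicOpen x).2
  have hqD : IsOpen (q '' D) := q.isOpenMap _ hDo
  have huniv : (q '' D)ᶜ = Set.univ := by
    refine K450.TorsDense.univ_of_torsion G l hl hl2 (q '' D)ᶜ hqD.isClosed_compl fun n T' y hy => ?_
    rintro _ ⟨t, rfl⟩ ⟨e, heD, he⟩
    obtain ⟨w, hw1, hw2⟩ := Scheme.Pullback.exists_preimage_pullback (f := y.left) (g := q) t e he.symm
    let a : pullback y.left q ⟶ Spec F := pullback.snd y.left q
    have haw : (a ≫ Spec.map i₂) ≫ Spec.map ψ ≫ v = (a ≫ Spec.map i₁) ≫ s := by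
      rw [Category.assoc, hP.w, Category.assoc]
    let ξ : Over.mk ((a ≫ Spec.map i₁) ≫ s) ⟶ Over.mk (Spec.map ψ ≫ v) := Over.homMk (a ≫ Spec.map i₂) haw
    let η' : Over.mk (a ≫ Spec.map i₁) ⟶ G := Over.homMk (a ≫ q) (by
      change (a ≫ q) ≫ pullback.snd T.hom s = a ≫ Spec.map i₁
      rw [Category.assoc, hq2])
    have h7 : η' ^ (l ^ n) = 1 := by
      have h8 : pullback.fst y.left q ≫ T'.hom = a ≫ Spec.map i₁ := by
        have h9 : y.left ≫ pullback.snd T.hom s = T'.hom := Over.w y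
        rw [← h9, ← Category.assoc, pullback.condition, Category.assoc, hq2]
      let m : Over.mk (a ≫ Spec.map i₁) ⟶ T' := Over.homMk (pullback.fst y.left q) h8
      have h10 : η' = m ≫ y := Over.OverMorphism.ext pullback.condition.symm
      rw [h10, ← comp_pow, hy, comp_one]
    have h11 : (ξ ≫ g) ^ (l ^ n) = 1 := by
      refine K450.TorsKer.adj_pow T (l ^ n) s η' h7 (ξ ≫ g) ?_
      change (a ≫ Spec.map i₂) ≫ g.left = (a ≫ q) ≫ pullback.fst T.hom s
      rw [Category.assoc, Category.assoc, hq1]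
    obtain ⟨r, hr⟩ := hc n ξ h11
    have hr' : r ≫ Spec.map (c n) = a ≫ Spec.map i₂ := hr
    have hPn := (isPullback_SpecMap_of_isPushout _ _ _ _ (hF' n))
    have h12 : (a ≫ Spec.map i₁) ≫ Spec.map κ = r ≫ Spec.map (ψ ≫ c n) := by
      rw [Spec.map_comp, ← Category.assoc r, hr', Category.assoc, Category.assoc]
      congr 1
      exact (isPullback_SpecMap_of_isPushout _ _ _ _ hF).w
    let b : pullback y.left q ⟶ Spec (F' n) := hPn.lift (a ≫ Spec.map i₁) r h12
    have h13 : b ≫ Spec.map (d n) = a := by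
      apply (isPullback_SpecMap_of_isPushout _ _ _ _ hF).hom_ext
      · rw [Category.assoc, ← Spec.map_comp, hd₁, hPn.lift_fst]
      · rw [Category.assoc, ← Spec.map_comp, hd₂, Spec.map_comp, ← Category.assoc, hPn.lift_snd, hr']
    have h14 : e = Spec.map (d n) (b w) := by
      rw [← hw2, ← Scheme.Hom.comp_apply, h13]
    have h15 : x ∈ (e : PrimeSpectrum F).asIdeal := by
      rw [h14]
      have h18 : d n x ∈ (b w : PrimeSpectrum (F' n)).asIdeal := by
        rw [hx]
        exact Ideal.zero_mem _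
      exact h18
    exact heD h15
  have hD : D = ∅ := by
    rw [Set.compl_univ_iff] at huniv
    exact Set.image_eq_empty.1 huniv
  have h16 : IsNilpotent x := by
    have h17 : PrimeSpectrum.basicOpen x = ⊥ := TopologicalSpace.Opens.ext hD
    rwa [PrimeSpectrum.basicOpen_eq_bot_iff] at h17
  exact h16.eq_zero

end Smooth

end K448.UnibrFib
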