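import Groth.Agent.AbSch.K448.UnibrFib
import Groth.Agent.AbSch.K448.UnibrAlg
import Groth.Agent.AbSch.K630.Nrm
import Groth.Agent.AbSch.K629.TensSep

/-!
# Descent along integral radicial morphisms from torsion loci: the local case
-/

set_option autoImplicit false
universe u

open CategoryTheory CategoryTheory.Limits MonoidalCategory CartesianMonoidalCategory MonObj AlgebraicGeometry TensorProduct

namespace K448.UnibrLoc

open K448.UnibrFib K448.UnibrAlg

variable {S : Scheme.{u}}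

theorem injective_of_dominant {B B' : CommRingCat.{u}} (i : B ⟶ B') [IsSchemeTheoreticallyDominant (Spec.map i)] :
    Function.Injective i := by
  have h1 : Function.Injective (Spec.map i).appTop := Scheme.Hom.app_injective (Spec.map i) ⊤
  have h2 := Scheme.ΓSpecIso_inv_naturality i
  intro a b hab
  have h5 : ∀ x, (Spec.map i).appTop ((Scheme.ΓSpecIso B).inv x) = (Scheme.ΓSpecIso B').inv (i x) := fun x =>
    (congrArg (fun z => z.hom x) h2).symm
  have h3 : (Scheme.ΓSpecIso B).inv a = (Scheme.ΓSpecIso B).inv b := by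
    apply h1
    rw [h5, h5, hab]
  have h6 := congrArg (Scheme.ΓSpecIso B).hom h3
  simpa using h6

section

variable (S' : Over S) {R : CommRingCat.{u}} (v : Spec R ⟶ S) {E : CommRingCat.{u}} (ρ : R ⟶ E)
  {R' : CommRingCat.{u}} (φ : R ⟶ R') (u : Spec R' ⟶ S'.left) (hu : IsPullback u (Spec.map φ) S'.hom v)
  {P : CommRingCat.{u}} (i₁ : R' ⟶ P) (i₂ : E ⟶ P) (hP : IsPushout φ ρ i₁ i₂)

include hu hP in
theorem isPullback : IsPullback (Spec.map i₁ ≫ u) (Spec.map i₂) S'.hom (Spec.map ρ ≫ v) := by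
  have h1 := isPullback_SpecMap_of_isPushout _ _ _ _ hP
  exact h1.paste_horiz hu

include hu hP in
/-- The comparison. -/
theorem exists_theta : ∃ θ : Spec P ⟶ (S' ⊗ Over.mk (Spec.map ρ ≫ v)).left, IsIso θ ∧
    θ ≫ (fst S' (Over.mk (Spec.map ρ ≫ v))).left = Spec.map i₁ ≫ u ∧
    θ ≫ (snd S' (Over.mk (Spec.map ρ ≫ v))).left = Spec.map i₂ := by
  have h1 := isPullback S' v ρ φ u hu i₁ i₂ hP
  exact ⟨h1.isoPullback.hom, inferInstance, h1.isoPullback_hom_fst, h1.isoPullback_hom_snd⟩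

end

theorem hall {R : Type u} [CommRing R] [IsNoetherianRing R] {B : Type u} [CommRing B] [Algebra R B] [Module.Flat R B]
    {C : ℕ → Type u} [∀ n, CommRing (C n)] [∀ n, Algebra R (C n)] [∀ n, Module.Flat R (C n)] (g : ∀ n, B →ₐ[R] C n)
    (h : ∀ (P : Ideal R) [P.IsPrime] (x : P.ResidueField ⊗[R] B),
      (∀ n, Algebra.TensorProduct.map (AlgHom.id R _) (g n) x = 0) → x = 0)
    {R' : Type u} [CommRing R'] [Algebra R R'] (f : R' ⊗[R] B)
    (hf : ∀ n, ∃ c : C n, Algebra.TensorProduct.map (AlgHom.id R R') (g n) f = Algebra.TensorProduct.includeRight c) :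
    ∃ b : B, f = Algebra.TensorProduct.includeRight b :=
  K629.TensSep.mem_range_of_forall (fun n => (g n).toLinearMap) (fun P _ x hx => h P x hx) R' f hf

section Local

variable {T A : Over S} [GrpObj T] [Smooth T.hom] [IsProper T.hom] [GeometricallyConnected T.hom]

theorem natCast_ne_zero {R : CommRingCat.{u}} (v : Spec R ⟶ S) {l : ℕ} {U : S.Opens} (hU : IsUnit (l : Γ(S, U)))
    (hv : Set.range v ⊆ (U : Set S)) : IsUnit (l : R) := by
  have h1 : (⊤ : (Spec R).Opens) ≤ v ⁻¹ᵁ U := fun x _ => hv ⟨x, rfl⟩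
  have h2 := (hU.map (v.appLE U ⊤ h1).hom).map (Scheme.ΓSpecIso R).hom.hom
  rwa [map_natCast, map_natCast] at h2

theorem exists_local (S' : Over S) [IsIntegralHom S'.hom] [Surjective S'.hom] [IsSchemeTheoreticallyDominant S'.hom]
    {R : CommRingCat.{u}} [IsNoetherianRing R] (v : Spec R ⟶ S) [IsOpenImmersion v] {B : CommRingCat.{u}} (ψ : R ⟶ B)
    (g : Over.mk (Spec.map ψ ≫ v) ⟶ T) [Smooth g.left] {l : ℕ} (hl2 : 2 ≤ l) {U : S.Opens}
    (hU : IsUnit (l : Γ(S, U))) (hv : Set.range v ⊆ (U : Set S)) (a₀ : S' ⊗ Over.mk (Spec.map ψ ≫ v) ⟶ A)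
    {D : A.left.Opens} (hD : IsAffineOpen D) (ha : Set.range a₀.left ⊆ (D : Set A.left))
    (H : ∀ (n : ℕ) (W : Over S) [Smooth W.hom] (x : W ⟶ Over.mk (Spec.map ψ ≫ v)), (x ≫ g) ^ (l ^ n) = 1 →
      ∃ b : W ⟶ A, snd S' W ≫ b = (S' ◁ x) ≫ a₀) :
    ∃ a : Over.mk (Spec.map ψ ≫ v) ⟶ A, snd S' (Over.mk (Spec.map ψ ≫ v)) ≫ a = a₀ := by
  have hlR := natCast_ne_zero v hU hv
  let X₀ : Over S := Over.mk (Spec.map ψ ≫ v)
  have hX₀ : Set.range X₀.hom ⊆ (U : Set S) := by
    rintro _ ⟨x, rfl⟩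
    exact hv ⟨Spec.map ψ x, rfl⟩
  have hXs : Smooth X₀.hom := by
    rw [← Over.w g]
    infer_instance
  have hψs : Smooth (Spec.map ψ) := by
    have : Smooth (Spec.map ψ ≫ v) := hXs
    exact smooth_of_comp_mono (Spec.map ψ) v
  have hN : ∀ n : ℕ, IsUnit ((l ^ n : ℕ) : Γ(S, U)) := fun n => by rw [Nat.cast_pow]; exact hU.pow n
  -- the torsion loci
  have hzs : ∀ n, Smooth (z g (l ^ n) ≫ X₀.hom) := fun n => by
    rw [z_hom]
    have := smooth_pow (hN n) g hX₀
    infer_instance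
  have hZa : ∀ n, IsAffine (Z g (l ^ n)) := fun n => by
    have : IsAffineHom (z g (l ^ n)) := inferInstance
    have hB : IsAffine X₀.left := inferInstanceAs (IsAffine (Spec B))
    exact isAffine_of_isAffineHom (z g (l ^ n))
  let C : ℕ → CommRingCat.{u} := fun n => Γ(Z g (l ^ n), ⊤)
  have hC : ∀ n, ∃ c : B ⟶ C n, (Z g (l ^ n)).isoSpec.hom ≫ Spec.map c = z g (l ^ n) := fun n =>
    ⟨Spec.preimage ((Z g (l ^ n)).isoSpec.inv ≫ z g (l ^ n)), by
      rw [Spec.map_preimage]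
      exact Iso.hom_inv_id_assoc _ _⟩
  choose c hc using hC
  have hWs : ∀ n, Smooth (Spec.map (ψ ≫ c n) ≫ v) := fun n => by
    have h1 : Spec.map (ψ ≫ c n) ≫ v = (Z g (l ^ n)).isoSpec.inv ≫ z g (l ^ n) ≫ X₀.hom := by
      rw [← hc n, Spec.map_comp]
      simp only [Category.assoc, Iso.inv_hom_id_assoc]
      rfl
    rw [h1]
    have := hzs n
    infer_instance
  let W : ℕ → Over S := fun n => Over.mk (Spec.map (ψ ≫ c n) ≫ v)
  have hWs' : ∀ n, Smooth (W n).hom := hWs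
  let x : ∀ n, W n ⟶ X₀ := fun n => Over.homMk (Spec.map (c n)) (by
    change Spec.map (c n) ≫ Spec.map ψ ≫ v = Spec.map (ψ ≫ c n) ≫ v
    rw [Spec.map_comp, Category.assoc])
  have hx : ∀ n, (x n ≫ g) ^ (l ^ n) = 1 := fun n => by
    let m : W n ⟶ Over.mk (z g (l ^ n) ≫ X₀.hom) := Over.homMk (Z g (l ^ n)).isoSpec.inv (by
      change (Z g (l ^ n)).isoSpec.inv ≫ z g (l ^ n) ≫ X₀.hom = Spec.map (ψ ≫ c n) ≫ v
      rw [← hc n, Spec.map_comp]
      simp only [Category.assoc, Iso.inv_hom_id_assoc]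
      rfl)
    have h1 : x n = m ≫ zo g (l ^ n) := by
      apply Over.OverMorphism.ext
      change Spec.map (c n) = (Z g (l ^ n)).isoSpec.inv ≫ z g (l ^ n)
      rw [← hc n, Iso.inv_hom_id_assoc]
    rw [h1, Category.assoc, ← comp_pow, zo_pow, comp_one]
  choose b hb using fun n => H n (W n) (x n) (hx n)
  -- the base change of `S'`
  have hQa : IsAffine (pullback S'.hom v) := isAffine_of_isAffineHom (pullback.snd S'.hom v)
  let R' : CommRingCat.{u} := Γ(pullback S'.hom v, ⊤)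
  obtain ⟨φ, hφ⟩ : ∃ φ : R ⟶ R', Spec.map φ = (pullback S'.hom v).isoSpec.inv ≫ pullback.snd S'.hom v :=
    ⟨Spec.preimage _, Spec.map_preimage _⟩
  obtain ⟨u, hu⟩ : ∃ u : Spec R' ⟶ S'.left, IsPullback u (Spec.map φ) S'.hom v := by
    refine ⟨(pullback S'.hom v).isoSpec.inv ≫ pullback.fst S'.hom v, ?_⟩
    rw [hφ]
    refine IsPullback.of_iso_pullback ⟨?_⟩ (pullback S'.hom v).isoSpec.symm rfl rfl
    simp only [Category.assoc, pullback.condition]
  -- tensor products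
  let aB : Algebra R B := ψ.hom.toAlgebra
  let aR' : Algebra R R' := φ.hom.toAlgebra
  let aC : ∀ n, Algebra R (C n) := fun n => (ψ ≫ c n).hom.toAlgebra
  let gA : ∀ n, B →ₐ[R] C n := fun n => { (c n).hom with commutes' := fun _ => rfl }
  have hfB : Module.Flat R B := (HasRingHomProperty.Spec_iff (P := @Flat)).1 (inferInstanceAs (Flat (Spec.map ψ)))
  have hfC : ∀ n, Module.Flat R (C n) := fun n => by
    have h1 : Smooth (Spec.map (ψ ≫ c n)) := by
      have := hWs n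
      exact smooth_of_comp_mono (Spec.map (ψ ≫ c n)) v
    exact (HasRingHomProperty.Spec_iff (P := @Flat)).1 (inferInstanceAs (Flat (Spec.map (ψ ≫ c n))))
  let P : CommRingCat.{u} := CommRingCat.of (R' ⊗[R] B)
  let i₁ : R' ⟶ P := CommRingCat.ofHom Algebra.TensorProduct.includeLeftRingHom
  let i₂ : B ⟶ P := CommRingCat.ofHom Algebra.TensorProduct.includeRight.toRingHom
  have hP : IsPushout φ ψ i₁ i₂ := CommRingCat.isPushout_tensorProduct R R' B
  let Pn : ℕ → CommRingCat.{u} := fun n => CommRingCat.of (R' ⊗[R] C n)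
  let j₁ : ∀ n, R' ⟶ Pn n := fun n => CommRingCat.ofHom Algebra.TensorProduct.includeLeftRingHom
  let j₂ : ∀ n, C n ⟶ Pn n := fun n => CommRingCat.ofHom Algebra.TensorProduct.includeRight.toRingHom
  have hPn : ∀ n, IsPushout φ (ψ ≫ c n) (j₁ n) (j₂ n) := fun n => CommRingCat.isPushout_tensorProduct R R' (C n)
  let d : ∀ n, P ⟶ Pn n := fun n =>
    CommRingCat.ofHom (Algebra.TensorProduct.map (AlgHom.id R R') (gA n)).toRingHom
  have hd₁ : ∀ n, i₁ ≫ d n = j₁ n := fun n => by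
    ext r
    change (Algebra.TensorProduct.map (AlgHom.id R R') (gA n)) (r ⊗ₜ[R] (1 : B)) = r ⊗ₜ[R] (1 : C n)
    rw [Algebra.TensorProduct.map_tmul, map_one]
    rfl
  have hd₂ : ∀ n, i₂ ≫ d n = c n ≫ j₂ n := fun n => by
    ext r
    change (Algebra.TensorProduct.map (AlgHom.id R R') (gA n)) ((1 : R') ⊗ₜ[R] r) = (1 : R') ⊗ₜ[R] (c n r)
    rw [Algebra.TensorProduct.map_tmul, map_one]
    rfl
  obtain ⟨θ, hθi, hθ1, hθ2⟩ := exists_theta S' v ψ φ u hu i₁ i₂ hP
  choose θn hθni hθn1 hθn2 using fun n => exists_theta S' v (ψ ≫ c n) φ u hu (j₁ n) (j₂ n) (hPn n)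
  have hdom := (K630.AbExt.dom_snd S' X₀).1
  have hdom' : IsSchemeTheoreticallyDominant (Spec.map i₂) := by
    rw [← hθ2]
    exact inferInstanceAs (IsSchemeTheoreticallyDominant (θ ≫ (snd S' X₀).left))
  have hi : Function.Injective i₂ := injective_of_dominant i₂
  have hXpb : IsPullback (fst S' X₀).left (snd S' X₀).left S'.hom X₀.hom := IsPullback.of_hasPullback _ _
  have key : ∀ n, θn n ≫ (S' ◁ x n).left = Spec.map (d n) ≫ θ := fun n => by
    apply hXpb.hom_ext
    · rw [Category.assoc, ← Over.comp_left, whiskerLeft_fst, Category.assoc]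
      refine (hθn1 n).trans ?_
      rw [hθ1, ← Category.assoc, ← Spec.map_comp, hd₁]
    · rw [Category.assoc, ← Over.comp_left, whiskerLeft_snd, Over.comp_left, Category.assoc]
      refine ((Category.assoc _ _ _).symm.trans (congrArg (fun t => t ≫ (x n).left) (hθn2 n))).trans ?_
      rw [hθ2, ← Spec.map_comp, hd₂, Spec.map_comp]
      rfl
  have hβ : ∀ n, Spec.map (j₂ n) ≫ (b n).left = Spec.map (d n) ≫ θ ≫ a₀.left := fun n => by
    have h1 : (snd S' (W n)).left ≫ (b n).left = (S' ◁ x n).left ≫ a₀.left := congrArg CommaMorphism.left (hb n)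
    have h2 : θn n ≫ (snd S' (W n)).left ≫ (b n).left = Spec.map (j₂ n) ≫ (b n).left :=
      (Category.assoc _ _ _).symm.trans (congrArg (fun t => t ≫ (b n).left) (hθn2 n))
    rw [← h2, h1, ← Category.assoc, ← Category.assoc, key]
  have hfib : ∀ (Q : Ideal R) [Q.IsPrime] (y : Q.ResidueField ⊗[R] B),
      (∀ n, Algebra.TensorProduct.map (AlgHom.id R _) (gA n) y = 0) → y = 0 := by
    intro Q _ y hy
    have hlQ : (l : Q.ResidueField) ≠ 0 := by
      have := hlR.map (algebraMap R Q.ResidueField)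
      rw [map_natCast] at this
      exact this.ne_zero
    refine eq_zero v ψ g (k := Q.ResidueField) (CommRingCat.ofHom (algebraMap R Q.ResidueField)) hlQ hl2
      (F := CommRingCat.of (Q.ResidueField ⊗[R] B)) _ _ (CommRingCat.isPushout_tensorProduct R Q.ResidueField B)
      (C := C) (F' := fun n => CommRingCat.of (Q.ResidueField ⊗[R] C n)) c ?_ _ _
      (fun n => CommRingCat.isPushout_tensorProduct R Q.ResidueField (C n))
      (fun n => CommRingCat.ofHom (Algebra.TensorProduct.map (AlgHom.id R Q.ResidueField) (gA n)).toRingHom) ?_ ?_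
      y hy
    · intro n W' w hw
      obtain ⟨m, hm⟩ := exists_lift g (l ^ n) w hw
      refine ⟨m ≫ (Z g (l ^ n)).isoSpec.hom, ?_⟩
      rw [Category.assoc, hc, hm]
    · intro n
      refine CommRingCat.hom_ext (RingHom.ext fun r => ?_)
      change (Algebra.TensorProduct.map (AlgHom.id R Q.ResidueField) (gA n)) (r ⊗ₜ[R] (1 : B)) = r ⊗ₜ[R] (1 : C n)
      rw [Algebra.TensorProduct.map_tmul, map_one]
      rfl
    · intro n
      ext r
      change (Algebra.TensorProduct.map (AlgHom.id R Q.ResidueField) (gA n)) ((1 : Q.ResidueField) ⊗ₜ[R] r) =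
        (1 : Q.ResidueField) ⊗ₜ[R] (c n r)
      rw [Algebra.TensorProduct.map_tmul, map_one]
      rfl
  obtain ⟨a, ha'⟩ := exists_fac i₂ hi j₂ d (fun n => MorphismProperty.of_isPullback
      (isPullback S' v (ψ ≫ c n) φ u hu (j₁ n) (j₂ n) (hPn n)) ‹_›)
    (fun f hf => hall gA hfib f hf) hD (θ ≫ a₀.left)
    (fun _ ⟨y, hy⟩ => ha ⟨θ y, hy⟩) (fun n => (b n).left) hβ
  have hsur : Surjective (Spec.map i₂) := MorphismProperty.of_isPullback
      (isPullback S' v ψ φ u hu i₁ i₂ hP) ‹_›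
  -- the morphism is over `S`
  have hw : a ≫ A.hom = Spec.map ψ ≫ v := by
    have h1 : Spec.map i₂ ≫ a ≫ A.hom = Spec.map i₂ ≫ Spec.map ψ ≫ v := by
      rw [← Category.assoc, ha', Category.assoc, Over.w a₀, ← hθ2, Category.assoc]
      congr 1
      exact (Over.w (snd S' X₀)).symm
    have h2 : Set.range (a ≫ A.hom) ⊆ Set.range v := by
      rintro _ ⟨y, rfl⟩
      obtain ⟨y', rfl⟩ := hsur.surj y
      rw [← Scheme.Hom.comp_apply, h1]
      exact ⟨_, rfl⟩
    let a₁ : Spec B ⟶ Spec R := IsOpenImmersion.lift v (a ≫ A.hom) h2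
    have ha₁ : a₁ ≫ v = a ≫ A.hom := IsOpenImmersion.lift_fac _ _ _
    obtain ⟨ψ', hψ'⟩ : ∃ ψ' : R ⟶ B, Spec.map ψ' = a₁ := ⟨Spec.preimage a₁, Spec.map_preimage _⟩
    have h3 : ψ' ≫ i₂ = ψ ≫ i₂ := by
      apply Spec.map_injective
      rw [← cancel_mono v, Spec.map_comp, Spec.map_comp, hψ', Category.assoc, ha₁, h1, Category.assoc]
    have h4 : ψ' = ψ := by
      ext r
      exact hi (congrArg (fun t => t.hom r) h3)
    rw [← ha₁, ← hψ', h4]
  refine ⟨Over.homMk a hw, ?_⟩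
  apply Over.OverMorphism.ext
  rw [← cancel_epi θ]
  change θ ≫ (snd S' X₀).left ≫ a = θ ≫ a₀.left
  rw [← ha', ← hθ2, Category.assoc]

end Local

end K448.UnibrLoc
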