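import Groth.Agent.AbSch.K448.RigidOver
import Mathlib.CategoryTheory.Monoidal.Cartesian.Mon

/-!
# Unital multiplications: points, shear
-/

set_option autoImplicit false

universe v u

open CategoryTheory CategoryTheory.Limits MonoidalCategory CartesianMonoidalCategory

namespace K448.UnitalMul

section Gen

variable {C : Type u} [Category.{v} C] [CartesianMonoidalCategory C] {X : C} (m : X ⊗ X ⟶ X)

/-- The product of two points with values in `T`. -/
def mp {T : C} (a b : T ⟶ X) : T ⟶ X := lift a b ≫ m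

lemma comp_mp {T T' : C} (f : T' ⟶ T) (a b : T ⟶ X) : f ≫ mp m a b = mp m (f ≫ a) (f ≫ b) := by
  simp [mp, comp_lift_assoc]

/-- The shear morphism `(x, y) ↦ (x y, y)`. -/
def shear : X ⊗ X ⟶ X ⊗ X := lift m (snd X X)

lemma shear_snd : shear m ≫ snd X X = snd X X := by simp [shear]

lemma shear_fst : shear m ≫ fst X X = m := by simp [shear]

lemma lift_shear {T : C} (a b : T ⟶ X) : lift a b ≫ shear m = lift (mp m a b) b := by
  ext <;> simp [shear, mp]

/-- A two-sided unit. -/
structure IsUnital (m : X ⊗ X ⟶ X) (e : 𝟙_ C ⟶ X) : Prop where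
  right : lift (𝟙 X) (toUnit X ≫ e) ≫ m = 𝟙 X
  left : lift (toUnit X ≫ e) (𝟙 X) ≫ m = 𝟙 X

variable {m} {e : 𝟙_ C ⟶ X}

lemma IsUnital.mp_unit (h : IsUnital m e) {T : C} (a : T ⟶ X) : mp m a (toUnit T ≫ e) = a := by
  have h1 : lift a (toUnit T ≫ e) = a ≫ lift (𝟙 X) (toUnit X ≫ e) := by ext <;> simp
  rw [mp, h1, Category.assoc, h.right, Category.comp_id]

lemma IsUnital.unit_mp (h : IsUnital m e) {T : C} (a : T ⟶ X) : mp m (toUnit T ≫ e) a = a := by
  have h1 : lift (toUnit T ≫ e) a = a ≫ lift (toUnit X ≫ e) (𝟙 X) := by ext <;> simp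
  rw [mp, h1, Category.assoc, h.left, Category.comp_id]

/-- If the shear morphism is an isomorphism and the multiplication is associative, we get a group. -/
theorem exists_grpObj (h : IsUnital m e) (hiso : IsIso (shear m))
    (hassoc : ∀ {T : C} (a b c : T ⟶ X), mp m (mp m a b) c = mp m a (mp m b c)) :
    ∃ G : GrpObj X, G.one = e ∧ G.mul = m := by
  let ι : X ⟶ X := lift (toUnit X ≫ e) (𝟙 X) ≫ inv (shear m) ≫ fst X X
  have h0 : lift (toUnit X ≫ e) (𝟙 X) ≫ inv (shear m) = lift ι (𝟙 X) := by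
    have h2 : inv (shear m) ≫ snd X X = snd X X := by
      rw [IsIso.inv_comp_eq, shear_snd]
    ext
    · simp [ι]
    · rw [Category.assoc, h2]; simp
  have h1 : mp m ι (𝟙 X) = toUnit X ≫ e := by
    have h2 := congrArg (fun t => t ≫ shear m) h0
    simp only [Category.assoc, IsIso.inv_hom_id, Category.comp_id, lift_shear] at h2
    have h3 := congrArg (fun t => t ≫ fst X X) h2
    simpa using h3.symm
  have h1' : ∀ {T : C} (a : T ⟶ X), mp m (a ≫ ι) a = toUnit T ≫ e := by
    intro T a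
    have := congrArg (fun t => a ≫ t) h1
    simp only [comp_mp, Category.comp_id] at this
    rw [this]
    simp
  have h2 : mp m (𝟙 X) ι = toUnit X ≫ e := by
    have h3 : mp m (mp m (𝟙 X) ι) (𝟙 X) = 𝟙 X := by
      rw [hassoc, h1, h.mp_unit]
    have h4 : mp m (toUnit X ≫ e) (𝟙 X) = 𝟙 X := h.unit_mp _
    have h5 : lift (mp m (𝟙 X) ι) (𝟙 X) ≫ shear m = lift (toUnit X ≫ e) (𝟙 X) ≫ shear m := by
      rw [lift_shear, lift_shear, h3, h4]
    rw [cancel_mono] at h5
    have h6 := congrArg (fun t => t ≫ fst X X) h5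
    simpa using h6
  refine ⟨
    { one := e
      mul := m
      one_mul := ?_
      mul_one := ?_
      mul_assoc := ?_
      inv := ι
      left_inv := h1
      right_inv := h2 }, rfl, rfl⟩
  · have := h.unit_mp (snd (𝟙_ C) X)
    have h7 : lift (toUnit _ ≫ e) (snd (𝟙_ C) X) = e ▷ X := by
      ext
      · simp [toUnit_unique (toUnit _) (fst (𝟙_ C) X)]
      · simp
    rw [mp, h7] at this
    rw [this, leftUnitor_hom]
  · have := h.mp_unit (fst X (𝟙_ C))
    have h7 : lift (fst X (𝟙_ C)) (toUnit _ ≫ e) = X ◁ e := by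
      ext
      · simp
      · simp [toUnit_unique (toUnit _) (snd X (𝟙_ C))]
    rw [mp, h7] at this
    rw [this, rightUnitor_hom]
  · have := hassoc (fst _ _ ≫ fst _ _) (fst (X ⊗ X) X ≫ snd _ _) (snd _ _)
    have e1 : mp m (fst (X ⊗ X) X ≫ fst _ _) (fst (X ⊗ X) X ≫ snd _ _) = fst _ _ ≫ m := by
      rw [← comp_mp, mp]; simp
    rw [e1] at this
    have e2 : mp m (fst (X ⊗ X) X ≫ m) (snd _ _) = (m ▷ X) ≫ m := by
      rw [mp]
      congr 1
      ext <;> simp
    rw [e2] at this
    rw [this, mp, ← Category.assoc]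
    congr 1
    have e3 : (α_ X X X).hom ≫ snd X (X ⊗ X) = lift (fst (X ⊗ X) X ≫ snd _ _) (snd _ _) := by
      ext <;> simp
    ext
    · simp
    · rw [lift_snd, Category.assoc, whiskerLeft_snd, ← Category.assoc, e3, mp]

end Gen

end K448.UnitalMul
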