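import Groth.Agent.AbSch.K448.UnitalMul
import Groth.Agent.S2387
import Groth.Agent.Books.AlgPts

/-!
# Unital multiplications over a field: the shear is an isomorphism near good rational points
-/

set_option autoImplicit false

universe u

open CategoryTheory CategoryTheory.Limits MonoidalCategory CartesianMonoidalCategory AlgebraicGeometry

namespace K448.UnitalNear

open K448.UnitalMul K448.RigidOver

variable {k : Type u} [Field k]

/-- A rational point is the spectrum of its residue field. -/
lemma fromSpecResidueField_eq {X : Scheme.{u}} (p : X ⟶ Spec (CommRingCat.of k))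
    (y : Spec (CommRingCat.of k) ⟶ X) (hy : y ≫ p = 𝟙 _) (z : X) (c : Spec (CommRingCat.of k))
    (hz : y c = z) :
    (X.fromSpecResidueField z ≫ p) ≫ y = X.fromSpecResidueField z := by
  obtain ⟨⟨z', φ⟩, hφ⟩ := (Scheme.SpecToEquivOfField k X).symm.surjective y
  have hφ' : Spec.map φ ≫ X.fromSpecResidueField z' = y := hφ
  have hz' : z' = z := by
    rw [← hz, ← hφ', Scheme.Hom.comp_apply, Scheme.fromSpecResidueField_apply]
  subst hz'
  have h1 : Spec.map φ ≫ (X.fromSpecResidueField z' ≫ p) = 𝟙 _ := by
    rw [← Category.assoc, hφ', hy]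
  obtain ⟨ψ, hψ⟩ := Spec.map_surjective (X.fromSpecResidueField z' ≫ p)
  have h2 : ψ ≫ φ = 𝟙 _ := by
    apply Spec.map_injective
    rw [Spec.map_comp, hψ, h1, Spec.map_id]
  have hφinj : Function.Injective φ.hom := φ.hom.injective
  have h3 : φ ≫ ψ = 𝟙 _ := by
    ext x
    apply hφinj
    have := congrArg (fun t => t.hom (φ.hom x)) h2
    simpa using this
  have h4 : (X.fromSpecResidueField z' ≫ p) ≫ Spec.map φ = 𝟙 _ := by
    rw [← hψ, ← Spec.map_comp, h3, Spec.map_id]
  rw [← hφ', ← Category.assoc, h4, Category.id_comp]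

variable {X : Over (Spec (CommRingCat.of k))} [IsProper X.hom] (m : X ⊗ X ⟶ X)

/-- The shear is an isomorphism near a rational point `y` whose right multiplication is an
isomorphism. -/
theorem exists_nhd (y : 𝟙_ (Over (Spec (CommRingCat.of k))) ⟶ X)
    (hy : IsIso (mp m (𝟙 X) (toUnit X ≫ y))) :
    ∃ U : X.left.Opens, y.left (IsLocalRing.closedPoint k) ∈ U ∧
      IsIso ((shear m).left ∣_ ((snd X X).left ⁻¹ᵁ U)) := by
  have hN : IsLocallyNoetherian X.left := LocallyOfFiniteType.isLocallyNoetherian X.hom
  have hflat : Flat X.hom := inferInstance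
  have w : (shear m).left ≫ (snd X X).left = (snd X X).left := by
    rw [← Over.comp_left, shear_snd]
  set z : X.left := y.left (IsLocalRing.closedPoint k) with hz
  let j := (X ◁ y).left
  let R := (mp m (𝟙 X) (toUnit X ≫ y) ▷ 𝟙_ (Over (Spec (CommRingCat.of k)))).left
  have hR : IsIso R := by
    have h1 : IsIso (mp m (𝟙 X) (toUnit X ≫ y) ▷ 𝟙_ (Over (Spec (CommRingCat.of k)))) :=
      inferInstance
    exact inferInstanceAs (IsIso ((Over.forget (Spec (CommRingCat.of k))).map
      (mp m (𝟙 X) (toUnit X ≫ y) ▷ 𝟙_ (Over (Spec (CommRingCat.of k))))))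
  have hj : IsPullback j (snd X _).left (snd X X).left y.left := isPullback_whiskerLeft X y
  have hRj : R ≫ j = j ≫ (shear m).left := by
    have : mp m (𝟙 X) (toUnit X ≫ y) ▷ 𝟙_ _ ≫ X ◁ y = X ◁ y ≫ shear m := by
      refine CartesianMonoidalCategory.hom_ext _ _ ?_ ?_
      · have h2 : X ◁ y ≫ m = fst X (𝟙_ _) ≫ mp m (𝟙 X) (toUnit X ≫ y) := by
          rw [comp_mp, mp]
          congr 1
          refine CartesianMonoidalCategory.hom_ext _ _ ?_ ?_
          · simp
          · rw [whiskerLeft_snd, lift_snd, ← Category.assoc,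
              toUnit_unique (fst X (𝟙_ _) ≫ toUnit X) (snd X (𝟙_ _))]
        rw [Category.assoc, whiskerLeft_fst, whiskerRight_fst, Category.assoc, shear_fst, h2]
      · rw [Category.assoc, whiskerLeft_snd, whiskerRight_snd_assoc, Category.assoc, shear_snd,
          whiskerLeft_snd]
    exact congrArg CommaMorphism.left this
  have hsq : IsPullback j R (shear m).left j := by
    refine IsPullback.of_bot (h₃₁ := y.left) (v₂₁ := (snd X _).left) (v₂₂ := (snd X X).left)
      ?_ hRj.symm hj
    rw [w]
    have : R ≫ (snd X _).left = (snd X _).left := by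
      rw [← Over.comp_left, whiskerRight_snd]
    rw [this]
    exact hj
  have hfac : ((snd X X).left.fiberι z) ≫ (snd X X).left =
      ((snd X X).left.fiberToSpecResidueField z ≫ X.left.fromSpecResidueField z ≫ X.hom) ≫ y.left := by
    rw [Category.assoc, fromSpecResidueField_eq X.hom y.left (Over.w y) z _ rfl]
    exact pullback.condition
  obtain ⟨l, hl, -⟩ : ∃ l : (snd X X).left.fiber z ⟶ (X ⊗ 𝟙_ (Over (Spec (CommRingCat.of k)))).left,
      l ≫ j = (snd X X).left.fiberι z ∧ l ≫ (snd X _).left =
      ((snd X X).left.fiberToSpecResidueField z ≫ X.left.fromSpecResidueField z ≫ X.hom) :=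
    ⟨hj.lift _ _ hfac, hj.lift_fst _ _ hfac, hj.lift_snd _ _ hfac⟩
  have hfm := Groth.Agent.Ega3B.FibreSpread.isPullback_fiberMapOver (shear m).left (snd X X).left
    (snd X X).left w z
  have hiso : IsIso (CohIII.fiberMapOver (shear m).left (snd X X).left (snd X X).left w z) := by
    have hfm' : IsPullback (CohIII.fiberMapOver (shear m).left (snd X X).left (snd X X).left w z)
        ((snd X X).left.fiberι z) (l ≫ j) (shear m).left := by
      rw [hl]; exact hfm
    obtain ⟨l', hl'1, hl'2⟩ : ∃ l', l' ≫ j = (snd X X).left.fiberι z ∧ l' ≫ R =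
        CohIII.fiberMapOver (shear m).left (snd X X).left (snd X X).left w z ≫ l := by
      have e : (snd X X).left.fiberι z ≫ (shear m).left =
        (CohIII.fiberMapOver (shear m).left (snd X X).left (snd X X).left w z ≫ l) ≫ j := by
        rw [Category.assoc, hfm'.w]
      exact ⟨hsq.lift _ _ e, hsq.lift_fst _ _ e, hsq.lift_snd _ _ e⟩
    have h5 : IsPullback l' (CohIII.fiberMapOver (shear m).left (snd X X).left (snd X X).left w z)
        R l := by
      refine IsPullback.of_right (h₁₂ := j) (v₁₃ := (shear m).left) (h₂₂ := j) ?_ hl'2 hsq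
      rw [hl'1]
      exact hfm'.flip
    exact (MorphismProperty.isomorphisms Scheme).of_isPullback h5 hR
  exact Groth.Agent.S2387.result (shear m).left (snd X X).left (snd X X).left w z

end K448.UnitalNear
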