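import Groth.Agent.AbSch.K448.UnitalMul

/-!
# Associativity of a unital multiplication whose shear is an isomorphism, by rigidity
-/

set_option autoImplicit false

universe u

open CategoryTheory CategoryTheory.Limits MonoidalCategory CartesianMonoidalCategory AlgebraicGeometry

namespace K448.UnitalRigid

open K448.UnitalMul K448.RigidOver

section Div

universe v

variable {C : Type u} [Category.{v} C] [CartesianMonoidalCategory C] {X : C} {m : X ⊗ X ⟶ X}
  {e : 𝟙_ C ⟶ X}

/-- Right division. -/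
noncomputable def dv (m : X ⊗ X ⟶ X) [IsIso (shear m)] {T : C} (a b : T ⟶ X) : T ⟶ X :=
  lift a b ≫ inv (shear m) ≫ fst X X

variable [IsIso (shear m)]

lemma inv_shear_snd : inv (shear m) ≫ snd X X = snd X X := by
  rw [IsIso.inv_comp_eq, shear_snd]

lemma comp_dv {T T' : C} (f : T' ⟶ T) (a b : T ⟶ X) : f ≫ dv m a b = dv m (f ≫ a) (f ≫ b) := by
  simp [dv, comp_lift_assoc]

lemma lift_inv_shear {T : C} (a b : T ⟶ X) : lift a b ≫ inv (shear m) = lift (dv m a b) b := by
  ext
  · simp [dv]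
  · simp [inv_shear_snd]

lemma mp_dv {T : C} (a b : T ⟶ X) : mp m (dv m a b) b = a := by
  have h0 : inv (shear m) ≫ m = fst X X := by
    rw [IsIso.inv_comp_eq, shear_fst]
  have h := congrArg (fun t => t ≫ m) (lift_inv_shear (m := m) a b)
  simp only [Category.assoc, h0, lift_fst] at h
  exact h.symm

lemma dv_mp {T : C} (a b : T ⟶ X) : dv m (mp m a b) b = a := by
  have h : lift (mp m a b) b ≫ inv (shear m) = lift a b := by
    rw [← lift_shear, Category.assoc, IsIso.hom_inv_id, Category.comp_id]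
  rw [lift_inv_shear] at h
  have := congrArg (fun t => t ≫ fst X X) h
  simpa using this

lemma dv_self (h : IsUnital m e) {T : C} (a : T ⟶ X) : dv m a a = toUnit T ≫ e := by
  have := dv_mp (m := m) (toUnit T ≫ e) a
  rwa [h.unit_mp] at this

end Div

variable {S : Scheme.{u}} {X : Over S} [IsProper X.hom] [Flat X.hom]
  [LocallyOfFinitePresentation X.hom] [GeometricallyConnected X.hom] [GeometricallyReduced X.hom]
  {m : X ⊗ X ⟶ X} {e : 𝟙_ (Over S) ⟶ X}

/-- A unital multiplication on an `S`-scheme which is proper, flat, finitely presented with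
geometrically connected and reduced fibres is associative as soon as its shear morphism is an
isomorphism. -/
theorem assoc_of_isIso_shear (h : IsUnital m e) (hiso : IsIso (shear m)) {T : Over S}
    (a b c : T ⟶ X) : mp m (mp m a b) c = mp m a (mp m b c) := by
  let x : X ⊗ (X ⊗ X) ⟶ X := fst _ _
  let y : X ⊗ (X ⊗ X) ⟶ X := snd _ _ ≫ fst _ _
  let z : X ⊗ (X ⊗ X) ⟶ X := snd _ _ ≫ snd _ _
  let A := mp m (mp m x y) z
  let B := mp m x (mp m y z)
  let D : X ⊗ (X ⊗ X) ⟶ X := dv m A B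
  have h1 : X ◁ (lift e e : 𝟙_ (Over S) ⟶ X ⊗ X) ≫ D = toUnit _ ≫ e := by
    have ex : X ◁ (lift e e : 𝟙_ (Over S) ⟶ X ⊗ X) ≫ x = fst _ _ := by simp [x]
    have ey : X ◁ (lift e e : 𝟙_ (Over S) ⟶ X ⊗ X) ≫ y = toUnit _ ≫ e := by
      simp [y, toUnit_unique (toUnit _) (snd X (𝟙_ (Over S)))]
    have ez : X ◁ (lift e e : 𝟙_ (Over S) ⟶ X ⊗ X) ≫ z = toUnit _ ≫ e := by
      simp [z, toUnit_unique (toUnit _) (snd X (𝟙_ (Over S)))]
    simp only [D, A, B, comp_dv, comp_mp, ex, ey, ez, h.mp_unit, dv_self h]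
  have h2 := eq_of_section D (lift e e) e e h1
  have h3 : lift (toUnit (X ⊗ X) ≫ e) (𝟙 (X ⊗ X)) ≫ D = toUnit _ ≫ e := by
    have ex : lift (toUnit (X ⊗ X) ≫ e) (𝟙 (X ⊗ X)) ≫ x = toUnit _ ≫ e := by simp [x]
    have ey : lift (toUnit (X ⊗ X) ≫ e) (𝟙 (X ⊗ X)) ≫ y = fst _ _ := by simp [y]
    have ez : lift (toUnit (X ⊗ X) ≫ e) (𝟙 (X ⊗ X)) ≫ z = snd _ _ := by simp [z]
    simp only [D, A, B, comp_dv, comp_mp, ex, ey, ez, h.unit_mp, dv_self h]
  have h4 : D = toUnit _ ≫ e := by
    rw [h2, h3]; simp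
  have h5 : A = B := by
    rw [← mp_dv (m := m) A B]
    change mp m D B = B
    rw [h4, h.unit_mp]
  have h6 := congrArg (fun t => lift a (lift b c) ≫ t) h5
  simpa only [A, B, comp_mp, x, y, z, lift_fst, lift_snd, lift_fst_assoc, lift_snd_assoc] using h6

/-- Group structure from a unital multiplication whose shear is an isomorphism. -/
theorem exists_grpObj_of_isIso_shear (h : IsUnital m e) (hiso : IsIso (shear m)) :
    ∃ G : GrpObj X, G.one = e ∧ G.mul = m :=
  exists_grpObj h hiso (fun a b c => assoc_of_isIso_shear h hiso a b c)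

end K448.UnitalRigid
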